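import Groth.Agent.EtQCoh.WeakAssPts
import Groth.Agent.AlgSpDec.Fibres
import Groth.Prelude.Def_AlgSp3
import Mathlib.RingTheory.Ideal.MinimalPrime.Basic

/-!
# Weakly associated points of direct images along affine morphisms
-/

set_option backward.isDefEq.respectTransparency false
set_option backward.isDefEq.respectTransparency.types false
set_option linter.style.haveILetI false

universe u

open CategoryTheory CategoryTheory.Limits AlgebraicGeometry Opposite AlgSp TensorProduct

namespace Groth.Agent.EtQCoh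

open Groth.Agent.AlgSpQ4.MV Groth.Agent.AlgSpDec Groth.Agent.WeakAss

variable {S : Scheme.{u}} {X Y : Sp S} {f : X ⟶ Y} (hf : Representable f)

theorem isAffine_bc (haff : IsAffineMor f) (E : EtOver Y) [IsAffine E.obj.left.left] :
    IsAffine ((EtOver.bc hf).obj E).obj.left.left := by
  obtain ⟨W, i, fst, hpb, hW⟩ := haff (Z := E.obj.left) inferInstance E.obj.hom
  let e := (yon S).preimageIso ((hf.isPullback E.obj.hom).isoIsPullback _ _ hpb)
  have : IsAffine ((Over.forget S).obj W) := hW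
  exact IsAffine.of_isIso ((Over.forget S).mapIso e).hom

theorem isFinite_bcπ (hfin : IsFiniteMor f) (E : EtOver Y) [IsAffine E.obj.left.left] :
    IsFinite (EtOver.bcπ hf E).left := by
  obtain ⟨W, i, fst, hpb, hW, hi⟩ := hfin (Z := E.obj.left) inferInstance E.obj.hom
  let e := (yon S).preimageIso ((hf.isPullback E.obj.hom).isoIsPullback _ _ hpb)
  have h : e.hom ≫ i = EtOver.bcπ hf E := (yon S).map_injective (by
    rw [Functor.map_comp, Functor.preimageIso_hom, Functor.map_preimage]
    exact IsPullback.isoIsPullback_hom_snd _ _ _ _)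
  rw [← h, Over.comp_left]
  have : IsFinite i.left := hi
  infer_instance

theorem isAffineMor_of_finite (hfin : IsFiniteMor f) : IsAffineMor f := fun Z hZ g => by
  obtain ⟨W, i, fst, h, hW, -⟩ := hfin hZ g
  exact ⟨W, i, fst, h, hW⟩

theorem ofPt_bcπ (E : EtOver Y) (z : ↥((EtOver.bc hf).obj E).obj.left.left) :
    Points.map f (Points.ofPt ((EtOver.bc hf).obj E).obj.hom z) =
      Points.ofPt E.obj.hom ((EtOver.bcπ hf E).left z) := by
  rw [Points.map_ofPt, ← AlgSpLib.ofPt_comp]
  exact congrArg (fun k => Points.ofPt k z) ((hf.isPullback E.obj.hom).w.trans rfl)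

/-- The annihilator of a section of a direct image. -/
theorem annSect_push (M : ModEt X) (E : EtOver Y) (s : sectModEt ((pushModEt hf).obj M) E) :
    annSect s = (annSect (M := M) (E := (EtOver.bc hf).obj E) s).comap (EtOver.bcπ hf E).left.appTop.hom := by
  ext a
  rw [Ideal.mem_comap, mem_annSect_iff, mem_annSect_iff]
  rfl

theorem primeAtPt_surjective {U : Scheme.{u}} [IsAffine U] (P : Ideal Γ(U, ⊤)) [P.IsPrime] :
    ∃ w : U, primeAtPt U w = P := AlgSpLib.Cartier.exists_primeAtPt_eq P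

theorem primeAtPt_injective {U : Scheme.{u}} [IsAffine U] {v w : U} (h : primeAtPt U v = primeAtPt U w) : v = w := by
  rw [AlgSpLib.Cartier.primeAtPt_eq, AlgSpLib.Cartier.primeAtPt_eq] at h
  have e := congrArg (isAffineOpen_top U).fromSpec (PrimeSpectrum.ext h)
  rwa [(isAffineOpen_top U).fromSpec_primeIdealOf, (isAffineOpen_top U).fromSpec_primeIdealOf] at e

theorem weakAssEt_push_subset (haff : IsAffineMor f) (M : ModEt X) :
    WeakAssEt ((pushModEt hf).obj M) ⊆ Points.map f '' WeakAssEt M := by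
  rintro _ ⟨E, hE, u, rfl, s, hs⟩
  have hA := isAffine_bc hf haff E
  rw [annSect_push] at hs
  obtain ⟨q, hq, hqp⟩ := Ideal.exists_minimalPrimes_comap_eq (EtOver.bcπ hf E).left.appTop.hom _ hs
  have : q.IsPrime := hq.1.1
  have : IsAffine (EtOver.bcObj hf E).obj.left.left := hA
  obtain ⟨w, hw⟩ := primeAtPt_surjective q
  refine ⟨Points.ofPt ((EtOver.bc hf).obj E).obj.hom w, ⟨_, hA, w, rfl, s, hw.symm ▸ hq⟩, ?_⟩
  rw [ofPt_bcπ]
  congr 1
  have e : primeAtPt E.obj.left.left ((EtOver.bcπ hf E).left w) = primeAtPt E.obj.left.left u := by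
    rw [← comap_primeAtPt, hw, hqp]
  exact primeAtPt_injective e

theorem exists_bc_chart (hY : IsAlgSpace Y) (haff : IsAffineMor f) (M : ModEt X) [M.IsQuasicoherent] {x : Points X}
    (hx : x ∈ WeakAssEt M) :
    ∃ (E : EtOver Y) (_ : IsAffine E.obj.left.left) (_ : IsAffine ((EtOver.bc hf).obj E).obj.left.left)
      (z : ↥((EtOver.bc hf).obj E).obj.left.left),
      Points.ofPt E.obj.hom ((EtOver.bcπ hf E).left z) = Points.map f x ∧
        IsWeakAssOn M ((EtOver.bc hf).obj E) z := by
  obtain ⟨E₁, hE₁, u₁, hu₁, -⟩ := id hx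
  obtain ⟨E, hE, u, hu⟩ := exists_affine_chart_pt hY (Points.map f x)
  have hA := isAffine_bc hf haff E
  obtain ⟨z, hz₁, hz₂⟩ : ∃ z : ↥((EtOver.bc hf).obj E).obj.left.left,
      Points.ofPt ((EtOver.bc hf).obj E).obj.hom z = x ∧ (EtOver.bcπ hf E).left z = u := by
    have h : Points.map f x = Points.map E.obj.hom (Points.ofScheme E.obj.left u) := by
      rw [← Points.ofPt_eq_map_ofScheme, hu]
    obtain ⟨r, hr₁, hr₂⟩ := AlgSpLib.exists_point_of_isPullback (hf.isPullback E.obj.hom) h
    rw [← Points.ofScheme_toScheme _ r, Points.map_ofPt, Category.id_comp] at hr₁ hr₂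
    refine ⟨Points.toScheme _ r, hr₁, ?_⟩
    have e := congrArg (Points.toScheme E.obj.left) hr₂
    rw [Points.toScheme_ofPt, Points.toScheme_ofScheme] at e
    exact e
  refine ⟨E, hE, hA, z, by rw [hz₂, hu], ?_⟩
  exact isWeakAssOn_of_mem M hx _ z hz₁

theorem weakAssEt_push_of_finite (hY : IsAlgSpace Y) (hfin : IsFiniteMor f) (M : ModEt X) [M.IsQuasicoherent] :
    WeakAssEt ((pushModEt hf).obj M) = Points.map f '' WeakAssEt M := by
  refine subset_antisymm (weakAssEt_push_subset hf (isAffineMor_of_finite hfin) M) ?_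
  rintro _ ⟨x, hx, rfl⟩
  obtain ⟨E, hE, hA, z, hz, hw⟩ := exists_bc_chart hf hY (isAffineMor_of_finite hfin) M hx
  refine ⟨E, hE, _, hz, ?_⟩
  have := isFinite_bcπ hf hfin E
  let : Algebra (gam E) (gam ((EtOver.bc hf).obj E)) := (EtOver.bcπ hf E).left.appTop.hom.toAlgebra
  have : Module.Finite (gam E) (gam ((EtOver.bc hf).obj E)) :=
    (EtOver.bcπ hf E).left.finite_appTop
  rw [isWeakAssOn_iff] at hw
  have : (primeAtPt ((EtOver.bc hf).obj E).obj.left.left z).LiesOver
      (primeAtPt E.obj.left.left ((EtOver.bcπ hf E).left z)) := ⟨(comap_primeAtPt _ z).symm⟩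
  obtain ⟨s, hs⟩ := WeakAssU.exists_minimal_under (A := gam E)
    (p := primeAtPt E.obj.left.left ((EtOver.bcπ hf E).left z)) hw
  refine ⟨s, ?_⟩
  rw [annSect_push, annSect_eq]
  exact hs

theorem weakAssEt_push_of_noetherian (hY : IsAlgSpace Y) (haff : IsAffineMor f) (M : ModEt X) [M.IsQuasicoherent]
    (hN : ∀ (T : EtOver X), IsAffine T.obj.left.left → IsNoetherianRing (gam T)) :
    WeakAssEt ((pushModEt hf).obj M) = Points.map f '' WeakAssEt M := by
  refine subset_antisymm (weakAssEt_push_subset hf haff M) ?_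
  rintro _ ⟨x, hx, rfl⟩
  obtain ⟨E, hE, hA, z, hz, hw⟩ := exists_bc_chart hf hY haff M hx
  refine ⟨E, hE, _, hz, ?_⟩
  have := hN _ hA
  rw [isWeakAssOn_iff] at hw
  obtain ⟨hp, s, hs⟩ := WeakAss.mem_ass_iff.1 (WeakAss.mem_ass_of_mem_weakAss_of_fg (IsNoetherian.noetherian _) hw)
  refine ⟨s, ?_⟩
  rw [annSect_push, annSect_eq, ← hs]
  rw [show Ideal.comap (EtOver.bcπ hf E).left.appTop.hom (primeAtPt ((EtOver.bc hf).obj E).obj.left.left z) =
    primeAtPt E.obj.left.left ((EtOver.bcπ hf E).left z) from comap_primeAtPt (EtOver.bcπ hf E).left z,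
    Ideal.minimalPrimes_eq_subsingleton_self]
  exact Set.mem_singleton _

theorem isNoetherianRing_gam (hN : IsLocNoethSp X) (T : EtOver X) [IsAffine T.obj.left.left] :
    IsNoetherianRing (gam T) := by
  have := AlgSpDec.isLocallyNoetherian_chart T.property hN
  exact IsLocallyNoetherian.component_noetherian ⟨⊤, isAffineOpen_top T.obj.left.left⟩

end Groth.Agent.EtQCoh
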