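import Groth.Agent.EtQCoh.Main
import Groth.Agent.EtFound.CechInjGen
import Groth.Agent.EtFound.CechSurjGen
import Groth.Agent.SiteBase.AbSecExact
import Mathlib.Algebra.Homology.DerivedCategory.Ext.EnoughInjectives

/-!
# Cartan's criterion on affine objects of the small étale site of a space
-/

set_option backward.isDefEq.respectTransparency false
set_option backward.isDefEq.respectTransparency.types false
set_option linter.style.haveILetI false

noncomputable section

universe u

open CategoryTheory CategoryTheory.Limits AlgebraicGeometry Opposite Abelian AlgSp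

namespace Groth.Agent.EtQCoh.CartanEt

open Groth.Agent.EtFound Groth.Agent.AlgSpQ4.MV Groth.Agent.AlgSpDec Groth.Agent.EtQCoh

variable {S : Scheme.{u}} {X : Sp S}

theorem isAffine_of_iso {U V : EtOver X} (e : U ≅ V) (hV : IsAffine V.obj.left.left) : IsAffine U.obj.left.left :=
  haveI : IsAffine ((EtOver.toScheme X).obj V) := hV
  IsAffine.of_isIso ((EtOver.toScheme X).mapIso e).hom

theorem isAffine_pullback {U V W : EtOver X} (a : V ⟶ U) (b : W ⟶ U) [IsAffine U.obj.left.left]
    [IsAffine V.obj.left.left] [IsAffine W.obj.left.left] : IsAffine (pullback a b).obj.left.left := by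
  refine isAffine_of_iso (EtOver.isPullback a b).isoPullback.symm ?_
  show IsAffine (Limits.pullback a.hom.left b.hom.left).left
  haveI : IsAffine ((CategoryTheory.Over.forget S).obj U.obj.left) := ‹IsAffine U.obj.left.left›
  haveI : IsAffine ((CategoryTheory.Over.forget S).obj V.obj.left) := ‹IsAffine V.obj.left.left›
  haveI : IsAffine ((CategoryTheory.Over.forget S).obj W.obj.left) := ‹IsAffine W.obj.left.left›
  exact IsAffine.of_isIso (PreservesPullback.iso (CategoryTheory.Over.forget S) a.hom.left b.hom.left).hom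

/-- Finite products over an affine object of affine objects are affine. -/
theorem isAffine_prod {U : EtOver X} [HasFiniteProducts (Over U)] [IsAffine U.obj.left.left] :
    ∀ (n : ℕ) (Y : Fin (n + 1) → Over U), (∀ k, IsAffine (Y k).left.obj.left.left) →
      IsAffine (∏ᶜ Y).left.obj.left.left := by
  intro n
  induction n with
  | zero =>
    intro Y hY
    haveI : IsIso (Pi.π Y 0) := by
      refine ⟨Pi.lift fun k => eqToHom (by rw [Fin.fin_one_eq_zero k]), ?_, ?_⟩
      · refine Pi.hom_ext _ _ fun k => ?_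
        obtain rfl := Fin.fin_one_eq_zero k
        simp
      · simp
    exact isAffine_of_iso ((CategoryTheory.Over.forget U).mapIso (asIso (Pi.π Y 0))) (hY 0)
  | succ n ih =>
    intro Y hY
    haveI : HasBinaryProducts (Over U) := inferInstance
    haveI := hY 0
    haveI := ih (fun k => Y (Fin.succ k)) fun k => hY _
    let e : ∏ᶜ Y ≅ (Y 0 ⨯ ∏ᶜ fun k => Y (Fin.succ k)) :=
      { hom := prod.lift (Pi.π Y 0) (Pi.lift fun k => Pi.π Y (Fin.succ k))
        inv := Pi.lift (Fin.cases prod.fst fun k => prod.snd ≫ Pi.π (fun k => Y (Fin.succ k)) k)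
        hom_inv_id := Pi.hom_ext _ _ fun k => by
          rw [Category.assoc, Pi.lift_π, Category.id_comp]
          induction k using Fin.cases with
          | zero => exact prod.lift_fst _ _
          | succ k =>
            refine (Category.assoc _ _ _).symm.trans ?_
            exact (congrArg (· ≫ _) (prod.lift_snd _ _)).trans (Pi.lift_π _ _)
        inv_hom_id := by
          refine prod.hom_ext ?_ (Pi.hom_ext _ _ fun k => ?_)
          · rw [Category.assoc, Category.id_comp]
            exact (congrArg (_ ≫ ·) (prod.lift_fst _ _)).trans (Pi.lift_π _ 0)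
          · rw [Category.assoc, Category.assoc, Category.id_comp]
            refine (congrArg (_ ≫ ·) ((Category.assoc _ _ _).symm.trans
              ((congrArg (· ≫ _) (prod.lift_snd _ _)).trans (Pi.lift_π _ k)))).trans ?_
            exact Pi.lift_π _ (Fin.succ k) }
    haveI : IsAffine (Y 0 ⨯ ∏ᶜ fun k => Y (Fin.succ k)).left.obj.left.left := by
      haveI := isAffine_pullback (Y 0).hom (∏ᶜ fun k => Y (Fin.succ k)).hom
      exact isAffine_of_iso (CategoryTheory.Over.prodLeftIsoPullback (Y 0) (∏ᶜ fun k => Y (Fin.succ k))) this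
    exact isAffine_of_iso ((CategoryTheory.Over.forget U).mapIso e) this

/-- No higher Čech cohomology for finite affine coverings of affine objects. -/
def IsCechAcyclic (G : AbEt X) : Prop :=
  ∀ (U : EtOver X) [HasFiniteProducts (Over U)] (ι : Type (u + 1)) [Finite ι] (Uf : ι → Over U),
    IsAffine U.obj.left.left → (∀ i, IsAffine (Uf i).left.obj.left.left) →
      (∀ x : ↥U.obj.left.left, ∃ i, x ∈ Set.range (Uf i).hom.hom.left.left) →
        ∀ p, IsZero (EtCech.cechH Uf G.obj (p + 1))

theorem isCechAcyclic_of_injective (G : AbEt X) [Injective G] : IsCechAcyclic G := by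
  intro U _ ι _ Uf _ _ _ p
  haveI : LocallySmall.{u + 1} (EtOver X) := ⟨fun _ _ => inferInstance⟩
  haveI : Injective G.obj :=
    Injective.injective_of_adjoint (sheafificationAdjunction (etTop X) AddCommGrpCat.{u + 1}) G
  exact CechInjGen.isZero_cechH_injective _ G.obj p

variable (Q : ShortComplex (AbEt X)) (hQ : Q.ShortExact)

include hQ

theorem sections_surjective (h1 : IsCechAcyclic Q.X₁) {V : EtOver X} [IsAffine V.obj.left.left] :
    Function.Surjective (Q.g.hom.app (op V)).hom := by
  intro z
  haveI : LocallySmall.{u + 1} (EtOver X) := ⟨fun _ _ => inferInstance⟩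
  haveI := hQ.mono_f
  haveI := hQ.epi_g
  haveI : HasBinaryProducts (Over V) := CategoryTheory.Over.ConstructProducts.over_binaryProduct_of_pullback
  haveI : HasFiniteProducts (Over V) := hasFiniteProducts_of_has_binary_and_terminal
  have hloc : Presheaf.IsLocallySurjective (etTop X) Q.g.hom :=
    (Sheaf.isLocallySurjective_iff_epi' AddCommGrpCat.{u + 1} Q.g).2 inferInstance
  obtain ⟨κ, hκ, F, hF, e, hm, hc⟩ := exists_finite_affine_cover (T := V) _ (hloc.imageSieve_mem (U := V) z)
  choose s hs using hm
  let Uf : ULift.{u + 1} κ → Over V := fun k => Over.mk (e k.down)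
  have hsheaf : ∀ G : AbEt X, Presieve.IsSheafFor (G.obj ⋙ CategoryTheory.forget AddCommGrpCat.{u + 1})
      (Presieve.ofArrows (fun k => (Uf k).left) fun k => (Uf k).hom) := fun G => by
    rw [Presieve.isSheafFor_iff_generate]
    refine ((isSheaf_iff_isSheaf_of_type _ _).1
      ((Presheaf.isSheaf_iff_isSheaf_forget (etTop X) G.obj (CategoryTheory.forget AddCommGrpCat.{u + 1})).1 G.2)) _ ?_
    refine AlgSp.ofArrows_mem_etTop (fun k : ULift.{u + 1} κ => F k.down) (fun k => e k.down) fun x => ?_
    obtain ⟨i, hi⟩ := hc x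
    exact ⟨⟨i⟩, hi⟩
  exact CechSurjGen.exists_lift_of_isZero_cechH_one (Uf := Uf) Q.f.hom Q.g.hom
    (fun T => SiteBase.sheaf_app_injective Q.f T.unop)
    (fun T y hy => (SiteBase.secExact_iff Q T.unop).1 (hQ.exact.map_of_mono_of_preservesKernel
      (sheafToPresheaf (etTop X) AddCommGrpCat.{u + 1} ⋙
        (evaluation (EtOver X)ᵒᵖ AddCommGrpCat.{u + 1}).obj T) inferInstance inferInstance) y hy)
    (fun T x => congrArg (fun t : Q.X₁ ⟶ Q.X₃ => (t.hom.app T).hom x) Q.zero)
    (h1 V _ Uf inferInstance (fun k => hF k.down) (fun x => by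
      obtain ⟨i, hi⟩ := hc x
      exact ⟨⟨i⟩, hi⟩) 0) (hsheaf _) (hsheaf _) z (fun k => s k.down) (fun k => hs k.down)

theorem isCechAcyclic_X₃ (h1 : IsCechAcyclic Q.X₁) (h2 : IsCechAcyclic Q.X₂) : IsCechAcyclic Q.X₃ := by
  intro U _ ι _ Uf hU hUf hc p
  haveI : LocallySmall.{u + 1} (EtOver X) := ⟨fun _ _ => inferInstance⟩
  haveI := hQ.mono_f
  haveI := hQ.epi_g
  exact CechSurjGen.isZero_cechH_quot Q.f.hom Q.g.hom
    (fun T => SiteBase.sheaf_app_injective Q.f T.unop)
    (fun T y hy => (SiteBase.secExact_iff Q T.unop).1 (hQ.exact.map_of_mono_of_preservesKernel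
      (sheafToPresheaf (etTop X) AddCommGrpCat.{u + 1} ⋙
        (evaluation (EtOver X)ᵒᵖ AddCommGrpCat.{u + 1}).obj T) inferInstance inferInstance) y hy)
    (fun T x => congrArg (fun t : Q.X₁ ⟶ Q.X₃ => (t.hom.app T).hom x) Q.zero) p
    (h1 U ι Uf hU hUf hc (p + 1)) (h2 U ι Uf hU hUf hc p)
    (fun n i =>
      haveI := hU
      haveI := isAffine_prod (U := U) n (fun k => Uf (i k)) fun k => hUf _
      sections_surjective Q hQ h1)

omit hQ

/-- Cartan's criterion, for an object corepresenting sections on an affine object. -/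
theorem subsingleton_ext_of_isCechAcyclic {U : EtOver X} [IsAffine U.obj.left.left] (P : AbEt X)
    (e : ∀ G : AbEt X, (P ⟶ G) ≃ ↥(G.obj.obj (op U)))
    (he : ∀ (G H : AbEt X) (f : G ⟶ H) (φ : P ⟶ G), e H (φ ≫ f) = (f.hom.app (op U)).hom (e G φ))
    (n : ℕ) (G : AbEt X) (hG : IsCechAcyclic G) : Subsingleton (Ext P G (n + 1)) := by
  induction n generalizing G with
  | zero =>
    let Q := ShortComplex.mk (Injective.ι G) (cokernel.π _) (cokernel.condition (Injective.ι G))
    have hQ : Q.ShortExact := { exact := ShortComplex.exact_of_g_is_cokernel _ (cokernelIsCokernel _) }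
    refine subsingleton_of_forall_eq 0 fun x => ?_
    obtain ⟨z, rfl⟩ := Ext.covariant_sequence_exact₁ _ hQ x
      (haveI : Injective Q.X₂ := inferInstanceAs (Injective (Injective.under G)); Ext.eq_zero_of_injective _)
      (rfl : 0 + 1 = 1)
    obtain ⟨φ, rfl⟩ := (Ext.mk₀_bijective _ _).2 z
    obtain ⟨a, ha⟩ := sections_surjective Q hQ hG (V := U) (e _ φ)
    have hφ : (e _).symm a ≫ Q.g = φ := by
      apply (e _).injective
      rw [he, Equiv.apply_symm_apply, ha]
    rw [← hφ, ← Ext.mk₀_comp_mk₀, Ext.comp_assoc_of_second_deg_zero, hQ.comp_extClass, Ext.comp_zero]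
  | succ n ih =>
    let Q := ShortComplex.mk (Injective.ι G) (cokernel.π _) (cokernel.condition (Injective.ι G))
    have hQ : Q.ShortExact := { exact := ShortComplex.exact_of_g_is_cokernel _ (cokernelIsCokernel _) }
    haveI hI : Injective Q.X₂ := inferInstanceAs (Injective (Injective.under G))
    refine subsingleton_of_forall_eq 0 fun x => ?_
    obtain ⟨z, rfl⟩ := Ext.covariant_sequence_exact₁ _ hQ x (Ext.eq_zero_of_injective _) (rfl : (n + 1) + 1 = _)
    haveI := ih Q.X₃ (isCechAcyclic_X₃ Q hQ hG (isCechAcyclic_of_injective Q.X₂))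
    rw [Subsingleton.elim z 0, Ext.zero_comp]

/-- Vanishing of cohomology on a space with an affine final object. -/
theorem subsingleton_HEt_of_isTerminal {U : EtOver X} [IsAffine U.obj.left.left] (hT : IsTerminal U)
    (G : AbEt X) (hG : IsCechAcyclic G) (n : ℕ) : Subsingleton (HEt X G (n + 1)) := by
  let adj := constantSheafAdj (etTop X) AddCommGrpCat.{u + 1} hT
  refine subsingleton_ext_of_isCechAcyclic (U := U) _
    (fun H => (adj.homEquiv _ H).trans (AddCommGrpCat.uliftZMultiplesAddEquiv _).toEquiv) (fun H H' f φ => ?_) n G hG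
  show AddCommGrpCat.uliftZMultiplesAddEquiv _ (adj.homEquiv _ H' (φ ≫ f)) = _
  rw [Adjunction.homEquiv_naturality_right]
  rfl

end Groth.Agent.EtQCoh.CartanEt
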