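import Mathlib
import Groth.Agent.WeakAss.Basic

/-!
# Weakly associated primes under étale base change, for modules in any universe

A copy of `Groth.Agent.Triage.WeakAssFin` with the module in an arbitrary universe.
-/

set_option autoImplicit false
set_option linter.style.haveILetI false
set_option backward.isDefEq.respectTransparency false
set_option backward.isDefEq.respectTransparency.types false

open TensorProduct Groth.Agent.WeakAss

namespace Groth.Agent.EtQCoh.WeakAssU

universe u v

variable {A B : Type u} [CommRing A] [CommRing B] [Algebra A B]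
  (M : Type v) [AddCommGroup M] [Module A M]

theorem mem_weakAss_of_flat [Module.Flat A B] [Algebra.QuasiFinite A B] {p : Ideal A} (t : Ideal B)
    [t.IsPrime] [t.LiesOver p] (hp : p ∈ FlatCA.weakAss A M) : t ∈ FlatCA.weakAss B (B ⊗[A] M) := by
  obtain ⟨m, hm⟩ := hp
  let q : A ⧸ annEl A m →ₗ[A] M := Submodule.liftQ _ (LinearMap.toSpanSingleton A M m) fun r hr => by
    rw [LinearMap.mem_ker, LinearMap.toSpanSingleton_apply]
    exact mem_annEl.1 hr
  have hq : Function.Injective q := by
    rw [← LinearMap.ker_eq_bot]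
    refine Submodule.ker_liftQ_eq_bot _ _ _ fun r hr => mem_annEl.2 ?_
    rwa [LinearMap.mem_ker, LinearMap.toSpanSingleton_apply] at hr
  let Q : B ⊗[A] (A ⧸ annEl A m) →ₗ[B] B ⊗[A] M := q.baseChange B
  have hQ : Function.Injective Q := by
    intro a b hab
    exact Module.Flat.lTensor_preserves_injective_linearMap q hq hab
  let one : B ⊗[A] (A ⧸ annEl A m) := (1 : B) ⊗ₜ Submodule.Quotient.mk (1 : A)
  refine mem_weakAss_iff.2 ⟨Q one, ?_⟩
  have hann : annEl B (Q one) = (annEl A m).map (algebraMap A B) := by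
    rw [annEl_map_of_injective Q hQ]
    let e := (Algebra.TensorProduct.quotIdealMapEquivTensorQuot B (annEl A m)).symm
    ext b
    rw [mem_annEl, ← Ideal.Quotient.eq_zero_iff_mem]
    have h1 : e (b • one) = Ideal.Quotient.mk _ b := by
      simp only [one, e, TensorProduct.smul_tmul', smul_eq_mul, mul_one]
      rw [AlgEquiv.symm_apply_eq, Algebra.TensorProduct.quotIdealMapEquivTensorQuot_mk]
      rfl
    rw [← h1, EmbeddingLike.map_eq_zero_iff]
  rw [hann]
  have htp : t.under A = p := (t.over_def p).symm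
  refine ⟨⟨inferInstance, Ideal.map_le_iff_le_comap.2 (hm.1.2.trans htp.ge)⟩, fun t' ht' hle => ?_⟩
  haveI := ht'.1
  have h2 : t'.under A = p := by
    refine le_antisymm ((Ideal.comap_mono hle).trans htp.le) (hm.2 ⟨inferInstance, ?_⟩ ((Ideal.comap_mono hle).trans htp.le))
    exact Ideal.map_le_iff_le_comap.1 ht'.2
  exact (Algebra.QuasiFinite.eq_of_le_of_under_eq (R := A) _ _ hle (h2.trans htp.symm)).ge

/-- Over an integral extension with finite fibres weakly associated primes contract. -/
theorem exists_minimal_under {N : Type*} [AddCommGroup N] [Module B N] [Module.Finite A B] {p : Ideal A}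
    [p.IsPrime] {t : Ideal B} [t.LiesOver p] (h : t ∈ FlatCA.weakAss B N) :
    ∃ x : N, p ∈ ((annEl B x).comap (algebraMap A B)).minimalPrimes := by
  classical
  obtain ⟨x, hx⟩ := h
  haveI := hx.1.1
  have htp : t.comap (algebraMap A B) = p := (t.over_def p).symm
  have hinc : ∀ t' : Ideal B, t'.IsPrime → t'.comap (algebraMap A B) = p → t ≤ t' → t' = t := fun t' ht' h' hle => by
    haveI := ht'
    exact (Algebra.QuasiFinite.eq_of_le_of_under_eq (R := A) t t' hle (htp.trans h'.symm)).symm
  let S := ((Algebra.QuasiFinite.finite_primesOver (R := A) (S := B) p).toFinset).erase t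
  have hnot : ¬ ((t : Set B) ⊆ ⋃ t' ∈ (↑S : Set (Ideal B)), (t' : Set B)) := by
    intro hsub
    obtain ⟨t', ht', hle⟩ := (Ideal.subset_union_prime ⊥ ⊥ fun i hi _ _ => by
      rw [Finset.mem_erase, Set.Finite.mem_toFinset] at hi
      exact hi.2.1).1 hsub
    rw [Finset.mem_erase, Set.Finite.mem_toFinset] at ht'
    haveI := ht'.2.2
    exact ht'.1 (hinc t' ht'.2.1 (t'.over_def p).symm hle)
  obtain ⟨w, hwt, hw⟩ := Set.not_subset.1 hnot
  obtain ⟨u, hu, n, hun⟩ := exists_mul_pow_mem hx hwt
  refine ⟨u • x, ⟨inferInstance, ?_⟩, fun p' hp' hle => ?_⟩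
  · intro a ha
    rw [← htp, Ideal.mem_comap]
    rw [Ideal.mem_comap, mem_annEl, smul_smul] at ha
    exact ((inferInstance : t.IsPrime).mem_or_mem (hx.1.2 (mem_annEl.2 ha))).resolve_right hu
  · haveI := hp'.1
    obtain ⟨q, hqann, hq, hqp'⟩ :=
      Ideal.exists_ideal_over_prime_of_isIntegral p' (annEl B (u • x)) hp'.2
    obtain ⟨q', hqq', hq', hq'p⟩ := Ideal.exists_ideal_over_prime_of_isIntegral p q (hqp'.le.trans hle)
    have hwn : w ∈ q' := hqq' (hq.mem_of_pow_mem n (hqann (mem_annEl.2 (by
      rw [smul_smul, mul_comm]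
      exact mem_annEl.1 hun))))
    have hq't : q' = t := by
      by_contra hne
      refine hw (Set.mem_iUnion₂.2 ⟨q', Finset.mem_coe.2 (Finset.mem_erase.2 ⟨hne, ?_⟩), hwn⟩)
      exact (Set.Finite.mem_toFinset _).2 ⟨hq', ⟨hq'p.symm⟩⟩
    subst hq't
    have hqx : annEl B x ≤ q := fun b hb => hqann (mem_annEl.2 (by
      rw [smul_smul, mul_comm, mul_smul, mem_annEl.1 hb, smul_zero]))
    rw [← hqp', le_antisymm hqq' (hx.2 ⟨hq, hqx⟩ hqq'), hq'p]

theorem mem_weakAss_of_finite [Module.Finite A B] [Module.Flat A B] {p : Ideal A} [p.IsPrime] (t : Ideal B)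
    [t.LiesOver p] (h : t ∈ FlatCA.weakAss B (B ⊗[A] M)) : p ∈ FlatCA.weakAss A M := by
  classical
  obtain ⟨x, hx⟩ := exists_minimal_under (p := p) h
  let Ap := Localization.AtPrime p
  haveI : Module.Free Ap (Ap ⊗[A] B) := Module.free_of_flat_of_isLocalRing
  let b := Module.Free.chooseBasis Ap (Ap ⊗[A] B)
  let E : (Ap ⊗[A] B) ≃ₗ[A] (Module.Free.ChooseBasisIndex Ap (Ap ⊗[A] B) → Ap) :=
    b.equivFun.restrictScalars A
  let ι : B →ₗ[A] Ap ⊗[A] B := TensorProduct.mk A Ap B 1
  haveI : IsLocalizedModule p.primeCompl ι :=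
    (isLocalizedModule_iff_isBaseChange p.primeCompl Ap ι).2 (TensorProduct.isBaseChange A B Ap)
  let G : B ⊗[A] M →ₗ[A] (Ap ⊗[A] B) ⊗[A] M := AlgebraTensorModule.rTensor A M ι
  let L := (TensorProduct.piLeft (R := A) (N := M) (M := fun _ : Module.Free.ChooseBasisIndex Ap (Ap ⊗[A] B) => Ap)).toLinearMap
    ∘ₗ E.toLinearMap.rTensor M ∘ₗ G
  have hker : ∀ z, L z = 0 → ∃ s ∉ p, s • z = 0 := fun z hz => by
    have h0 : G z = G 0 := by
      rw [map_zero]
      refine (E.rTensor M).injective ?_
      rw [map_zero]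
      exact (TensorProduct.piLeft (R := A) (N := M) (M := fun _ : Module.Free.ChooseBasisIndex Ap (Ap ⊗[A] B) => Ap)).injective
        (hz.trans (map_zero _).symm)
    obtain ⟨⟨s, hs⟩, hs'⟩ := IsLocalizedModule.exists_of_eq (S := p.primeCompl) h0
    exact ⟨s, hs, by simpa using hs'⟩
  have hle : ((Finset.univ.inf fun i => annEl A (L x i)) : Ideal A) ≤ p := by
    intro r hr
    obtain ⟨s, hs, hsr⟩ := hker (r • x) (funext fun i => by
      rw [map_smul, Pi.smul_apply]
      exact mem_annEl.1 (Finset.inf_le (f := fun i => annEl A (L x i)) (Finset.mem_univ i) hr))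
    have : s * r ∈ p := hx.1.2 (by
      rw [Ideal.mem_comap, mem_annEl, algebraMap_smul, mul_smul]
      exact hsr)
    exact ((inferInstance : p.IsPrime).mem_or_mem this).resolve_left hs
  obtain ⟨i, -, hi⟩ := ((inferInstance : p.IsPrime).inf_le').1 hle
  -- descend from `Ap ⊗ M` to `M`
  let g : M →ₗ[A] Ap ⊗[A] M := TensorProduct.mk A Ap M 1
  haveI : IsLocalizedModule p.primeCompl g :=
    (isLocalizedModule_iff_isBaseChange p.primeCompl Ap g).2 (TensorProduct.isBaseChange A M Ap)
  obtain ⟨⟨m, s⟩, hms⟩ := IsLocalizedModule.surj p.primeCompl g (L x i)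
  refine mem_weakAss_iff.2 ⟨m, ⟨inferInstance, fun r hr => hi ?_⟩, fun p' hp' hle' => hx.2 ⟨hp'.1, ?_⟩ hle'⟩
  · rw [mem_annEl]
    have h1 : s • (r • L x i) = s • (0 : Ap ⊗[A] M) := by
      rw [smul_comm, hms, ← map_smul, mem_annEl.1 hr, map_zero, smul_zero]
    exact IsLocalizedModule.smul_injective g s h1
  · intro r hr
    rw [Ideal.mem_comap, mem_annEl, algebraMap_smul] at hr
    have h1 : g (r • m) = g 0 := by
      rw [map_smul, ← hms, smul_comm, show r • L x i = 0 from by rw [← Pi.smul_apply, ← map_smul, hr, map_zero]; rfl,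
        smul_zero, map_zero]
    obtain ⟨⟨c, hc⟩, hc'⟩ := IsLocalizedModule.exists_of_eq (S := p.primeCompl) h1
    have h2 : c * r ∈ p' := hp'.2 (mem_annEl.2 (by rw [mul_smul]; simpa using hc'))
    exact (hp'.1.mem_or_mem h2).resolve_left fun hcp => hc (hle' hcp)

/-- Localizing the algebra does not change weakly associated primes of the base change. -/
theorem mem_weakAss_tensor_iff {B' : Type u} [CommRing B'] [Algebra A B'] [Algebra B B'] [IsScalarTower A B B']
    (S : Submonoid B) [IsLocalization S B'] {t : Ideal B} [t.IsPrime] (hd : Disjoint (S : Set B) (t : Set B)) :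
    t ∈ FlatCA.weakAss B (B ⊗[A] M) ↔ t.map (algebraMap B B') ∈ FlatCA.weakAss B' (B' ⊗[A] M) :=
  mem_weakAss_iff_map S (AlgebraTensorModule.rTensor A M (Algebra.linearMap B B')) hd

theorem mem_weakAss_of_etale [Algebra.Etale A B] {p : Ideal A} [p.IsPrime] (t : Ideal B)
    [t.IsPrime] [t.LiesOver p] (h : t ∈ FlatCA.weakAss B (B ⊗[A] M)) : p ∈ FlatCA.weakAss A M := by
  obtain ⟨g, hg, hstd⟩ := Algebra.IsEtaleAt.exists_isStandardEtale (R := A) t
  let P := Algebra.IsStandardEtale.nonempty_standardEtalePresentation (R := A) (S := Localization.Away g) |>.some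
  let e : Localization.Away g ≃ₐ[A] Localization.Away (AdjoinRoot.mk P.f P.P.g) :=
    P.equivRing.trans P.P.equivAwayAdjoinRoot
  let C := AdjoinRoot P.f
  letI : Algebra C (Localization.Away g) :=
    (e.symm.toAlgHom.toRingHom.comp (algebraMap C (Localization.Away (AdjoinRoot.mk P.f P.P.g)))).toAlgebra
  haveI : IsScalarTower A C (Localization.Away g) := IsScalarTower.of_algebraMap_eq fun a => by
    rw [RingHom.algebraMap_toAlgebra, RingHom.comp_apply, ← IsScalarTower.algebraMap_apply]
    exact (e.symm.commutes a).symm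
  haveI : IsLocalization (Submonoid.powers (AdjoinRoot.mk P.f P.P.g)) (Localization.Away g) :=
    IsLocalization.isLocalization_of_algEquiv _
      (AlgEquiv.ofRingEquiv (f := e.symm.toRingEquiv) fun c => rfl :
        Localization.Away (AdjoinRoot.mk P.f P.P.g) ≃ₐ[C] Localization.Away g)
  have hd : Disjoint (Submonoid.powers g : Set B) (t : Set B) := by
    rw [Set.disjoint_left]
    rintro _ ⟨n, rfl⟩ hn
    exact hg ((inferInstance : t.IsPrime).mem_of_pow_mem n hn)
  have h' := (mem_weakAss_tensor_iff (B' := Localization.Away g) M (Submonoid.powers g) hd).1 h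
  set tg := t.map (algebraMap B (Localization.Away g)) with htg
  haveI : tg.IsPrime := IsLocalization.isPrime_of_isPrime_disjoint (Submonoid.powers g) _ t inferInstance hd
  let tc := tg.comap (algebraMap C (Localization.Away g))
  haveI : tc.IsPrime := Ideal.IsPrime.comap _
  have hdc : Disjoint (Submonoid.powers (AdjoinRoot.mk P.f P.P.g) : Set C) (tc : Set C) := by
    rw [Set.disjoint_left]
    intro y hy hyt
    exact (inferInstance : tg.IsPrime).ne_top (Ideal.eq_top_of_isUnit_mem _ hyt (IsLocalization.map_units _ ⟨y, hy⟩))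
  have hmap : tc.map (algebraMap C (Localization.Away g)) = tg :=
    IsLocalization.map_comap (Submonoid.powers (AdjoinRoot.mk P.f P.P.g)) _ tg
  rw [← hmap] at h'
  have hC := (mem_weakAss_tensor_iff M (Submonoid.powers (AdjoinRoot.mk P.f P.P.g)) hdc).2 h'
  haveI : Module.Finite A C := P.P.monic_f.finite_adjoinRoot
  haveI : Module.Free A C := P.P.monic_f.free_adjoinRoot
  haveI : tc.LiesOver p := ⟨by
    rw [Ideal.under, Ideal.comap_comap, ← IsScalarTower.algebraMap_eq,
      IsScalarTower.algebraMap_eq A B (Localization.Away g), ← Ideal.comap_comap, htg,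
      show Ideal.comap (algebraMap B (Localization.Away g)) (t.map (algebraMap B (Localization.Away g))) = t from
        IsLocalization.comap_map_of_isPrime_disjoint (Submonoid.powers g) _ inferInstance hd]
    exact t.over_def p⟩
  exact mem_weakAss_of_finite M tc hC

end Groth.Agent.EtQCoh.WeakAssU
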