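import Groth.Agent.EtQCoh.Main
import Groth.Agent.EtQCoh.WeakAssU
import Groth.Agent.AlgSpQ4.WeakAssBasic

/-!
# Weakly associated points of quasi-coherent modules do not depend on the chart
-/

set_option backward.isDefEq.respectTransparency false
set_option backward.isDefEq.respectTransparency.types false
set_option linter.style.haveILetI false

universe u

open CategoryTheory CategoryTheory.Limits AlgebraicGeometry Opposite AlgSp TensorProduct

namespace Groth.Agent.EtQCoh

open Groth.Agent.AlgSpQ4.MV Groth.Agent.AlgSpDec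

variable {S : Scheme.{u}} {X : Sp S}

theorem comap_primeAtPt {U V : Scheme.{u}} (f : U ⟶ V) (u : U) :
    (primeAtPt U u).comap f.appTop.hom = primeAtPt V (f u) := by
  ext a
  have e : (f.stalkMap u).hom (V.presheaf.germ ⊤ (f u) trivial a) = U.presheaf.germ ⊤ u trivial (f.appTop.hom a) :=
    Scheme.Hom.germ_stalkMap_apply f ⊤ u trivial a
  rw [Ideal.mem_comap, primeAtPt, primeAtPt, Ideal.mem_comap, Ideal.mem_comap, ← e, IsLocalRing.mem_maximalIdeal,
    IsLocalRing.mem_maximalIdeal, mem_nonunits_iff, mem_nonunits_iff, isUnit_map_iff]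

theorem annSect_eq (M : ModEt X) {E : EtOver X} (s : sectModEt M E) : annSect s = WeakAss.annEl (gam E) s := by
  ext a
  rw [mem_annSect_iff', WeakAss.mem_annEl]

theorem isWeakAssOn_iff (M : ModEt X) (E : EtOver X) [IsAffine E.obj.left.left] (u : ↥E.obj.left.left) :
    IsWeakAssOn M E u ↔ primeAtPt E.obj.left.left u ∈ FlatCA.weakAss (gam E) (sectModEt M E) := by
  rw [WeakAss.mem_weakAss_iff]
  exact exists_congr fun s => by rw [annSect_eq]

theorem etale_pb {E T : EtOver X} [IsAffine E.obj.left.left] [IsAffine T.obj.left.left] (g : T ⟶ E) :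
    (pb g).Etale := by
  have : Etale g.hom.left.left := EtOver.etale_left g
  exact HasRingHomProperty.appTop @Etale g.hom.left.left inferInstance

/-- Weakly associated points may be tested on any affine object over a chart. -/
theorem isWeakAssOn_map_iff (M : ModEt X) [M.IsQuasicoherent] {E T : EtOver X} [IsAffine E.obj.left.left]
    [IsAffine T.obj.left.left] (g : T ⟶ E) (u : ↥T.obj.left.left) :
    IsWeakAssOn M T u ↔ IsWeakAssOn M E (g.hom.left.left u) := by
  rw [isWeakAssOn_iff, isWeakAssOn_iff]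
  let := (pb g).toAlgebra
  have : Algebra.Etale (gam E) (gam T) := RingHom.etale_algebraMap.1 (etale_pb g)
  have : (primeAtPt T.obj.left.left u).LiesOver (primeAtPt E.obj.left.left (g.hom.left.left u)) :=
    ⟨(comap_primeAtPt g.hom.left.left u).symm⟩
  let e : gam T ⊗[gam E] sectModEt M E ≃ₗ[gam T] sectModEt M T :=
    LinearEquiv.ofBijective (θLin M g) (θ_bijective M g)
  have h : FlatCA.weakAss (gam T) (sectModEt M T) = FlatCA.weakAss (gam T) (gam T ⊗[gam E] sectModEt M E) :=
    subset_antisymm (WeakAss.weakAss_subset_of_injective e.symm.toLinearMap e.symm.injective)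
      (WeakAss.weakAss_subset_of_injective e.toLinearMap e.injective)
  rw [h]
  exact ⟨fun h => WeakAssU.mem_weakAss_of_etale _ _ h, fun h => WeakAssU.mem_weakAss_of_flat _ _ h⟩

/-- Two points of charts over the same point have a common affine refinement. -/
theorem exists_common_chart {E E' : EtOver X} (u : ↥E.obj.left.left) (u' : ↥E'.obj.left.left)
    (h : Points.ofPt E.obj.hom u = Points.ofPt E'.obj.hom u') :
    ∃ (W : EtOver X) (_ : IsAffine W.obj.left.left) (g : W ⟶ E) (g' : W ⟶ E') (w : ↥W.obj.left.left),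
      g.hom.left.left w = u ∧ g'.hom.left.left w = u' := by
  obtain ⟨r, hr₁, hr₂⟩ := AlgSpLib.exists_ofPt_of_eq (E'.property.rep.isPullback' E.obj.hom) h.symm
  obtain ⟨O, hO, hrO, -⟩ := exists_isAffineOpen_mem_and_subset
    (U := (⊤ : (EtOver.prodObj E E').obj.left.left.Opens)) (x := r) trivial
  have hA : IsAffine (etOpen (EtOver.prodObj E E') O).obj.left.left := hO
  exact ⟨etOpen (EtOver.prodObj E E') O, hA, etOpenι (EtOver.prodObj E E') O ≫ EtOver.prodFst E E',
    etOpenι (EtOver.prodObj E E') O ≫ EtOver.prodSnd E E', ⟨r, hrO⟩, hr₂, hr₁⟩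

theorem isWeakAssOn_of_mem (M : ModEt X) [M.IsQuasicoherent] {x : Points X} (hx : x ∈ WeakAssEt M)
    (E : EtOver X) [IsAffine E.obj.left.left] (u : ↥E.obj.left.left) (hu : Points.ofPt E.obj.hom u = x) :
    IsWeakAssOn M E u := by
  obtain ⟨E₀, hE₀, u₀, hu₀, h⟩ := hx
  obtain ⟨W, hW, g, g', w, hg, hg'⟩ := exists_common_chart u u₀ (hu.trans hu₀.symm)
  rw [← hg, ← isWeakAssOn_map_iff M g w, isWeakAssOn_map_iff M g' w, hg']
  exact h

theorem exists_affine_chart_pt (hX : IsAlgSpace X) (x : Points X) :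
    ∃ (E : EtOver X) (_ : IsAffine E.obj.left.left) (u : ↥E.obj.left.left), Points.ofPt E.obj.hom u = x := by
  obtain ⟨V, φ, hφ, hφs⟩ := hX.atlas
  obtain ⟨v, hv⟩ := AlgSpLib.surjective_ofPt hφs x
  let E : EtOver X := EtOver.mk φ hφ
  obtain ⟨O, hO, hvO, -⟩ := exists_isAffineOpen_mem_and_subset (U := (⊤ : E.obj.left.left.Opens)) (x := v) trivial
  exact ⟨etOpen E O, hO, ⟨v, hvO⟩, (ofPt_hom (etOpenι E O) _).trans hv⟩

theorem mem_weakAssEt_iff_forall (hX : IsAlgSpace X) (M : ModEt X) [M.IsQuasicoherent] (x : Points X) :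
    x ∈ WeakAssEt M ↔ ∀ (E : EtOver X) [IsAffine E.obj.left.left] (u : ↥E.obj.left.left),
      Points.ofPt E.obj.hom u = x → IsWeakAssOn M E u := by
  refine ⟨fun h E _ u hu => isWeakAssOn_of_mem M h E u hu, fun h => ?_⟩
  obtain ⟨E, hE, u, hu⟩ := exists_affine_chart_pt hX x
  exact ⟨E, hE, u, hu, h E u hu⟩

end Groth.Agent.EtQCoh
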