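import Mathlib.RingTheory.Flat.FaithfullyFlat.Algebra
import Mathlib.LinearAlgebra.TensorProduct.Pi
import Mathlib.LinearAlgebra.TensorProduct.RightExactness
import Mathlib.RingTheory.Spectrum.Prime.RingHom
import Mathlib.RingTheory.IsTensorProduct
import Mathlib.LinearAlgebra.Finsupp.LinearCombination

/-!
# Descent of elements along finite flat coverings of rings
-/

universe u v w

open TensorProduct

namespace Groth.Agent.EtQCoh

variable {C : Type u} [CommRing C] {ι : Type w} (D : ι → Type u) [∀ i, CommRing (D i)] [∀ i, Algebra C (D i)]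

/-- A family of flat algebras hitting all primes. -/
structure IsCoverAlg : Prop where
  flat : ∀ i, Module.Flat C (D i)
  surj : ∀ q : PrimeSpectrum C, ∃ i, q ∈ Set.range (PrimeSpectrum.comap (algebraMap C (D i)))

variable {D} (h : IsCoverAlg (C := C) D) {P : Type v} [AddCommGroup P] [Module C P]

include h

/-- An element vanishing on a covering is zero. -/
theorem eq_zero_of_cover {p : P} (hp : ∀ i, (1 : D i) ⊗ₜ[C] p = 0) : p = 0 := by
  by_contra hne
  let J : Ideal C := LinearMap.ker (LinearMap.toSpanSingleton C P p)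
  have hJ : J ≠ ⊤ := fun ht => hne (by
    have : (1 : C) ∈ J := ht ▸ trivial
    simpa [J] using this)
  obtain ⟨m, hm, hJm⟩ := Ideal.exists_le_maximal J hJ
  obtain ⟨i, Q, hQ⟩ := h.surj ⟨m, hm.isPrime⟩
  have := h.flat i
  let g : (C ⧸ J) →ₗ[C] P := Submodule.liftQ J (LinearMap.toSpanSingleton C P p) le_rfl
  have hg : Function.Injective g := by
    rw [← LinearMap.ker_eq_bot]
    exact Submodule.ker_liftQ_eq_bot _ _ _ le_rfl
  have e : g.lTensor (D i) ((1 : D i) ⊗ₜ[C] Submodule.Quotient.mk (p := J) (1 : C)) = 0 := by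
    rw [LinearMap.lTensor_tmul, Submodule.liftQ_apply]
    simpa using hp i
  have e' : ((1 : D i) ⊗ₜ[C] Submodule.Quotient.mk (p := J) (1 : C)) = 0 :=
    Module.Flat.lTensor_preserves_injective_linearMap g hg (by rw [e, map_zero])
  have e'' := congrArg (TensorProduct.lift (LinearMap.mk₂ C
    (fun (d : D i) (c : C ⧸ J) => (Ideal.Quotient.mk (J.map (algebraMap C (D i))) d) *
      Ideal.quotientMap (J.map (algebraMap C (D i))) (algebraMap C (D i)) Ideal.le_comap_map c)
    (fun d d' c => by rw [map_add, add_mul]) (fun r d c => by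
      rw [Algebra.smul_def, map_mul, Algebra.smul_def, ← Ideal.Quotient.mk_algebraMap, mul_assoc])
    (fun d c c' => by rw [map_add, mul_add]) (fun r d c => by
      obtain ⟨c, rfl⟩ := Ideal.Quotient.mk_surjective c
      rw [show r • Ideal.Quotient.mk J c = Ideal.Quotient.mk J (r * c) from rfl, Ideal.quotientMap_mk,
        Ideal.quotientMap_mk, map_mul, map_mul, Algebra.smul_def, ← Ideal.Quotient.mk_algebraMap]
      ring))) e'
  rw [TensorProduct.lift.tmul, map_zero] at e''
  have one_mem : (1 : D i) ∈ J.map (algebraMap C (D i)) := by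
    rw [← Ideal.Quotient.eq_zero_iff_mem]
    simpa [LinearMap.mk₂_apply] using e''
  have hle : J.map (algebraMap C (D i)) ≤ Q.asIdeal := by
    rw [Ideal.map_le_iff_le_comap]
    exact hJm.trans (congrArg PrimeSpectrum.asIdeal hQ).ge
  exact Q.isPrime.ne_top ((Ideal.eq_top_iff_one _).2 (hle one_mem))

/-- An element locally in the range of a linear map is in the range. -/
theorem mem_range_of_cover {Q : Type*} [AddCommGroup Q] [Module C Q] (f : Q →ₗ[C] P) {p : P}
    (hp : ∀ i, (1 : D i) ⊗ₜ[C] p ∈ LinearMap.range (f.lTensor (D i))) : p ∈ LinearMap.range f := by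
  rw [← Submodule.Quotient.mk_eq_zero]
  refine eq_zero_of_cover h fun i => ?_
  obtain ⟨t, ht⟩ := hp i
  have := congrArg ((LinearMap.range f).mkQ.lTensor (D i)) ht
  rw [LinearMap.lTensor_tmul, Submodule.mkQ_apply, ← LinearMap.comp_apply, ← LinearMap.lTensor_comp,
    LinearMap.range_mkQ_comp, LinearMap.lTensor_zero, LinearMap.zero_apply] at this
  exact this.symm

/-- Exactness of the Amitsur complex in degree zero. -/
theorem amitsur [Finite ι] (t : ∀ i, D i ⊗[C] P)
    (ht : ∀ m j, (TensorProduct.mk C (D j) P 1).lTensor (D m) (t m) = (1 : D m) ⊗ₜ[C] t j) :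
    ∃ p : P, ∀ i, (1 : D i) ⊗ₜ[C] p = t i := by
  classical
  have := Fintype.ofFinite ι
  let f : P →ₗ[C] ∀ i, D i ⊗[C] P := LinearMap.pi fun i => TensorProduct.mk C (D i) P 1
  have key : t ∈ LinearMap.range f := mem_range_of_cover (C := C) (D := D) (P := ∀ i, D i ⊗[C] P) h f fun m => by
    refine ⟨t m, (TensorProduct.piRight C C (D m) fun j => D j ⊗[C] P).injective (funext fun j => ?_)⟩
    have e : ∀ x : D m ⊗[C] P, TensorProduct.piRight C C (D m) (fun j => D j ⊗[C] P) (f.lTensor (D m) x) j =
        (TensorProduct.mk C (D j) P 1).lTensor (D m) x := fun x => by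
      induction x with
      | zero => simp
      | tmul a b => simp [f]
      | add a b ha hb => simp only [map_add, Pi.add_apply, ha, hb]
    rw [e, ht]
    simp
  obtain ⟨p, hp⟩ := key
  exact ⟨p, fun i => congrFun hp i⟩

end Groth.Agent.EtQCoh

namespace Groth.Agent.EtQCoh

theorem tensor_addHom_ext {A : Type*} [CommRing A] {M N : Type*} [AddCommGroup M] [AddCommGroup N] [Module A M]
    [Module A N] {G : Type*} [AddCommGroup G] {f g : M ⊗[A] N →+ G}
    (h : ∀ m n, f (m ⊗ₜ[A] n) = g (m ⊗ₜ[A] n)) (z : M ⊗[A] N) : f z = g z := by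
  induction z with
  | zero => rw [map_zero, map_zero]
  | tmul m n => exact h m n
  | add x y hx hy => rw [map_add, map_add, hx, hy]

section TensorLC

variable {A B : Type u} [CommRing A] [CommRing B] [Algebra A B] {I : Type v} {Q : Type*} [AddCommGroup Q] [Module A Q]
  (f : (I →₀ A) →ₗ[A] Q)

theorem tensorLC_single (i : I) (r : B) :
    Finsupp.linearCombination B (fun i => (1 : B) ⊗ₜ[A] f (Finsupp.single i 1)) (Finsupp.single i r) =
      r ⊗ₜ[A] f (Finsupp.single i 1) := by
  rw [Finsupp.linearCombination_single, TensorProduct.smul_tmul', smul_eq_mul, mul_one]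

theorem tensorLC_mapRange (v : I →₀ A) :
    Finsupp.linearCombination B (fun i => (1 : B) ⊗ₜ[A] f (Finsupp.single i 1))
      (v.mapRange (algebraMap A B) (map_zero _)) = (1 : B) ⊗ₜ[A] f v := by
  induction v using Finsupp.induction_linear with
  | zero => simp
  | add v v' hv hv' => rw [Finsupp.mapRange_add (map_add _), map_add, hv, hv', map_add, TensorProduct.tmul_add]
  | single i r =>
    rw [Finsupp.mapRange_single, tensorLC_single,
      show Finsupp.single i r = r • Finsupp.single i (1 : A) by simp, map_smul, ← TensorProduct.smul_tmul,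
      Algebra.smul_def, mul_one]

theorem tensorLC_surjective (hf : Function.Surjective f) :
    Function.Surjective (Finsupp.linearCombination B (fun i => (1 : B) ⊗ₜ[A] f (Finsupp.single i 1))) := by
  intro t
  induction t with
  | zero => exact ⟨0, map_zero _⟩
  | add x y hx hy =>
    obtain ⟨c, hc⟩ := hx
    obtain ⟨d, hd⟩ := hy
    exact ⟨c + d, by rw [map_add, hc, hd]⟩
  | tmul r y =>
    obtain ⟨v, rfl⟩ := hf y
    exact ⟨r • v.mapRange (algebraMap A B) (map_zero _), by
      rw [map_smul, tensorLC_mapRange, TensorProduct.smul_tmul', smul_eq_mul, mul_one]⟩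

end TensorLC

theorem exists_pushout_tensor (A B C D : Type u) [CommRing A] [CommRing B] [CommRing C] [CommRing D] [Algebra A B]
    [Algebra A C] [Algebra A D] [Algebra B D] [Algebra C D] [IsScalarTower A B D] [IsScalarTower A C D]
    [Algebra.IsPushout A B C D] (Q : Type*) [AddCommGroup Q] [Module A Q] :
    ∃ e : B ⊗[A] (C ⊗[A] Q) ≃+ D ⊗[A] Q,
      ∀ b c q, e (b ⊗ₜ[A] (c ⊗ₜ[A] q)) = (algebraMap B D b * algebraMap C D c) ⊗ₜ[A] q := by
  refine ⟨(Algebra.IsPushout.cancelBaseChange A B C D (C ⊗[A] Q)).symm.toAddEquiv.trans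
    (AlgebraTensorModule.cancelBaseChange A C D D Q).toAddEquiv, fun b c q => ?_⟩
  show AlgebraTensorModule.cancelBaseChange A C D D Q
    ((Algebra.IsPushout.cancelBaseChange A B C D (C ⊗[A] Q)).symm (b ⊗ₜ[A] (c ⊗ₜ[A] q))) = _
  rw [Algebra.IsPushout.cancelBaseChange_symm_tmul, AlgebraTensorModule.cancelBaseChange_tmul, Algebra.smul_def,
    mul_comm]

end Groth.Agent.EtQCoh
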