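import Groth.Agent.EtQCoh.WeakAssPts

/-!
# Annihilators of sections of quasi-coherent modules
-/

set_option backward.isDefEq.respectTransparency false
set_option backward.isDefEq.respectTransparency.types false
set_option linter.style.haveILetI false

universe u v

open CategoryTheory CategoryTheory.Limits AlgebraicGeometry Opposite AlgSp TensorProduct

namespace Groth.Agent.EtQCoh

open Groth.Agent.AlgSpQ4.MV Groth.Agent.AlgSpDec Groth.Agent.WeakAss

theorem annEl_tensor {A B : Type u} [CommRing A] [CommRing B] [Algebra A B] [Module.Flat A B] {M : Type v}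
    [AddCommGroup M] [Module A M] (m : M) :
    annEl B ((1 : B) ⊗ₜ[A] m) = (annEl A m).map (algebraMap A B) := by
  let q : A ⧸ annEl A m →ₗ[A] M := Submodule.liftQ _ (LinearMap.toSpanSingleton A M m) fun r hr => by
    rw [LinearMap.mem_ker, LinearMap.toSpanSingleton_apply]
    exact mem_annEl.1 hr
  have hq : Function.Injective q := by
    rw [← LinearMap.ker_eq_bot]
    refine Submodule.ker_liftQ_eq_bot _ _ _ fun r hr => mem_annEl.2 ?_
    rwa [LinearMap.mem_ker, LinearMap.toSpanSingleton_apply] at hr
  let Q : B ⊗[A] (A ⧸ annEl A m) →ₗ[B] B ⊗[A] M := q.baseChange B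
  have hQ : Function.Injective Q := fun a b hab =>
    Module.Flat.lTensor_preserves_injective_linearMap q hq hab
  let one : B ⊗[A] (A ⧸ annEl A m) := (1 : B) ⊗ₜ Submodule.Quotient.mk (1 : A)
  have h1 : Q one = (1 : B) ⊗ₜ[A] m := by
    refine (LinearMap.baseChange_tmul _ _ _).trans (congrArg (fun x => (1 : B) ⊗ₜ[A] x) ?_)
    exact one_smul A m
  rw [← h1, annEl_map_of_injective Q hQ]
  let e := (Algebra.TensorProduct.quotIdealMapEquivTensorQuot B (annEl A m)).symm
  ext b
  rw [mem_annEl, ← Ideal.Quotient.eq_zero_iff_mem]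
  have h2 : e (b • one) = Ideal.Quotient.mk _ b := by
    simp only [one, e, TensorProduct.smul_tmul', smul_eq_mul, mul_one]
    rw [AlgEquiv.symm_apply_eq, Algebra.TensorProduct.quotIdealMapEquivTensorQuot_mk]
    rfl
  rw [← h2, EmbeddingLike.map_eq_zero_iff]

variable {S : Scheme.{u}} {X : Sp S} (M : ModEt X) [M.IsQuasicoherent]

theorem annSect_res {E T : EtOver X} [IsAffine E.obj.left.left] [IsAffine T.obj.left.left] (g : T ⟶ E)
    (s : sectModEt M E) : annSect (res M g s) = (annSect s).map (pb g) := by
  let := (pb g).toAlgebra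
  have : Module.Flat (gam E) (gam T) := flat_pb g
  let e : gam T ⊗[gam E] sectModEt M E ≃ₗ[gam T] sectModEt M T :=
    LinearEquiv.ofBijective (θLin M g) (θ_bijective M g)
  have he : e ((1 : gam T) ⊗ₜ[gam E] s) = res M g s := by
    show (1 : gam T) • res M g s = _
    rw [one_smul]
  rw [annSect_eq, annSect_eq, ← he, show annEl (gam T) (e ((1 : gam T) ⊗ₜ[gam E] s)) =
    annEl (gam T) ((1 : gam T) ⊗ₜ[gam E] s) from annEl_map_of_injective e.toLinearMap e.injective _, annEl_tensor]
  rfl

omit [M.IsQuasicoherent] in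
theorem annSect_zero (E : EtOver X) : annSect (0 : sectModEt M E) = ⊤ :=
  (Ideal.eq_top_iff_one _).2 ((mem_annSect_iff' _ _).2 (smul_zero _))

/-- A section with annihilator in the prime of a point does not restrict to zero near the point. -/
theorem res_ne_zero {E T : EtOver X} [IsAffine E.obj.left.left] [IsAffine T.obj.left.left] (g : T ⟶ E)
    (t : ↥T.obj.left.left) {s : sectModEt M E} (h : annSect s ≤ primeAtPt E.obj.left.left (g.hom.left.left t)) :
    res M g s ≠ 0 := by
  intro h0
  have h1 := annSect_res M g s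
  rw [h0, annSect_zero] at h1
  have h2 : (annSect s).map (pb g) ≤ primeAtPt T.obj.left.left t := by
    rw [Ideal.map_le_iff_le_comap, comap_primeAtPt]
    exact h
  exact (isPrime_primeAtPt T.obj.left.left t).ne_top (top_le_iff.1 (h1 ▸ h2))

theorem eval_injective (E : EtOver X) (hE : WeakAssEt M ⊆ Set.range (Points.ofPt E.obj.hom)) :
    Function.Injective (fun s : M.sections => PresheafOfModules.sections.eval s (op E)) := by
  intro s t hst
  have ha : ∀ (T : EtOver X) [IsAffine T.obj.left.left], s.1 (op T) = t.1 (op T) := by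
    intro T _
    by_contra hne
    obtain ⟨w, hw, hle⟩ := AlgSpQ4.exists_isWeakAssOn M T (s := s.1 (op T) - t.1 (op T)) (sub_ne_zero.2 hne)
    obtain ⟨u, hu⟩ := hE ⟨T, inferInstance, w, rfl, hw⟩
    obtain ⟨W, hW, g, g', z, hg, -⟩ := exists_common_chart w u hu.symm
    refine res_ne_zero M g z (by rw [hg]; exact hle) ?_
    have key : ∀ r : M.sections, res M g (r.1 (op T)) = res M g' (r.1 (op E)) := fun r =>
      (r.2 g.op).trans (r.2 g'.op).symm
    rw [map_sub, key, key]
    show res M g' _ - res M g' _ = 0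
    rw [show s.1 (op E) = t.1 (op E) from hst, sub_self]
  refine Subtype.ext (funext fun T => ?_)
  induction T using Opposite.rec with | _ T => ?_
  refine AlgSpQ4.sect_ext M (fun W : T.obj.left.left.affineOpens => etOpen T W.1) (fun W => etOpenι T W.1)
    (fun x => ?_) fun W => ?_
  · obtain ⟨W, hW, hxW, -⟩ := exists_isAffineOpen_mem_and_subset (U := (⊤ : T.obj.left.left.Opens)) (x := x) trivial
    exact ⟨⟨W, hW⟩, (range_etOpenι T W).ge hxW⟩
  · have : IsAffine (etOpen T W.1).obj.left.left := W.2
    exact (s.2 (etOpenι T W.1).op).trans ((ha (etOpen T W.1)).trans (t.2 (etOpenι T W.1).op).symm)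

end Groth.Agent.EtQCoh
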