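import Groth.Agent.EtQCoh.FiniteSections
import Groth.Agent.EtQCoh.PushAss
import Groth.Agent.AlgSpLib.Points
import Mathlib.RingTheory.Ideal.AssociatedPrime.Finiteness

/-!
# Finiteness of associated points
-/

set_option backward.isDefEq.respectTransparency false
set_option backward.isDefEq.respectTransparency.types false
set_option linter.style.haveILetI false

universe u

open CategoryTheory CategoryTheory.Limits AlgebraicGeometry Opposite AlgSp TensorProduct

namespace Groth.Agent.EtQCoh

open Groth.Agent.AlgSpQ4.MV Groth.Agent.AlgSpDec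

variable {S : Scheme.{u}} {X : Sp S}

theorem finite_weakAss (A M : Type*) [CommRing A] [IsNoetherianRing A] [AddCommGroup M] [Module A M]
    [Module.Finite A M] : (FlatCA.weakAss A M).Finite := by
  refine (associatedPrimes.finite A M).subset fun p hp => ?_
  obtain ⟨hpr, m, hm⟩ := WeakAss.mem_ass_of_mem_weakAss_of_fg (IsNoetherian.noetherian p) hp
  exact isAssociatedPrime_iff.2 ⟨hpr, m, by
    ext a
    rw [hm, WeakAss.mem_annEl, Submodule.mem_colon_singleton, Submodule.mem_bot]⟩

/-- The associated points in a quasi-compact open are finite. -/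
theorem finite_weakAssEt_inter (hX : IsAlgSpace X) (hN : IsLocNoethSp X) (M : ModEt X) [M.IsQuasicoherent]
    [M.IsFiniteType] (W : Set (Points X)) (hWc : IsCompact W) : (WeakAssEt M ∩ W).Finite := by
  choose E hE u hu using fun x : Points X => exists_affine_chart_pt hX x
  obtain ⟨s, hs⟩ := hWc.elim_finite_subcover (fun x => Set.range (Points.ofPt (E x).obj.hom))
    (fun x => (AlgSpLib.isOpenMap_ofPt (E x).property).isOpen_range) fun x _ => Set.mem_iUnion.2 ⟨x, u x, hu x⟩
  have hfin : ∀ x, {v : ↥(E x).obj.left.left | @IsWeakAssOn _ _ M (E x) (hE x) v}.Finite := fun x => by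
    have := hE x
    have := isNoetherianRing_gam hN (E x)
    have := finite_sect M (E x)
    refine ((finite_weakAss (gam (E x)) (sectModEt M (E x))).preimage fun a _ b _ h => primeAtPt_injective h).subset ?_
    exact fun v hv => (isWeakAssOn_iff M (E x) v).1 hv
  refine (s.finite_toSet.biUnion fun x _ => (hfin x).image (Points.ofPt (E x).obj.hom)).subset ?_
  rintro y ⟨hy, hyW⟩
  obtain ⟨x, hx, v, hv⟩ := Set.mem_iUnion₂.1 (hs hyW)
  have := hE x
  exact Set.mem_iUnion₂.2 ⟨x, hx, v, isWeakAssOn_of_mem M hy (E x) v hv, hv⟩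

end Groth.Agent.EtQCoh
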