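import Groth.Agent.EtQCoh.Basic

/-!
# Base change maps of sections: composites and fibre squares
-/

set_option backward.isDefEq.respectTransparency false
set_option backward.isDefEq.respectTransparency.types false
set_option linter.style.haveILetI false

universe u

open CategoryTheory CategoryTheory.Limits AlgebraicGeometry Opposite AlgSp TensorProduct

namespace Groth.Agent.EtQCoh

open Groth.Agent.AlgSpQ4.MV Groth.Agent.AlgSpDec

variable {S : Scheme.{u}} {X : Sp S} (M : ModEt X)

theorem θ_smul {E T : EtOver X} (g : T ⟶ E) (r : gam T) :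
    letI := (pb g).toAlgebra
    ∀ t : gam T ⊗[gam E] sectModEt M E, θ M g (r • t) = r • θ M g t := by
  letI := (pb g).toAlgebra
  intro t
  induction t with
  | zero => rw [smul_zero, map_zero, smul_zero]
  | tmul a x => rw [TensorProduct.smul_tmul', θ_tmul, θ_tmul, smul_eq_mul, mul_smul]
  | add a b ha hb => rw [smul_add, map_add, map_add, ha, hb, smul_add]

/-- The base change map is linear over the target ring. -/
noncomputable def θLin {E T : EtOver X} (g : T ⟶ E) :
    letI := (pb g).toAlgebra
    gam T ⊗[gam E] sectModEt M E →ₗ[gam T] sectModEt M T :=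
  letI := (pb g).toAlgebra
  { θ M g with map_smul' := θ_smul M g }

theorem θLin_apply {E T : EtOver X} (g : T ⟶ E) :
    letI := (pb g).toAlgebra
    ∀ t : gam T ⊗[gam E] sectModEt M E, θLin M g t = θ M g t := fun _ => rfl

variable {M} in
theorem cart_iff_of_comp {E T T' : EtOver X} (h : T' ⟶ T) (g : T ⟶ E) (hg : CartMap M g) :
    CartMap M (h ≫ g) ↔ CartMap M h := by
  let := (pb g).toAlgebra
  let := (pb h).toAlgebra
  let := (pb (h ≫ g)).toAlgebra
  have : IsScalarTower (gam E) (gam T) (gam T') := .of_algebraMap_eq fun _ => rfl
  let c := AlgebraTensorModule.cancelBaseChange (gam E) (gam T) (gam T') (gam T') (sectModEt M E)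
  have key : ∀ x : gam T' ⊗[gam T] (gam T ⊗[gam E] sectModEt M E),
      θ M (h ≫ g) (c x) = θ M h ((θLin M g).lTensor (gam T') x) := by
    intro x
    induction x with
    | zero => simp only [map_zero]
    | add a b ha hb => simp only [map_add, ha, hb]
    | tmul c' y =>
      induction y with
      | zero => simp only [TensorProduct.tmul_zero, map_zero]
      | add a b ha hb => simp only [TensorProduct.tmul_add, map_add, ha, hb]
      | tmul r m =>
        rw [AlgebraTensorModule.cancelBaseChange_tmul, LinearMap.lTensor_tmul, θLin_apply, θ_tmul, θ_tmul, θ_tmul,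
          res_smul, res_comp, Algebra.smul_def, smul_smul, mul_comm]
        rfl
  have hb : Function.Bijective ((θLin M g).lTensor (gam T')) :=
    ((LinearEquiv.ofBijective (θLin M g) hg).lTensor (gam T')).bijective
  have e : (θ M (h ≫ g) : _ → _) ∘ c = (θ M h : _ → _) ∘ ((θLin M g).lTensor (gam T')) := funext key
  show Function.Bijective (θ M (h ≫ g)) ↔ Function.Bijective (θ M h)
  rw [← Function.Bijective.of_comp_iff (θ M (h ≫ g)) c.bijective, e, Function.Bijective.of_comp_iff (θ M h) hb]

/-- The base change map of a square, on sections over the second object. -/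
noncomputable def κ {E F T W : EtOver X} (g : T ⟶ E) (e : F ⟶ E) (p : W ⟶ T) (q : W ⟶ F) (hw : p ≫ g = q ≫ e) :
    letI := (pb g).toAlgebra; letI : Module (gam E) (sectModEt M F) := Module.compHom _ (pb e)
    gam T ⊗[gam E] sectModEt M F →+ sectModEt M W :=
  letI := (pb g).toAlgebra
  letI : Module (gam E) (sectModEt M F) := Module.compHom _ (pb e)
  TensorProduct.liftAddHom
    { toFun := fun r =>
        { toFun := fun x => pb p r • res M q x
          map_zero' := by rw [map_zero, smul_zero]
          map_add' := fun x y => by rw [map_add, smul_add] }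
      map_zero' := by
        ext x
        show pb p 0 • res M q x = 0
        rw [map_zero, zero_smul]
      map_add' := fun r r' => by
        ext x
        show pb p (r + r') • res M q x = pb p r • res M q x + pb p r' • res M q x
        rw [map_add, add_smul] }
    fun a r x => by
      show pb p (a • r) • res M q x = pb p r • res M q (pb e a • x)
      rw [res_smul, Algebra.smul_def, map_mul, mul_comm, mul_smul]
      congr 2
      show pb (p ≫ g) a = pb (q ≫ e) a
      rw [hw]

theorem κ_tmul {E F T W : EtOver X} (g : T ⟶ E) (e : F ⟶ E) (p : W ⟶ T) (q : W ⟶ F) (hw : p ≫ g = q ≫ e)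
    (r : gam T) (x : sectModEt M F) :
    letI := (pb g).toAlgebra; letI : Module (gam E) (sectModEt M F) := Module.compHom _ (pb e)
    κ M g e p q hw (r ⊗ₜ[gam E] x) = pb p r • res M q x := rfl

theorem κ_bijective {E F T W : EtOver X} [IsAffine E.obj.left.left] [IsAffine F.obj.left.left]
    [IsAffine T.obj.left.left] (g : T ⟶ E) (e : F ⟶ E) (p : W ⟶ T) (q : W ⟶ F) (hw : p ≫ g = q ≫ e)
    (h : IsPullback p.hom.left.left q.hom.left.left g.hom.left.left e.hom.left.left) (hq : CartMap M q) :
    Function.Bijective (κ M g e p q hw) := by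
  let := (pb g).toAlgebra; let := (pb e).toAlgebra; let := (pb p).toAlgebra; let := (pb q).toAlgebra
  let := (pb (p ≫ g)).toAlgebra
  let : Module (gam E) (sectModEt M F) := Module.compHom _ (pb e)
  have : IsScalarTower (gam E) (gam F) (sectModEt M F) := ⟨fun a b x => by
    show (pb e a * b) • x = pb e a • b • x
    rw [mul_smul]⟩
  have : IsScalarTower (gam E) (gam T) (gam W) := .of_algebraMap_eq fun _ => rfl
  have : IsScalarTower (gam E) (gam F) (gam W) := .of_algebraMap_eq fun x =>
    (DFunLike.congr_fun (congrArg pb hw) x : pb (p ≫ g) x = pb (q ≫ e) x)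
  have := isPushout_gam hw h
  let c := Algebra.IsPushout.cancelBaseChange (gam E) (gam T) (gam F) (gam W) (sectModEt M F)
  have key : ∀ t, κ M g e p q hw t = θ M q (c.symm t) := fun t => by
    induction t with
    | zero => simp only [map_zero]
    | add a b ha hb => simp only [map_add, ha, hb]
    | tmul r x => rw [Algebra.IsPushout.cancelBaseChange_symm_tmul, θ_tmul, κ_tmul]; rfl
  rw [show (κ M g e p q hw : _ → _) = (θ M q : _ → _) ∘ c.symm from funext key]
  exact hq.comp c.symm.bijective

end Groth.Agent.EtQCoh
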