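import Groth.Agent.EtQCoh.OverSite
import Groth.Agent.EtQCoh.Cancel

/-!
# Presented modules are cartesian on affine objects
-/

set_option backward.isDefEq.respectTransparency false
set_option backward.isDefEq.respectTransparency.types false
set_option linter.style.haveILetI false
set_option maxHeartbeats 1000000

universe u

open CategoryTheory CategoryTheory.Limits AlgebraicGeometry Opposite AlgSp TensorProduct

namespace Groth.Agent.EtQCoh

open Groth.Agent.AlgSpQ4.MV Groth.Agent.AlgSpDec

variable {S : Scheme.{u}} {X : Sp S} {U : EtOver X}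

/-- Generators and relations of a module over an object, through their local behaviour. -/
structure Pres (N : ModEtOn U) where
  /-- the generators -/
  I : Type (u + 1)
  /-- the relations -/
  J : Type (u + 1)
  /-- the map given by the generators -/
  π : ofree U I ⟶ N
  /-- the map given by the relations -/
  φ : ofree U J ⟶ ofree U I
  comp : φ ≫ π = 0
  gen : ∀ {T : EtOver X} (a : T ⟶ U) (x : osect N a), ∃ R ∈ (etTop X).over U (Over.mk a),
    ∀ ⦃V : Over U⦄ (f : V ⟶ Over.mk a), R f → ∃ z, π.val.app (op V) z = N.val.map f.op x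
  exact : ∀ {T : EtOver X} (a : T ⟶ U) (y : osect (ofree U I) a), oapp π a y = 0 → ∃ R ∈ (etTop X).over U (Over.mk a),
    ∀ ⦃V : Over U⦄ (f : V ⟶ Over.mk a), R f → ∃ z, φ.val.app (op V) z = (ofree U I).val.map f.op y

/-- A presentation gives generators and relations. -/
noncomputable def Pres.ofPresentation {N : ModEtOn U} (P : N.Presentation) : Pres N where
  I := P.generators.I
  J := P.relations.I
  π := P.generators.π
  φ := Free.relMap P
  comp := Free.relMap_comp P
  gen a x := Free.locally_mem_range_of_epi P.generators.π (T := Over.mk a) x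
  exact a y hy := Free.locally_mem_range_relations P (T := Over.mk a) y hy

variable {N : ModEtOn U} (P : Pres N)

/-- The combination map of the generators. -/
noncomputable def lc {T : EtOver X} (a : T ⟶ U) : (P.I →₀ gam T) →ₗ[gam T] osect N a :=
  (oapp P.π a).comp (ocomb P.I a)

theorem lc_apply {T : EtOver X} (a : T ⟶ U) (c : P.I →₀ gam T) : lc P a c = oapp P.π a (ocomb P.I a c) := rfl

/-- The module of relations on an object. -/
noncomputable def rels {T : EtOver X} (a : T ⟶ U) : Submodule (gam T) (P.I →₀ gam T) :=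
  Submodule.comap (ocomb P.I a) (LinearMap.range (oapp P.φ a))

theorem ores_lc {T V : EtOver X} {a : T ⟶ U} {b : V ⟶ U} (h : V ⟶ T) (w : h ≫ a = b)
    (c : P.I →₀ gam T) : ores N h w (lc P a c) = lc P b (c.mapRange (pb h) (map_zero _)) := by
  rw [lc_apply, lc_apply, ← ores_ocomb _ h w, oapp_ores]

theorem rels_le_ker {T : EtOver X} (a : T ⟶ U) : rels P a ≤ LinearMap.ker (lc P a) := by
  rintro c ⟨z, hz⟩
  refine LinearMap.mem_ker.2 ((lc_apply P a c).trans ?_)
  refine Eq.trans (congrArg (oapp P.π a) hz.symm) ?_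
  exact congrArg (fun k : ofree U P.J ⟶ N => k.val.app (op (Over.mk a)) z) P.comp

theorem mapRange_mem_rels {T V : EtOver X} {a : T ⟶ U} {b : V ⟶ U} (h : V ⟶ T) (w : h ≫ a = b)
    {c : P.I →₀ gam T} (hc : c ∈ rels P a) : c.mapRange (pb h) (map_zero _) ∈ rels P b := by
  obtain ⟨z, hz⟩ := hc
  exact ⟨ores _ h w z, by rw [oapp_ores, hz, ores_ocomb]⟩

theorem rels_le_span {T V : EtOver X} [IsAffine T.obj.left.left] [IsAffine V.obj.left.left] {a : T ⟶ U} {b : V ⟶ U}
    (h : V ⟶ T) (w : h ≫ a = b) :
    rels P b ≤ Submodule.span (gam V) ((fun c : P.I →₀ gam T => c.mapRange (pb h) (map_zero _)) ''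
      (rels P a : Set (P.I →₀ gam T))) := by
  rintro c ⟨z, hz⟩
  obtain ⟨d, rfl⟩ := ocomb_surjective P.J b z
  have hk : ∀ j, ∃ k ∈ rels P a, ocomb P.I a k = oapp P.φ a (obasis P.J a j) := fun j => by
    obtain ⟨k, hk⟩ := ocomb_surjective P.I a (oapp P.φ a (obasis P.J a j))
    exact ⟨k, ⟨_, hk.symm⟩, hk⟩
  choose k hk hk' using hk
  suffices hc : c = Finsupp.linearCombination (gam V) (fun j => (k j).mapRange (pb h) (map_zero _)) d by
    rw [hc, Finsupp.linearCombination_apply]
    exact Submodule.sum_mem _ fun j _ => Submodule.smul_mem _ _ (Submodule.subset_span ⟨k j, hk j, rfl⟩)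
  apply ocomb_injective P.I b
  rw [← hz, ← LinearMap.comp_apply, ← LinearMap.comp_apply]
  refine LinearMap.congr_fun (Finsupp.lhom_ext' fun j => LinearMap.ext_ring ?_) d
  simp only [LinearMap.comp_apply, Finsupp.lsingle_apply, Finsupp.linearCombination_single, one_smul]
  rw [show ocomb P.J b (Finsupp.single j 1) = ores _ h w (obasis P.J a j) from by
    rw [ocomb, Finsupp.linearCombination_single, one_smul]
    exact (Free.basis_map (R := OEtOn U) j (Over.homMk h w : Over.mk b ⟶ Over.mk a)).symm, oapp_ores, ← hk', ores_ocomb]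

theorem exists_local_rels {T : EtOver X} [IsAffine T.obj.left.left] (a : T ⟶ U) {c : P.I →₀ gam T}
    (hc : lc P a c = 0) :
    ∃ (ι : Type u) (_ : Finite ι) (Y : ι → EtOver X) (_ : ∀ i, IsAffine (Y i).obj.left.left) (h : ∀ i, Y i ⟶ T),
      (∀ x : ↥T.obj.left.left, ∃ i, x ∈ Set.range (h i).hom.left.left) ∧
        ∀ i, c.mapRange (pb (h i)) (map_zero _) ∈ rels P (h i ≫ a) := by
  obtain ⟨R, hR, hy⟩ := P.exact a (ocomb P.I a c) hc
  obtain ⟨ι, hι, Y, hY, h, hm, hcov⟩ := exists_cover_over a R hR
  refine ⟨ι, hι, Y, hY, h, hcov, fun i => ?_⟩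
  obtain ⟨z, hz⟩ := hy _ (hm i)
  exact ⟨z, by rw [← ores_ocomb _ (h i) rfl]; exact hz⟩

theorem exists_local_lc {T : EtOver X} [IsAffine T.obj.left.left] (a : T ⟶ U) (x : osect N a) :
    ∃ (ι : Type u) (_ : Finite ι) (Y : ι → EtOver X) (_ : ∀ i, IsAffine (Y i).obj.left.left) (h : ∀ i, Y i ⟶ T),
      (∀ x : ↥T.obj.left.left, ∃ i, x ∈ Set.range (h i).hom.left.left) ∧
        ∀ i, ∃ c, lc P (h i ≫ a) c = ores N (h i) rfl x := by
  obtain ⟨R, hR, hy⟩ := P.gen a x
  obtain ⟨ι, hι, Y, hY, h, hm, hcov⟩ := exists_cover_over a R hR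
  refine ⟨ι, hι, Y, hY, h, hcov, fun i => ?_⟩
  obtain ⟨z, hz⟩ := hy _ (hm i)
  have := hY i
  obtain ⟨c, rfl⟩ := ocomb_surjective P.I (h i ≫ a) z
  exact ⟨c, hz⟩

/-- Sections as base change of the presented module. -/
noncomputable def piMap {T V : EtOver X} (a : T ⟶ U) (h : V ⟶ T) :
    letI := (pb h).toAlgebra
    (P.I →₀ gam V) →ₗ[gam V] gam V ⊗[gam T] ((P.I →₀ gam T) ⧸ rels P a) :=
  letI := (pb h).toAlgebra
  Finsupp.linearCombination (gam V) fun i =>
    (1 : gam V) ⊗ₜ[gam T] Submodule.Quotient.mk (Finsupp.single i 1)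

theorem piMap_mapRange {T V : EtOver X} (a : T ⟶ U) (h : V ⟶ T) (v : P.I →₀ gam T) :
    letI := (pb h).toAlgebra
    piMap P a h (v.mapRange (pb h) (map_zero _)) = (1 : gam V) ⊗ₜ[gam T] Submodule.Quotient.mk v :=
  letI := (pb h).toAlgebra
  tensorLC_mapRange (rels P a).mkQ v

theorem piMap_single {T V : EtOver X} (a : T ⟶ U) (h : V ⟶ T) (i : P.I) (r : gam V) :
    letI := (pb h).toAlgebra
    piMap P a h (Finsupp.single i r) = r ⊗ₜ[gam T] Submodule.Quotient.mk (Finsupp.single i 1) :=
  letI := (pb h).toAlgebra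
  tensorLC_single (rels P a).mkQ i r

theorem piMap_surjective {T V : EtOver X} (a : T ⟶ U) (h : V ⟶ T) : Function.Surjective (piMap P a h) :=
  letI := (pb h).toAlgebra
  tensorLC_surjective (rels P a).mkQ (Submodule.mkQ_surjective _)

theorem piMap_rels {T V : EtOver X} [IsAffine T.obj.left.left] [IsAffine V.obj.left.left] {a : T ⟶ U} {b : V ⟶ U}
    (h : V ⟶ T) (w : h ≫ a = b) {c : P.I →₀ gam V} (hc : c ∈ rels P b) : piMap P a h c = 0 := by
  let := (pb h).toAlgebra
  refine (Submodule.span_le (p := LinearMap.ker (piMap P a h))).2 ?_ (rels_le_span P h w hc)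
  rintro _ ⟨v, hv, rfl⟩
  show piMap P a h _ = 0
  rw [piMap_mapRange, (Submodule.Quotient.mk_eq_zero _).2 hv, TensorProduct.tmul_zero]

/-- The kernel of the combination map is the module of relations. -/
theorem ker_lc {T : EtOver X} [IsAffine T.obj.left.left] (a : T ⟶ U) : LinearMap.ker (lc P a) = rels P a := by
  refine le_antisymm (fun c hc => ?_) (rels_le_ker P a)
  obtain ⟨ι, hι, Y, hY, h, hcov, hh⟩ := exists_local_rels P a hc
  let := fun i => (pb (h i)).toAlgebra
  refine (Submodule.Quotient.mk_eq_zero _).1 (eq_zero_of_cover (isCoverAlg_of_cover Y h hcov) fun i => ?_)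
  rw [← piMap_mapRange]
  have := hY i
  exact piMap_rels P (h i) rfl (hh i)

/-- The map induced by the generators. -/
noncomputable def phi {T : EtOver X} (a : T ⟶ U) :
    ((P.I →₀ gam T) ⧸ rels P a) →ₗ[gam T] osect N a :=
  Submodule.liftQ _ (lc P a) (rels_le_ker P a)

/-- Base change of the presented module to the sections of the module. -/
noncomputable def mu {T V : EtOver X} (a : T ⟶ U) {b : V ⟶ U} (h : V ⟶ T) (w : h ≫ a = b) :
    letI := (pb h).toAlgebra
    gam V ⊗[gam T] ((P.I →₀ gam T) ⧸ rels P a) →+ osect N b :=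
  letI := (pb h).toAlgebra
  TensorProduct.liftAddHom
    { toFun := fun r =>
        { toFun := fun x => r • ores N h w (phi P a x)
          map_zero' := by rw [map_zero, map_zero, smul_zero]
          map_add' := fun x y => by rw [map_add, map_add, smul_add] }
      map_zero' := by
        ext x
        exact zero_smul _ _
      map_add' := fun r r' => by
        ext x
        exact add_smul _ _ _ }
    fun s r x => by
      show (s • r) • ores N h w (phi P a x) = r • ores N h w (phi P a (s • x))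
      rw [map_smul, ores_smul, Algebra.smul_def, mul_comm, mul_smul]
      rfl

theorem mu_piMap {T V : EtOver X} (a : T ⟶ U) {b : V ⟶ U} (h : V ⟶ T) (w : h ≫ a = b)
    (c : P.I →₀ gam V) : mu P a h w (piMap P a h c) = lc P b c := by
  let := (pb h).toAlgebra
  induction c using Finsupp.induction_linear with
  | zero => simp
  | add c d hc hd => rw [map_add, map_add, map_add, hc, hd]
  | single i r =>
    rw [piMap_single]
    show r • ores N h w (lc P a (Finsupp.single i 1)) = _
    rw [ores_lc, Finsupp.mapRange_single, map_one, ← map_smul, Finsupp.smul_single, smul_eq_mul, mul_one]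

theorem mu_injective {T V : EtOver X} [IsAffine T.obj.left.left] [IsAffine V.obj.left.left] (a : T ⟶ U) {b : V ⟶ U}
    (h : V ⟶ T) (w : h ≫ a = b) : Function.Injective (mu P a h w) := by
  let := (pb h).toAlgebra
  rw [injective_iff_map_eq_zero]
  intro t ht
  obtain ⟨c, rfl⟩ := piMap_surjective P a h t
  rw [mu_piMap] at ht
  exact piMap_rels P h w ((ker_lc P b).le ht)

end Groth.Agent.EtQCoh
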