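import Groth.Agent.EtQCoh.Base

/-!
# Presented modules are cartesian on affine objects (conclusion)
-/

set_option backward.isDefEq.respectTransparency false
set_option backward.isDefEq.respectTransparency.types false
set_option linter.style.haveILetI false
set_option maxHeartbeats 1000000

universe u

open CategoryTheory CategoryTheory.Limits AlgebraicGeometry Opposite AlgSp TensorProduct

namespace Groth.Agent.EtQCoh

open Groth.Agent.AlgSpQ4.MV Groth.Agent.AlgSpDec

variable {S : Scheme.{u}} {X : Sp S} {U : EtOver X} {N : ModEtOn U} (P : Pres N)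

theorem mu_tensor_right {T Y Y' Z : EtOver X} (a : T ⟶ U) (h : Y ⟶ T) (h' : Y' ⟶ T) (r : Z ⟶ Y) (q : Z ⟶ Y')
    (hw : r ≫ h = q ≫ h') {b : Z ⟶ U} (hb : (r ≫ h) ≫ a = b) (hq : q ≫ h' ≫ a = b) :
    letI := (pb h).toAlgebra; letI := (pb h').toAlgebra; letI := (pb (r ≫ h)).toAlgebra
    ∀ (e : gam Y ⊗[gam T] (gam Y' ⊗[gam T] ((P.I →₀ gam T) ⧸ rels P a)) ≃+
      gam Z ⊗[gam T] ((P.I →₀ gam T) ⧸ rels P a)),
      (∀ s s' x, e (s ⊗ₜ[gam T] (s' ⊗ₜ[gam T] x)) = (pb r s * pb q s') ⊗ₜ[gam T] x) →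
      ∀ z : gam Y' ⊗[gam T] ((P.I →₀ gam T) ⧸ rels P a),
        mu P a (r ≫ h) hb (e ((1 : gam Y) ⊗ₜ[gam T] z)) = ores N q hq (mu P a h' rfl z) := by
  let := (pb h).toAlgebra; let := (pb h').toAlgebra; let := (pb (r ≫ h)).toAlgebra
  intro e he z
  refine tensor_addHom_ext
    (f := (mu P a (r ≫ h) hb).comp (e.toAddMonoidHom.comp
      (TensorProduct.mk (gam T) (gam Y) (gam Y' ⊗[gam T] ((P.I →₀ gam T) ⧸ rels P a)) 1).toAddMonoidHom))
    (g := (ores N q hq).comp (mu P a h' rfl)) (fun s x => ?_) z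
  refine (congrArg (mu P a (r ≫ h) hb) (he 1 s x)).trans ?_
  show (pb r 1 * pb q s) • ores N (r ≫ h) hb (phi P a x) = ores N q hq (s • ores N h' rfl (phi P a x))
  rw [map_one, one_mul, ores_smul, ores_ores N h' rfl q hq (r ≫ h) hw.symm]

theorem mu_tensor_left {T Y Y' Z : EtOver X} (a : T ⟶ U) (h : Y ⟶ T) (h' : Y' ⟶ T) (r : Z ⟶ Y) (q : Z ⟶ Y')
    {b : Z ⟶ U} (hb : (r ≫ h) ≫ a = b) (hr : r ≫ h ≫ a = b) :
    letI := (pb h).toAlgebra; letI := (pb h').toAlgebra; letI := (pb (r ≫ h)).toAlgebra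
    ∀ (e : gam Y ⊗[gam T] (gam Y' ⊗[gam T] ((P.I →₀ gam T) ⧸ rels P a)) ≃+
      gam Z ⊗[gam T] ((P.I →₀ gam T) ⧸ rels P a)),
      (∀ s s' x, e (s ⊗ₜ[gam T] (s' ⊗ₜ[gam T] x)) = (pb r s * pb q s') ⊗ₜ[gam T] x) →
      ∀ z : gam Y ⊗[gam T] ((P.I →₀ gam T) ⧸ rels P a),
        mu P a (r ≫ h) hb (e ((TensorProduct.mk (gam T) (gam Y') ((P.I →₀ gam T) ⧸ rels P a) 1).lTensor (gam Y) z)) =
          ores N r hr (mu P a h rfl z) := by
  let := (pb h).toAlgebra; let := (pb h').toAlgebra; let := (pb (r ≫ h)).toAlgebra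
  intro e he z
  refine tensor_addHom_ext
    (f := (mu P a (r ≫ h) hb).comp (e.toAddMonoidHom.comp
      ((TensorProduct.mk (gam T) (gam Y') ((P.I →₀ gam T) ⧸ rels P a) 1).lTensor (gam Y)).toAddMonoidHom))
    (g := (ores N r hr).comp (mu P a h rfl)) (fun s x => ?_) z
  refine (congrArg (mu P a (r ≫ h) hb) (he s 1 x)).trans ?_
  show (pb r s * pb q 1) • ores N (r ≫ h) hb (phi P a x) = ores N r hr (s • ores N h rfl (phi P a x))
  rw [map_one, mul_one, ores_smul, ores_ores N h rfl r hr (r ≫ h) rfl]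

/-- The generators generate on every affine object. -/
theorem lc_surjective {T : EtOver X} [IsAffine T.obj.left.left] (a : T ⟶ U) : Function.Surjective (lc P a) := by
  intro x
  obtain ⟨ι, hι, Y, hY, h, hcov, hh⟩ := exists_local_lc P a x
  choose c hc using hh
  let := fun i => (pb (h i)).toAlgebra
  let t := fun i => piMap P a (h i) (c i)
  have ht : ∀ m j, (TensorProduct.mk (gam T) (gam (Y j)) ((P.I →₀ gam T) ⧸ rels P a) 1).lTensor (gam (Y m))
      (t m) = (1 : gam (Y m)) ⊗ₜ[gam T] t j := by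
    intro m j
    obtain ⟨Z, hZ, r, q, hw, hp, -⟩ := exists_affine_pullback (h m) (h j)
    let := (pb r).toAlgebra; let := (pb q).toAlgebra; let := (pb (r ≫ h m)).toAlgebra
    have : IsScalarTower (gam T) (gam (Y m)) (gam Z) := .of_algebraMap_eq fun _ => rfl
    have : IsScalarTower (gam T) (gam (Y j)) (gam Z) := .of_algebraMap_eq fun y =>
      (DFunLike.congr_fun (congrArg pb hw) y : pb (r ≫ h m) y = pb (q ≫ h j) y)
    have := isPushout_gam hw hp
    obtain ⟨e, he⟩ := exists_pushout_tensor (gam T) (gam (Y m)) (gam (Y j)) (gam Z) ((P.I →₀ gam T) ⧸ rels P a)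
    have hb : (r ≫ h m) ≫ a = r ≫ h m ≫ a := Category.assoc _ _ _
    have hq : q ≫ h j ≫ a = r ≫ h m ≫ a := by rw [← Category.assoc, ← hw, Category.assoc]
    apply e.injective
    apply mu_injective P a (r ≫ h m) hb
    rw [mu_tensor_left P a (h m) (h j) r q hb rfl e he, mu_tensor_right P a (h m) (h j) r q hw hb hq e he,
      mu_piMap, mu_piMap, hc, hc, ores_ores N (h m) rfl r rfl (r ≫ h m) rfl,
      ores_ores N (h j) rfl q hq (r ≫ h m) hw.symm]
  obtain ⟨p, hp⟩ := amitsur (isCoverAlg_of_cover Y h hcov) t ht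
  obtain ⟨v, rfl⟩ := Submodule.Quotient.mk_surjective _ p
  refine ⟨v, osect_ext N a Y h hcov fun i => ?_⟩
  rw [← hc, ← mu_piMap P a (h i) rfl (c i)]
  refine Eq.trans ?_ (congrArg (mu P a (h i) rfl) (hp i))
  show _ = (1 : gam (Y i)) • ores N (h i) rfl (lc P a v)
  rw [one_smul]

theorem phi_bijective {T : EtOver X} [IsAffine T.obj.left.left] (a : T ⟶ U) : Function.Bijective (phi P a) := by
  refine ⟨?_, fun x => ?_⟩
  · rw [← LinearMap.ker_eq_bot, phi]
    exact Submodule.ker_liftQ_eq_bot _ _ _ (ker_lc P a).le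
  · obtain ⟨c, hc⟩ := lc_surjective P a x
    exact ⟨Submodule.Quotient.mk c, hc⟩

theorem mu_bijective {T V : EtOver X} [IsAffine T.obj.left.left] [IsAffine V.obj.left.left] (a : T ⟶ U) {b : V ⟶ U}
    (h : V ⟶ T) (w : h ≫ a = b) : Function.Bijective (mu P a h w) := by
  refine ⟨mu_injective P a h w, fun x => ?_⟩
  obtain ⟨c, hc⟩ := lc_surjective P b x
  exact ⟨piMap P a h c, (mu_piMap P a h w c).trans hc⟩

/-- A presented module is cartesian on affine objects over the presenting object. -/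
theorem cartAt_of_pres {M : ModEt X} (P : Pres (SheafOfModules.over M U)) {E : EtOver X}
    (hE : IsAffine E.obj.left.left) (a : E ⟶ U) : CartAt M E := by
  intro T hT g
  let := (pb g).toAlgebra
  let φ : ((P.I →₀ gam E) ⧸ rels P a) ≃ₗ[gam E] sectModEt M E :=
    LinearEquiv.ofBijective
      { toFun := phi P a, map_add' := map_add _, map_smul' := fun r x => map_smul (phi P a) r x }
      (phi_bijective P a)
  have key : ∀ t, θ M g (φ.toLinearMap.lTensor (gam T) t) = mu P a g rfl t := fun t => by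
    induction t with
    | zero => simp only [map_zero]
    | add x y hx hy => simp only [map_add, hx, hy]
    | tmul r y => rfl
  have hb : Function.Bijective (φ.toLinearMap.lTensor (gam T)) := (φ.lTensor (gam T)).bijective
  show Function.Bijective (θ M g)
  rw [← Function.Bijective.of_comp_iff (θ M g) hb, show (θ M g : _ → _) ∘ φ.toLinearMap.lTensor (gam T) =
    (mu P a g rfl : _ → _) from funext key]
  exact mu_bijective P a g rfl

end Groth.Agent.EtQCoh
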