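import Groth.Agent.AlgSpQ4.MVSite
import Groth.Prelude.Def_AlgSpModX
import Groth.Agent.EtQCoh.Alg

/-!
# Modules of sections on affine objects of the small etale site
-/

set_option backward.isDefEq.respectTransparency false
set_option linter.style.haveILetI false
set_option backward.isDefEq.respectTransparency.types false

universe u

open CategoryTheory CategoryTheory.Limits AlgebraicGeometry Opposite AlgSp TensorProduct

namespace Groth.Agent.EtQCoh

open Groth.Agent.AlgSpQ4.MV Groth.Agent.AlgSpDec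

variable {S : Scheme.{u}} {X : Sp S}

/-- The global functions on an object. -/
abbrev gam (E : EtOver X) : Type u := Γ(E.obj.left.left, ⊤)

/-- Pullback of global functions. -/
noncomputable abbrev pb {E T : EtOver X} (g : T ⟶ E) : gam E →+* gam T := g.hom.left.left.appTop.hom

theorem pb_id (E : EtOver X) (a : gam E) : pb (𝟙 E) a = a := rfl

theorem pb_comp {E T T' : EtOver X} (h : T' ⟶ T) (g : T ⟶ E) (a : gam E) : pb (h ≫ g) a = pb h (pb g a) := rfl

noncomputable instance sectModule (M : ModEt X) (E : EtOver X) : Module (gam E) (sectModEt M E) :=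
  Module.compHom _ (upΓ E)

theorem smul_def {M : ModEt X} {E : EtOver X} (a : gam E) (x : sectModEt M E) : a • x = upΓ E a • x := rfl

theorem res_smul {M : ModEt X} {E T : EtOver X} (g : T ⟶ E) (a : gam E) (x : sectModEt M E) :
    res M g (a • x) = pb g a • res M g x := by
  rw [smul_def, smul_def, res_eq, res_eq]
  exact PresheafOfModules.map_smul M.val g.op (upΓ E a) x

theorem app_smul {M N : ModEt X} (φ : M ⟶ N) {E : EtOver X} (a : gam E) (x : sectModEt M E) :
    φ.val.app (op E) (a • x) = a • φ.val.app (op E) x :=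
  map_smul (φ.val.app (op E)).hom (upΓ E a) x

theorem app_res {M N : ModEt X} (φ : M ⟶ N) {E T : EtOver X} (g : T ⟶ E) (x : sectModEt M E) :
    φ.val.app (op T) (res M g x) = res N g (φ.val.app (op E) x) :=
  PresheafOfModules.naturality_apply φ.val g.op x

theorem mem_annSect_iff' {M : ModEt X} {E : EtOver X} (s : sectModEt M E) (a : gam E) :
    a ∈ annSect s ↔ a • s = 0 := Iff.rfl

/-- Restriction as a linear map to a module with restricted scalars. -/
noncomputable def resLin (M : ModEt X) {E T : EtOver X} (g : T ⟶ E) :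
    sectModEt M E →ₛₗ[pb g] sectModEt M T where
  toFun := res M g
  map_add' := map_add _
  map_smul' := res_smul g

theorem flat_pb {E T : EtOver X} [IsAffine E.obj.left.left] [IsAffine T.obj.left.left] (g : T ⟶ E) :
    (pb g).Flat := by
  have : Etale g.hom.left.left := EtOver.etale_left g
  exact HasRingHomProperty.appTop @Flat g.hom.left.left inferInstance

/-- The base change map of sections. -/
noncomputable def θ (M : ModEt X) {E T : EtOver X} (g : T ⟶ E) :
    letI := (pb g).toAlgebra
    gam T ⊗[gam E] sectModEt M E →+ sectModEt M T :=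
  letI := (pb g).toAlgebra
  TensorProduct.liftAddHom
    { toFun := fun r =>
        { toFun := fun x => r • res M g x
          map_zero' := by rw [map_zero, smul_zero]
          map_add' := fun x y => by rw [map_add, smul_add] }
      map_zero' := by
        ext x
        exact zero_smul _ _
      map_add' := fun r r' => by
        ext x
        exact add_smul _ _ _ }
    fun a r x => by
      show (a • r) • res M g x = r • res M g (a • x)
      rw [res_smul, Algebra.smul_def, mul_comm, mul_smul]
      rfl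

theorem θ_tmul (M : ModEt X) {E T : EtOver X} (g : T ⟶ E) (r : gam T) (x : sectModEt M E) :
    letI := (pb g).toAlgebra
    θ M g (r ⊗ₜ[gam E] x) = r • res M g x := rfl

/-- The sections over `T` are the base change of those over `E`. -/
def CartMap (M : ModEt X) {E T : EtOver X} (g : T ⟶ E) : Prop :=
  letI := (pb g).toAlgebra
  Function.Bijective (θ M g)

/-- A module is cartesian at an affine object. -/
def CartAt (M : ModEt X) (E : EtOver X) : Prop :=
  ∀ (T : EtOver X) (_ : IsAffine T.obj.left.left) (g : T ⟶ E), CartMap M g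

/-- Fibre products of affine objects over an affine object. -/
theorem exists_affine_pullback {E F T : EtOver X} [IsAffine E.obj.left.left] [IsAffine F.obj.left.left]
    [IsAffine T.obj.left.left] (g : T ⟶ E) (e : F ⟶ E) :
    ∃ (W : EtOver X) (_ : IsAffine W.obj.left.left) (p : W ⟶ T) (q : W ⟶ F), p ≫ g = q ≫ e ∧
      IsPullback p.hom.left.left q.hom.left.left g.hom.left.left e.hom.left.left ∧
      ∀ {V : EtOver X} (a : V ⟶ T) (b : V ⟶ F), a ≫ g = b ≫ e → ∃ l : V ⟶ W, l ≫ p = a ∧ l ≫ q = b := by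
  have : Etale e.hom.left.left := EtOver.etale_left e
  let P := pullback g.hom.left.left e.hom.left.left
  let p₀ : Over.mk (pullback.fst g.hom.left.left e.hom.left.left ≫ T.obj.left.hom) ⟶ T.obj.left :=
    Over.homMk (pullback.fst g.hom.left.left e.hom.left.left) rfl
  have hw : pullback.snd g.hom.left.left e.hom.left.left ≫ F.obj.left.hom =
      pullback.fst g.hom.left.left e.hom.left.left ≫ T.obj.left.hom := by
    rw [← Over.w e.hom.left, ← reassoc_of% pullback.condition (f := g.hom.left.left) (g := e.hom.left.left),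
      Over.w g.hom.left]
  let q₀ : Over.mk (pullback.fst g.hom.left.left e.hom.left.left ≫ T.obj.left.hom) ⟶ F.obj.left :=
    Over.homMk (pullback.snd g.hom.left.left e.hom.left.left) hw
  let W : EtOver X := EtOver.mk ((yon S).map p₀ ≫ T.obj.hom)
    (AlgSpLib.repWith_comp ((repWith_yon_map_iff _ _).2 (inferInstanceAs
      (Etale (pullback.fst g.hom.left.left e.hom.left.left)))) T.property)
  have hsq : q₀ ≫ e.hom.left = p₀ ≫ g.hom.left := Over.OverMorphism.ext pullback.condition.symm
  let p : W ⟶ T := EtOver.homMk p₀ rfl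
  let q : W ⟶ F := EtOver.homMk q₀ (by
    show (yon S).map q₀ ≫ F.obj.hom = (yon S).map p₀ ≫ T.obj.hom
    rw [← EtOver.w e, ← EtOver.w g, ← Category.assoc, ← Category.assoc, ← Functor.map_comp, ← Functor.map_comp, hsq])
  refine ⟨W, inferInstanceAs (IsAffine (pullback g.hom.left.left e.hom.left.left)), p, q,
    EtOver.hom_ext _ _ hsq.symm, IsPullback.of_hasPullback _ _, fun {V} a b h => ?_⟩
  have h' : a.hom.left.left ≫ g.hom.left.left = b.hom.left.left ≫ e.hom.left.left :=
    congrArg (fun k => k.hom.left.left) h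
  let l₀ : V.obj.left ⟶ Over.mk (pullback.fst g.hom.left.left e.hom.left.left ≫ T.obj.left.hom) :=
    Over.homMk (pullback.lift a.hom.left.left b.hom.left.left h') (by
      show pullback.lift _ _ h' ≫ pullback.fst _ _ ≫ _ = _
      rw [pullback.lift_fst_assoc, Over.w a.hom.left])
  have hl : l₀ ≫ p₀ = a.hom.left := Over.OverMorphism.ext (pullback.lift_fst _ _ _)
  refine ⟨EtOver.homMk l₀ ?_, EtOver.hom_ext _ _ hl, EtOver.hom_ext _ _ (Over.OverMorphism.ext (pullback.lift_snd _ _ _))⟩
  show (yon S).map l₀ ≫ (yon S).map p₀ ≫ T.obj.hom = V.obj.hom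
  rw [← Category.assoc, ← Functor.map_comp, hl, EtOver.w a]

theorem isPushout_gam {E F T W : EtOver X} [IsAffine E.obj.left.left] [IsAffine F.obj.left.left]
    [IsAffine T.obj.left.left] {g : T ⟶ E} {e : F ⟶ E} {p : W ⟶ T} {q : W ⟶ F} (hw : p ≫ g = q ≫ e)
    (h : IsPullback p.hom.left.left q.hom.left.left g.hom.left.left e.hom.left.left) :
    letI := (pb g).toAlgebra; letI := (pb e).toAlgebra; letI := (pb p).toAlgebra; letI := (pb q).toAlgebra
    letI := (pb (p ≫ g)).toAlgebra
    haveI : IsScalarTower (gam E) (gam T) (gam W) := .of_algebraMap_eq fun _ => rfl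
    haveI : IsScalarTower (gam E) (gam F) (gam W) := .of_algebraMap_eq fun x =>
      (DFunLike.congr_fun (congrArg pb hw) x : pb (p ≫ g) x = pb (q ≫ e) x)
    Algebra.IsPushout (gam E) (gam T) (gam F) (gam W) := by
  let := (pb g).toAlgebra; let := (pb e).toAlgebra; let := (pb p).toAlgebra; let := (pb q).toAlgebra
  let := (pb (p ≫ g)).toAlgebra
  have : IsScalarTower (gam E) (gam T) (gam W) := .of_algebraMap_eq fun _ => rfl
  have : IsScalarTower (gam E) (gam F) (gam W) := .of_algebraMap_eq fun x =>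
    (DFunLike.congr_fun (congrArg pb hw) x : pb (p ≫ g) x = pb (q ≫ e) x)
  exact (CommRingCat.isPushout_iff_isPushout (R := gam E) (S := gam F) (R' := gam T) (S' := gam W)).mp (isPushout_appTop_of_isPullback h)

/-- An affine object has a finite affine covering refining any covering. -/
theorem exists_finite_affine_cover {T : EtOver X} [IsAffine T.obj.left.left] (R : Sieve T) (hR : R ∈ etTop X T) :
    ∃ (ι : Type u) (_ : Finite ι) (Y : ι → EtOver X) (_ : ∀ i, IsAffine (Y i).obj.left.left) (g : ∀ i, Y i ⟶ T),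
      (∀ i, R (g i)) ∧ ∀ x : ↥T.obj.left.left, ∃ i, x ∈ Set.range (g i).hom.left.left := by
  obtain ⟨P, hP, hPR⟩ := (etPre X).mem_toGrothendieck_iff_of_isStableUnderComposition.1 hR
  obtain ⟨κ, Z, f, rfl⟩ := P.exists_eq_ofArrows
  have hcov := (ofArrows_mem_etPre_iff Z f).1 hP
  have hloc : ∀ x : ↥T.obj.left.left, ∃ (k : κ) (O : (Z k).obj.left.left.Opens), IsAffineOpen O ∧
      x ∈ (f k).hom.left.left '' O := fun x => by
    obtain ⟨k, z, hz⟩ := hcov x
    obtain ⟨O, hO, hzO, -⟩ := exists_isAffineOpen_mem_and_subset (U := (⊤ : (Z k).obj.left.left.Opens)) (x := z) trivial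
    exact ⟨k, O, hO, z, hzO, hz⟩
  choose k O hO hx using hloc
  have hopen : ∀ x, IsOpen ((f (k x)).hom.left.left '' (O x : Set ↥(Z (k x)).obj.left.left)) := fun x => by
    have : Etale (f (k x)).hom.left.left := EtOver.etale_left _
    exact (f (k x)).hom.left.left.isOpenMap _ (O x).isOpen
  have hc : IsCompact (Set.univ : Set ↥T.obj.left.left) :=
    (isAffineOpen_top T.obj.left.left).isCompact
  obtain ⟨s, hs⟩ := hc.elim_finite_subcover _ hopen fun x _ => Set.mem_iUnion.2 ⟨x, hx x⟩
  refine ⟨↥s, Finite.of_fintype _, fun i => etOpen (Z (k i.1)) (O i.1), fun i => hO i.1,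
    fun i => etOpenι _ _ ≫ f (k i.1), fun i => R.downward_closed (hPR _ _ (Presieve.ofArrows.mk _)) _, fun x => ?_⟩
  simp only [Set.subset_def, Set.mem_iUnion] at hs
  obtain ⟨y, hy, z, hz, hzx⟩ := hs x trivial
  exact ⟨⟨y, hy⟩, ⟨z, hz⟩, hzx⟩

theorem isCoverAlg_of_cover {T : EtOver X} [IsAffine T.obj.left.left] {ι : Type*} (Y : ι → EtOver X)
    [∀ i, IsAffine (Y i).obj.left.left] (g : ∀ i, Y i ⟶ T)
    (h : ∀ x : ↥T.obj.left.left, ∃ i, x ∈ Set.range (g i).hom.left.left) :
    letI := fun i => (pb (g i)).toAlgebra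
    IsCoverAlg (C := gam T) fun i => gam (Y i) := by
  letI := fun i => (pb (g i)).toAlgebra
  refine ⟨fun i => flat_pb (g i), fun q => ?_⟩
  obtain ⟨i, y, hy⟩ := h (T.obj.left.left.isoSpec.inv q)
  refine ⟨i, (Y i).obj.left.left.isoSpec.hom y, ?_⟩
  have e := congrArg (fun φ => φ y) (Scheme.isoSpec_hom_naturality (g i).hom.left.left)
  change Spec.map (g i).hom.left.left.appTop ((Y i).obj.left.left.isoSpec.hom y) = q
  refine Eq.trans ?_ (show T.obj.left.left.isoSpec.hom (T.obj.left.left.isoSpec.inv q) = q by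
    rw [← Scheme.Hom.comp_apply, Iso.inv_hom_id]; rfl)
  rw [← hy]
  simpa using e

theorem exists_cover_of_sieve {T : EtOver X} [IsAffine T.obj.left.left] (Q : ∀ ⦃V : EtOver X⦄, (V ⟶ T) → Prop)
    (hQ : ∀ ⦃V V' : EtOver X⦄ (a : V ⟶ T) (b : V' ⟶ V), Q a → Q (b ≫ a))
    (h : ∀ x : ↥T.obj.left.left, ∃ (V : EtOver X) (a : V ⟶ T), x ∈ Set.range a.hom.left.left ∧ Q a) :
    ∃ (ι : Type u) (_ : Finite ι) (Y : ι → EtOver X) (_ : ∀ i, IsAffine (Y i).obj.left.left) (g : ∀ i, Y i ⟶ T),
      (∀ i, Q (g i)) ∧ ∀ x : ↥T.obj.left.left, ∃ i, x ∈ Set.range (g i).hom.left.left := by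
  choose V a hx ha using h
  refine exists_finite_affine_cover ⟨fun _ f => Q f, fun {V V' f} hf b => hQ f b hf⟩ ?_
  refine (etTop X).superset_covering ?_ (AlgSp.ofArrows_mem_etTop V a fun x => ⟨x, hx x⟩)
  rw [Sieve.generate_le_iff]
  rintro _ _ ⟨x⟩
  exact ha x

theorem sect_ext' (M : ModEt X) {E : EtOver X} {ι : Type*} (Y : ι → EtOver X) (g : ∀ i, Y i ⟶ E)
    (hc : ∀ x : ↥E.obj.left.left, ∃ i, x ∈ Set.range (g i).hom.left.left) {s t : sectModEt M E}
    (h : ∀ i, res M (g i) s = res M (g i) t) : s = t :=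
  glue_ext M Y g hc h

end Groth.Agent.EtQCoh
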