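import Groth.Agent.EtQCoh.CartanEt

/-!
# The Čech complex of a quasi-coherent module over a finite affine covering is exact
-/

set_option backward.isDefEq.respectTransparency false
set_option backward.isDefEq.respectTransparency.types false
set_option linter.style.haveILetI false
set_option maxHeartbeats 1000000

noncomputable section

universe u

open CategoryTheory CategoryTheory.Limits AlgebraicGeometry Opposite AlgSp TensorProduct

namespace Groth.Agent.EtQCoh.CechExact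

open Groth.Agent.EtFound Groth.Agent.AlgSpQ4.MV Groth.Agent.AlgSpDec Groth.Agent.EtQCoh

variable {S : Scheme.{u}} {X : Sp S} (M : ModEt X) {U : EtOver X} [HasFiniteProducts (Over U)]
  {ι : Type (u + 1)} (Uf : ι → Over U)

/-- The product of a tuple. -/
abbrev PO {n : ℕ} (i : Fin (n + 1) → ι) : Over U := ∏ᶜ fun k => Uf (i k)

/-- The object of the site under the product of a tuple. -/
def Pr {n : ℕ} (i : Fin (n + 1) → ι) : EtOver X := (PO Uf i).left

/-- Its map to the base. -/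
def πP {n : ℕ} (i : Fin (n + 1) → ι) : Pr Uf i ⟶ U := (PO Uf i).hom

instance modP {n : ℕ} (i : Fin (n + 1) → ι) : Module (gam U) (sectModEt M (Pr Uf i)) :=
  Module.compHom _ (pb (πP Uf i))

theorem modP_def {n : ℕ} (i : Fin (n + 1) → ι) (a : gam U) (x : sectModEt M (Pr Uf i)) :
    a • x = pb (πP Uf i) a • x := rfl

/-- A map of products over the base, as a map of objects. -/
def prMap {n m : ℕ} {i : Fin (n + 1) → ι} {i' : Fin (m + 1) → ι} (f : PO Uf i ⟶ PO Uf i') : Pr Uf i ⟶ Pr Uf i' :=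
  f.left

theorem res_prMap_smul {n m : ℕ} {i : Fin (n + 1) → ι} {i' : Fin (m + 1) → ι} (f : PO Uf i ⟶ PO Uf i') (a : gam U)
    (x : sectModEt M (Pr Uf i')) : res M (prMap Uf f) (a • x) = a • res M (prMap Uf f) x := by
  rw [modP_def, modP_def, res_smul, ← pb_comp]
  exact congrArg (fun g : Pr Uf i ⟶ U => pb g a • res M (prMap Uf f) x) (Over.w f)

theorem res_prMap_comp {n m l : ℕ} {i : Fin (n + 1) → ι} {i' : Fin (m + 1) → ι} {i'' : Fin (l + 1) → ι}
    (f : PO Uf i ⟶ PO Uf i') (g : PO Uf i' ⟶ PO Uf i'') (x : sectModEt M (Pr Uf i'')) :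
    res M (prMap Uf (f ≫ g)) x = res M (prMap Uf f) (res M (prMap Uf g) x) :=
  res_comp M (prMap Uf f) (prMap Uf g) x

/-- The projection `j` omitting map. -/
def face {n : ℕ} (i : Fin (n + 2) → ι) (j : Fin (n + 2)) : PO Uf i ⟶ PO Uf (i ∘ j.succAbove) :=
  Pi.lift fun k => Pi.π (fun k => Uf (i k)) (j.succAbove k)

/-- The differential. -/
def δ (n : ℕ) : (∀ i : Fin (n + 1) → ι, sectModEt M (Pr Uf i)) →ₗ[gam U]
    (∀ i : Fin (n + 2) → ι, sectModEt M (Pr Uf i)) where
  toFun x i := ∑ j : Fin (n + 2), (-1 : ℤ) ^ (j : ℕ) • res M (prMap Uf (face Uf i j)) (x (i ∘ j.succAbove))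
  map_add' x y := funext fun i => by
    simp only [Pi.add_apply, map_add, smul_add, Finset.sum_add_distrib]
  map_smul' a x := funext fun i => by
    simp only [Pi.smul_apply, res_prMap_smul, RingHom.id_apply, Finset.smul_sum]
    exact Finset.sum_congr rfl fun j _ => smul_comm _ _ _

variable (k : ι)

/-- The first projection of the product of an extended tuple. -/
def head {n : ℕ} (i : Fin (n + 1) → ι) : PO Uf (Fin.cons k i : Fin (n + 2) → ι) ⟶ Uf k :=
  Pi.π (fun m => Uf ((Fin.cons k i : Fin (n + 2) → ι) m)) 0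

/-- The tail of the product of an extended tuple. -/
def tail {n : ℕ} (i : Fin (n + 1) → ι) : PO Uf (Fin.cons k i : Fin (n + 2) → ι) ⟶ PO Uf i :=
  Pi.lift fun m => Pi.π (fun m => Uf ((Fin.cons k i : Fin (n + 2) → ι) m)) m.succ

/-- The first projection, as a map of objects. -/
def hd {n : ℕ} (i : Fin (n + 1) → ι) : Pr Uf (Fin.cons k i : Fin (n + 2) → ι) ⟶ (Uf k).left := (head Uf k i).left

theorem tail_π {n : ℕ} (i : Fin (n + 1) → ι) (m : Fin (n + 1)) :
    tail Uf k i ≫ Pi.π (fun m => Uf (i m)) m = Pi.π (fun m => Uf ((Fin.cons k i : Fin (n + 2) → ι) m)) m.succ :=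
  Pi.lift_π _ m

theorem face_π {n : ℕ} (i : Fin (n + 2) → ι) (j : Fin (n + 2)) (m : Fin (n + 1)) :
    face Uf i j ≫ Pi.π (fun m => Uf ((i ∘ j.succAbove) m)) m = Pi.π (fun m => Uf (i m)) (j.succAbove m) :=
  Pi.lift_π _ m

theorem hom_ext_cons {n : ℕ} (i : Fin (n + 1) → ι) {T : Over U}
    {a b : T ⟶ PO Uf (Fin.cons k i : Fin (n + 2) → ι)} (h₀ : a ≫ head Uf k i = b ≫ head Uf k i)
    (h₁ : a ≫ tail Uf k i = b ≫ tail Uf k i) : a = b := by
  refine Pi.hom_ext _ _ fun m => ?_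
  induction m using Fin.cases with
  | zero => exact h₀
  | succ m =>
    rw [← tail_π Uf k i m]
    exact (Category.assoc _ _ _).symm.trans ((congrArg (· ≫ Pi.π (fun m => Uf (i m)) m) h₁).trans (Category.assoc _ _ _))

/-- The map between products of extended tuples. -/
def cface {n : ℕ} (i : Fin (n + 2) → ι) (j : Fin (n + 2)) :
    PO Uf (Fin.cons k i : Fin (n + 3) → ι) ⟶ PO Uf (Fin.cons k (i ∘ j.succAbove) : Fin (n + 2) → ι) :=
  Pi.lift (Fin.cases (head Uf k i) fun m => tail Uf k i ≫ Pi.π (fun m => Uf (i m)) (j.succAbove m))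

theorem cface_succ {n : ℕ} (i : Fin (n + 2) → ι) (j : Fin (n + 2)) (m : Fin (n + 1)) :
    cface Uf k i j ≫ Pi.π (fun m => Uf ((Fin.cons k (i ∘ j.succAbove) : Fin (n + 2) → ι) m)) m.succ =
      Pi.π (fun m => Uf ((Fin.cons k i : Fin (n + 3) → ι) m)) (j.succAbove m).succ :=
  (Pi.lift_π _ m.succ).trans (tail_π Uf k i (j.succAbove m))

theorem cface_head {n : ℕ} (i : Fin (n + 2) → ι) (j : Fin (n + 2)) :
    cface Uf k i j ≫ head Uf k (i ∘ j.succAbove) = head Uf k i := Pi.lift_π _ 0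

theorem cface_tail {n : ℕ} (i : Fin (n + 2) → ι) (j : Fin (n + 2)) :
    cface Uf k i j ≫ tail Uf k (i ∘ j.succAbove) = tail Uf k i ≫ face Uf i j := by
  refine Pi.hom_ext _ _ fun m => ?_
  refine (Category.assoc _ _ _).trans ?_
  refine ((congrArg (cface Uf k i j ≫ ·) (tail_π Uf k (i ∘ j.succAbove) m)).trans (cface_succ Uf k i j m)).trans ?_
  refine Eq.trans ?_ (Category.assoc _ _ _).symm
  exact (tail_π Uf k i (j.succAbove m)).symm.trans (congrArg (tail Uf k i ≫ ·) (face_π Uf i j m).symm)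

theorem isPullback_cons {n : ℕ} (i : Fin (n + 1) → ι) :
    IsPullback (hd Uf k i) (prMap Uf (tail Uf k i)) (Uf k).hom (πP Uf i) := by
  refine ⟨⟨(Over.w (head Uf k i)).trans (Over.w (tail Uf k i)).symm⟩, ⟨PullbackCone.IsLimit.mk _
    (fun s => (Pi.lift (Fin.cases (Over.homMk s.fst rfl : Over.mk (s.fst ≫ (Uf k).hom) ⟶ Uf k) fun m =>
      (Over.homMk s.snd s.condition.symm : Over.mk (s.fst ≫ (Uf k).hom) ⟶ PO Uf i) ≫ Pi.π (fun m => Uf (i m)) m) :
      Over.mk (s.fst ≫ (Uf k).hom) ⟶ PO Uf (Fin.cons k i : Fin (n + 2) → ι)).left) (fun s => ?_) (fun s => ?_)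
    (fun s m h₁ h₂ => ?_)⟩⟩
  · exact congrArg Over.Hom.left (Pi.lift_π _ 0)
  · let c : Over.mk (s.fst ≫ (Uf k).hom) ⟶ PO Uf i := Over.homMk s.snd s.condition.symm
    let l : Over.mk (s.fst ≫ (Uf k).hom) ⟶ PO Uf (Fin.cons k i : Fin (n + 2) → ι) :=
      Pi.lift (Fin.cases (Over.homMk s.fst rfl : Over.mk (s.fst ≫ (Uf k).hom) ⟶ Uf k) fun m => c ≫ Pi.π (fun m => Uf (i m)) m)
    have h : l ≫ tail Uf k i = c := Pi.hom_ext _ _ fun m => (Category.assoc _ _ _).trans
      ((congrArg (l ≫ ·) (tail_π Uf k i m)).trans (Pi.lift_π _ m.succ))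
    exact congrArg (fun g : Over.mk (s.fst ≫ (Uf k).hom) ⟶ PO Uf i => g.left) h
  · let c : Over.mk (s.fst ≫ (Uf k).hom) ⟶ PO Uf i := Over.homMk s.snd s.condition.symm
    let l : Over.mk (s.fst ≫ (Uf k).hom) ⟶ PO Uf (Fin.cons k i : Fin (n + 2) → ι) :=
      Pi.lift (Fin.cases (Over.homMk s.fst rfl : Over.mk (s.fst ≫ (Uf k).hom) ⟶ Uf k) fun m => c ≫ Pi.π (fun m => Uf (i m)) m)
    let a : Over.mk (s.fst ≫ (Uf k).hom) ⟶ PO Uf (Fin.cons k i : Fin (n + 2) → ι) := Over.homMk m (by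
      show m ≫ _ = s.fst ≫ (Uf k).hom
      rw [← h₁]
      exact (congrArg (m ≫ ·) (Over.w (head Uf k i))).symm.trans (Category.assoc _ _ _).symm)
    have hl : l ≫ Pi.π (fun m => Uf ((Fin.cons k i : Fin (n + 2) → ι) m)) 0 =
        (Over.homMk s.fst rfl : Over.mk (s.fst ≫ (Uf k).hom) ⟶ Uf k) := Pi.lift_π _ 0
    have h : a = l := hom_ext_cons Uf k i
      ((Over.OverMorphism.ext h₁ : a ≫ head Uf k i = (Over.homMk s.fst rfl : Over.mk (s.fst ≫ (Uf k).hom) ⟶ Uf k)).trans
        hl.symm)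
      ((Over.OverMorphism.ext h₂ : a ≫ tail Uf k i = c).trans (Pi.hom_ext _ _ fun q =>
        ((Category.assoc _ _ _).trans ((congrArg (l ≫ ·) (tail_π Uf k i q)).trans (Pi.lift_π _ q.succ))).symm))
    exact congrArg (fun g : Over.mk (s.fst ≫ (Uf k).hom) ⟶ PO Uf (Fin.cons k i : Fin (n + 2) → ι) => g.left) h

variable (hUf : ∀ i, IsAffine (Uf i).left.obj.left.left)

/-- Base change of the sections on a product to the product of the extended tuple. -/
def ψ {n : ℕ} (i : Fin (n + 1) → ι) :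
    letI := (pb (Uf k).hom).toAlgebra
    gam (Uf k).left ⊗[gam U] sectModEt M (Pr Uf i) →+
      sectModEt M (Pr Uf (Fin.cons k i : Fin (n + 2) → ι)) :=
  κ M (Uf k).hom (πP Uf i) (hd Uf k i) (prMap Uf (tail Uf k i)) (isPullback_cons Uf k i).w

theorem ψ_tmul {n : ℕ} (i : Fin (n + 1) → ι) (r : gam (Uf k).left) (x : sectModEt M (Pr Uf i)) :
    letI := (pb (Uf k).hom).toAlgebra
    ψ M Uf k i (r ⊗ₜ[gam U] x) = pb (hd Uf k i) r • res M (prMap Uf (tail Uf k i)) x := rfl

include hUf in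
theorem isAffine_Pr [IsAffine U.obj.left.left] {n : ℕ} (i : Fin (n + 1) → ι) : IsAffine (Pr Uf i).obj.left.left :=
  CartanEt.isAffine_prod n (fun m => Uf (i m)) fun m => hUf _

include hUf in
theorem ψ_bijective [M.IsQuasicoherent] [IsAffine U.obj.left.left] {n : ℕ} (i : Fin (n + 1) → ι) :
    Function.Bijective (ψ M Uf k i) := by
  have := hUf k
  have := isAffine_Pr Uf hUf i
  have := isAffine_Pr Uf hUf (Fin.cons k i : Fin (n + 2) → ι)
  exact κ_bijective M _ _ _ _ (isPullback_cons Uf k i).w ((isPullback_cons Uf k i).map (EtOver.toScheme X))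
    (θ_bijective M _)

/-- Base change of cochains. -/
def Ψ (n : ℕ) :
    letI := (pb (Uf k).hom).toAlgebra
    gam (Uf k).left ⊗[gam U] (∀ i : Fin (n + 1) → ι, sectModEt M (Pr Uf i)) →+
      ∀ i : Fin (n + 1) → ι, sectModEt M (Pr Uf (Fin.cons k i : Fin (n + 2) → ι)) :=
  letI := (pb (Uf k).hom).toAlgebra
  AddMonoidHom.mk' (fun t i => ψ M Uf k i ((LinearMap.proj i).lTensor (gam (Uf k).left) t))
    fun a b => funext fun i => by simp only [map_add, Pi.add_apply]

theorem Ψ_tmul {n : ℕ} (r : gam (Uf k).left) (x : ∀ i : Fin (n + 1) → ι, sectModEt M (Pr Uf i))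
    (i : Fin (n + 1) → ι) :
    letI := (pb (Uf k).hom).toAlgebra
    Ψ M Uf k n (r ⊗ₜ[gam U] x) i = pb (hd Uf k i) r • res M (prMap Uf (tail Uf k i)) (x i) := rfl

include hUf in
theorem Ψ_bijective [M.IsQuasicoherent] [IsAffine U.obj.left.left] [Finite ι] (n : ℕ) :
    Function.Bijective (Ψ M Uf k n) := by
  classical
  letI := (pb (Uf k).hom).toAlgebra
  have := Fintype.ofFinite ι
  let e := TensorProduct.piRight (gam U) (gam U) (gam (Uf k).left) fun i : Fin (n + 1) → ι => sectModEt M (Pr Uf i)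
  have he : ∀ t i, e t i = (LinearMap.proj i).lTensor (gam (Uf k).left) t := fun t i => by
    induction t with
    | zero => simp
    | tmul r x => simp [e]
    | add a b ha hb => simp only [map_add, Pi.add_apply, ha, hb]
  refine ⟨fun t t' h => e.injective (funext fun i => (ψ_bijective M Uf k hUf i).1 ?_), fun y => ?_⟩
  · rw [he, he]
    exact congrFun h i
  · choose z hz using fun i => (ψ_bijective M Uf k hUf i).2 (y i)
    obtain ⟨t, ht⟩ := e.surjective z
    exact ⟨t, funext fun i => by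
      show ψ M Uf k i ((LinearMap.proj i).lTensor (gam (Uf k).left) t) = y i
      rw [← he, ht, hz]⟩

theorem Ψ_δ {n : ℕ} :
    letI := (pb (Uf k).hom).toAlgebra
    ∀ (t : gam (Uf k).left ⊗[gam U] (∀ i : Fin (n + 1) → ι, sectModEt M (Pr Uf i))) (i : Fin (n + 2) → ι),
      Ψ M Uf k (n + 1) ((δ M Uf n).lTensor (gam (Uf k).left) t) i =
        ∑ j : Fin (n + 2), (-1 : ℤ) ^ (j : ℕ) • res M (prMap Uf (cface Uf k i j)) (Ψ M Uf k n t (i ∘ j.succAbove)) := by
  letI := (pb (Uf k).hom).toAlgebra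
  intro t i
  induction t with
  | zero => simp
  | add a b ha hb => simp only [map_add, Pi.add_apply, smul_add, Finset.sum_add_distrib, ha, hb]
  | tmul r x =>
    rw [LinearMap.lTensor_tmul, Ψ_tmul]
    simp only [δ, LinearMap.coe_mk, AddHom.coe_mk, map_sum, Finset.smul_sum]
    refine Finset.sum_congr rfl fun j _ => ?_
    rw [map_zsmul, smul_comm, Ψ_tmul, res_smul, ← pb_comp, ← res_prMap_comp, ← res_prMap_comp, cface_tail,
      show prMap Uf (cface Uf k i j) ≫ hd Uf k (i ∘ j.succAbove) = hd Uf k i from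
        congrArg (fun f : PO Uf (Fin.cons k i : Fin (n + 3) → ι) ⟶ Uf k => f.left) (cface_head Uf k i j)]

/-- Restrictions of the same component along equal maps agree. -/
theorem res_congr {n m : ℕ} (x : ∀ i : Fin (n + 1) → ι, sectModEt M (Pr Uf i)) {l : Fin (m + 1) → ι}
    {i₁ i₂ : Fin (n + 1) → ι} (h : i₁ = i₂) (a : PO Uf l ⟶ PO Uf i₁) (b : PO Uf l ⟶ PO Uf i₂)
    (hab : ∀ q, a ≫ Pi.π (fun q => Uf (i₁ q)) q ≫ eqToHom (congrArg Uf (congrFun h q)) =
      b ≫ Pi.π (fun q => Uf (i₂ q)) q) :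
    res M (prMap Uf a) (x i₁) = res M (prMap Uf b) (x i₂) := by
  subst h
  rw [show a = b from Pi.hom_ext _ _ fun q => by simpa using hab q]

theorem π_congr {n : ℕ} (i : Fin (n + 1) → ι) {q q' : Fin (n + 1)} (h : q = q') (e : Uf (i q) = Uf (i q')) :
    Pi.π (fun q => Uf (i q)) q ≫ eqToHom e = Pi.π (fun q => Uf (i q)) q' := by
  subst h
  simp

theorem cons_comp_zero {n : ℕ} (i : Fin (n + 2) → ι) :
    (Fin.cons k i : Fin (n + 3) → ι) ∘ (0 : Fin (n + 3)).succAbove = i := funext fun q => by simp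

theorem cons_comp_succ {n : ℕ} (i : Fin (n + 2) → ι) (j : Fin (n + 2)) :
    (Fin.cons k i : Fin (n + 3) → ι) ∘ j.succ.succAbove = (Fin.cons k (i ∘ j.succAbove) : Fin (n + 2) → ι) :=
  funext fun q => by
    induction q using Fin.cases with
    | zero => simp
    | succ q => simp

theorem res_face_zero {n : ℕ} (x : ∀ i : Fin (n + 2) → ι, sectModEt M (Pr Uf i)) (i : Fin (n + 2) → ι) :
    res M (prMap Uf (face Uf (Fin.cons k i : Fin (n + 3) → ι) 0))
        (x ((Fin.cons k i : Fin (n + 3) → ι) ∘ (0 : Fin (n + 3)).succAbove)) =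
      res M (prMap Uf (tail Uf k i)) (x i) := by
  refine res_congr M Uf x (cons_comp_zero k i) _ _ fun q => ?_
  rw [← Category.assoc, face_π, tail_π]
  exact π_congr Uf (Fin.cons k i : Fin (n + 3) → ι) (Fin.succAbove_zero_apply ..) _

theorem res_face_succ {n : ℕ} (x : ∀ i : Fin (n + 2) → ι, sectModEt M (Pr Uf i)) (i : Fin (n + 2) → ι)
    (j : Fin (n + 2)) :
    res M (prMap Uf (face Uf (Fin.cons k i : Fin (n + 3) → ι) j.succ))
        (x ((Fin.cons k i : Fin (n + 3) → ι) ∘ j.succ.succAbove)) =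
      res M (prMap Uf (cface Uf k i j)) (x (Fin.cons k (i ∘ j.succAbove) : Fin (n + 2) → ι)) := by
  refine res_congr M Uf x (cons_comp_succ k i j) _ _ fun q => ?_
  rw [← Category.assoc, face_π]
  induction q using Fin.cases with
  | zero =>
    exact (π_congr Uf (Fin.cons k i : Fin (n + 3) → ι) (Fin.succ_succAbove_zero j) _).trans
      (cface_head Uf k i j).symm
  | succ q =>
    exact (π_congr Uf (Fin.cons k i : Fin (n + 3) → ι) (Fin.succ_succAbove_succ j q) _).trans
      (cface_succ Uf k i j q).symm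

theorem δ_cons {n : ℕ} (x : ∀ i : Fin (n + 2) → ι, sectModEt M (Pr Uf i)) (i : Fin (n + 2) → ι) :
    δ M Uf (n + 1) x (Fin.cons k i : Fin (n + 3) → ι) = res M (prMap Uf (tail Uf k i)) (x i) -
      ∑ j : Fin (n + 2), (-1 : ℤ) ^ (j : ℕ) •
        res M (prMap Uf (cface Uf k i j)) (x (Fin.cons k (i ∘ j.succAbove) : Fin (n + 2) → ι)) := by
  show (∑ j : Fin (n + 3), _) = _
  rw [Fin.sum_univ_succ, sub_eq_add_neg, ← Finset.sum_neg_distrib]
  simp only [res_face_zero, res_face_succ, Fin.val_zero, pow_zero, one_smul, Fin.val_succ, pow_succ, mul_neg,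
    mul_one, neg_smul]

include hUf in
/-- Exactness of the complex. -/
theorem exists_primitive [M.IsQuasicoherent] [IsAffine U.obj.left.left] [Finite ι]
    (hc : ∀ x : ↥U.obj.left.left, ∃ i, x ∈ Set.range (Uf i).hom.hom.left.left) {n : ℕ}
    (x : ∀ i : Fin (n + 2) → ι, sectModEt M (Pr Uf i)) (hx : δ M Uf (n + 1) x = 0) :
    ∃ y, δ M Uf n y = x := by
  letI := fun i => (pb (Uf i).hom).toAlgebra
  haveI := fun i => hUf i
  refine mem_range_of_cover (isCoverAlg_of_cover (fun i => (Uf i).left) (fun i => (Uf i).hom) hc) (δ M Uf n)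
    fun k => ?_
  obtain ⟨t, ht⟩ := (Ψ_bijective M Uf k hUf n).2 fun i => x (Fin.cons k i : Fin (n + 2) → ι)
  refine ⟨t, (Ψ_bijective M Uf k hUf (n + 1)).1 (funext fun i => ?_)⟩
  rw [Ψ_δ, Ψ_tmul, map_one, one_smul, ht]
  have h := congrFun hx (Fin.cons k i : Fin (n + 3) → ι)
  rw [δ_cons, Pi.zero_apply, sub_eq_zero] at h
  exact h.symm

end Groth.Agent.EtQCoh.CechExact

namespace Groth.Agent.EtQCoh.CartanEt

open Groth.Agent.EtFound CechExact Groth.Agent.AlgSpQ4.MV

variable {S : Scheme.{u}} {X : Sp S}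

/-- Quasi-coherent modules have no higher Čech cohomology on affine objects. -/
theorem isCechAcyclic_qcoh (M : ModEt X) [M.IsQuasicoherent] : IsCechAcyclic ((toAbEt X).obj M) := by
  intro U _ ι _ Uf hU hUf hc p
  haveI : LocallySmall.{u + 1} (EtOver X) := ⟨fun _ _ => inferInstance⟩
  let P := ((toAbEt X).obj M).obj
  refine (HomologicalComplex.exactAt_iff_isZero_homology _ _).1 ?_
  rw [HomologicalComplex.exactAt_iff' _ p (p + 1) (p + 2) (by simp) (by simp), ShortComplex.ab_exact_iff]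
  intro (x : (EtCech.cechComplex Uf P).X (p + 1))
    (hx : ((EtCech.cechComplex Uf P).d (p + 1) (p + 2)).hom x = 0)
  let f : ∀ i : Fin (p + 2) → ι, sectModEt M (Pr Uf i) := fun i => CechInjGen.cev Uf P (p + 1) i x
  have hf : δ M Uf (p + 1) f = 0 := funext fun i =>
    ((CechInjGen.cev_d Uf P (p + 1) i x).symm.trans
      ((congrArg (CechInjGen.cev Uf P (p + 2) i) hx).trans (map_zero _)))
  obtain ⟨y, hy⟩ := exists_primitive M Uf hUf hc f hf
  obtain ⟨z, hz⟩ := CechInjGen.exists_cev Uf P (n := p) y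
  refine ⟨z, CechInjGen.cev_ext Uf P fun i => ?_⟩
  refine (CechInjGen.cev_d Uf P p i z).trans ?_
  refine Eq.trans ?_ (congrFun hy i)
  exact Finset.sum_congr rfl fun j _ => by rw [hz]; rfl

/-- Quasi-coherent modules on a space with an affine final object have no higher cohomology. -/
theorem subsingleton_HModEt_of_isTerminal {U : EtOver X} [IsAffine U.obj.left.left] (hT : IsTerminal U)
    (M : ModEt X) [M.IsQuasicoherent] {n : ℕ} (hn : 0 < n) : Subsingleton (HModEt X M n) := by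
  obtain ⟨m, rfl⟩ := Nat.exists_eq_succ_of_ne_zero hn.ne'
  exact subsingleton_HEt_of_isTerminal hT _ (isCechAcyclic_qcoh M) m

end Groth.Agent.EtQCoh.CartanEt
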