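import Groth.Agent.EtQCoh.Cancel

/-!
# Being cartesian is local on an affine object
-/

set_option backward.isDefEq.respectTransparency false
set_option backward.isDefEq.respectTransparency.types false
set_option linter.style.haveILetI false

universe u

open CategoryTheory CategoryTheory.Limits AlgebraicGeometry Opposite AlgSp TensorProduct

namespace Groth.Agent.EtQCoh

open Groth.Agent.AlgSpQ4.MV Groth.Agent.AlgSpDec

variable {S : Scheme.{u}} {X : Sp S} {M : ModEt X}

theorem cartAt_of_map {E F : EtOver X} (hF : IsAffine F.obj.left.left) (hM : CartAt M E) (f : F ⟶ E) : CartAt M F :=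
  fun T hT g => (cart_iff_of_comp g f (hM F hF f)).1 (hM T hT (g ≫ f))

set_option maxHeartbeats 1000000 in
theorem cartAt_of_cover {E : EtOver X} [IsAffine E.obj.left.left] {ι : Type u} [Finite ι] (F : ι → EtOver X)
    [∀ i, IsAffine (F i).obj.left.left] (e : ∀ i, F i ⟶ E)
    (hcov : ∀ x : ↥E.obj.left.left, ∃ i, x ∈ Set.range (e i).hom.left.left) (hF : ∀ i, CartAt M (F i)) :
    CartAt M E := by
  classical
  have := Fintype.ofFinite ι
  intro T hT g
  let := (pb g).toAlgebra
  let : ∀ i, Module (gam E) (sectModEt M (F i)) := fun i => Module.compHom _ (pb (e i))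
  have hP := fun ij : ι × ι => exists_affine_pullback (e ij.1) (e ij.2)
  choose Z hZ r₁ r₂ hZw hZp hZl using hP
  let : ∀ ij, Module (gam E) (sectModEt M (Z ij)) := fun ij => Module.compHom _ (pb (r₁ ij ≫ e ij.1))
  let η : sectModEt M E →ₗ[gam E] ∀ i, sectModEt M (F i) :=
    LinearMap.pi fun i =>
      { toFun := res M (e i)
        map_add' := map_add _
        map_smul' := fun a x => res_smul (e i) a x }
  let δ : (∀ i, sectModEt M (F i)) →ₗ[gam E] ∀ ij, sectModEt M (Z ij) :=
    LinearMap.pi fun ij =>
      { toFun := fun s => res M (r₁ ij) (s ij.1) - res M (r₂ ij) (s ij.2)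
        map_add' := fun s t => by
          simp only [Pi.add_apply, map_add]
          abel
        map_smul' := fun a s => by
          show res M (r₁ ij) (pb (e ij.1) a • s ij.1) - res M (r₂ ij) (pb (e ij.2) a • s ij.2) =
            pb (r₁ ij ≫ e ij.1) a • (res M (r₁ ij) (s ij.1) - res M (r₂ ij) (s ij.2))
          rw [res_smul, res_smul, smul_sub]
          congr 2
          show pb (r₂ ij ≫ e ij.2) a = pb (r₁ ij ≫ e ij.1) a
          rw [hZw] }
  have hη : Function.Injective η := fun s t h => sect_ext' M F e hcov fun i => congrFun h i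
  have hex : Function.Exact η δ := by
    intro s
    constructor
    · intro hs
      obtain ⟨z, hz⟩ := exists_glue M F e hcov s fun i j V a b hab => by
        obtain ⟨l, hl₁, hl₂⟩ := hZl (i, j) a b hab
        rw [← hl₁, ← hl₂, res_comp, res_comp]
        exact congrArg (res M l) (sub_eq_zero.1 (congrFun hs (i, j)))
      exact ⟨z, funext hz⟩
    · rintro ⟨z, rfl⟩
      funext ij
      show res M (r₁ ij) (res M (e ij.1) z) - res M (r₂ ij) (res M (e ij.2) z) = 0
      rw [← res_comp, ← res_comp, hZw, sub_self]
  have : Module.Flat (gam E) (gam T) := flat_pb g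
  have hW := fun i => exists_affine_pullback g (e i)
  choose W hWaff p q hWw hWp hWl using hW
  have hκ : ∀ i, Function.Bijective (κ M g (e i) (p i) (q i) (hWw i)) := fun i =>
    κ_bijective M g (e i) (p i) (q i) (hWw i) (hWp i) (hF i (W i) (hWaff i) (q i))
  have hcovT : ∀ x : ↥T.obj.left.left, ∃ i, x ∈ Set.range (p i).hom.left.left := fun x => by
    obtain ⟨i, y, hy⟩ := hcov (g.hom.left.left x)
    obtain ⟨w, hw, -⟩ := Scheme.exists_preimage_of_isPullback (hWp i) x y hy.symm
    exact ⟨i, w, hw⟩
  have hη' : ∀ (i : ι) (t : gam T ⊗[gam E] sectModEt M E),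
      κ M g (e i) (p i) (q i) (hWw i) (TensorProduct.piRight (gam E) (gam E) (gam T) _ (η.lTensor (gam T) t) i) =
        res M (p i) (θ M g t) := fun i t => by
    induction t with
    | zero => simp only [map_zero, Pi.zero_apply]
    | add a b ha hb => simp only [map_add, Pi.add_apply, ha, hb]
    | tmul r x =>
      rw [LinearMap.lTensor_tmul, TensorProduct.piRight_apply, TensorProduct.piRightHom_tmul, κ_tmul, θ_tmul,
        res_smul, ← res_comp, hWw, res_comp]
      rfl
  refine ⟨fun t t' h => ?_, fun x => ?_⟩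
  · refine Module.Flat.lTensor_preserves_injective_linearMap η hη
      ((TensorProduct.piRight (gam E) (gam E) (gam T) _).injective (funext fun i => (hκ i).1 ?_))
    rw [hη', hη', h]
  · choose t ht using fun i => (hκ i).2 (res M (p i) x)
    let t₀ := (TensorProduct.piRight (gam E) (gam E) (gam T) fun i => sectModEt M (F i)).symm t
    have ht₀ : δ.lTensor (gam T) t₀ = 0 := by
      refine (TensorProduct.piRight (gam E) (gam E) (gam T) fun ij => sectModEt M (Z ij)).injective (funext fun ij => ?_)
      rw [map_zero]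
      obtain ⟨Y, hY, a, b, hYw, hYp, -⟩ := @exists_affine_pullback _ _ E (Z ij) T _ (hZ ij) hT g (r₁ ij ≫ e ij.1)
      obtain ⟨l₁, hl₁a, hl₁b⟩ := hWl ij.1 a (b ≫ r₁ ij) (by rw [hYw, Category.assoc])
      obtain ⟨l₂, hl₂a, hl₂b⟩ := hWl ij.2 a (b ≫ r₂ ij) (by rw [hYw, hZw, Category.assoc])
      have := hZ ij
      have hinj := (κ_bijective M g (r₁ ij ≫ e ij.1) a b hYw hYp
        (cartAt_of_map (hZ ij) (hF ij.1) (r₁ ij) Y hY b)).1
      apply hinj
      have e₂ : ∀ u, κ M g (r₁ ij ≫ e ij.1) a b hYw
          (TensorProduct.piRight (gam E) (gam E) (gam T) _ (δ.lTensor (gam T) u) ij) =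
          res M l₁ (κ M g (e ij.1) (p ij.1) (q ij.1) (hWw ij.1)
            (TensorProduct.piRight (gam E) (gam E) (gam T) _ u ij.1)) -
          res M l₂ (κ M g (e ij.2) (p ij.2) (q ij.2) (hWw ij.2)
            (TensorProduct.piRight (gam E) (gam E) (gam T) _ u ij.2)) := fun u => by
        induction u with
        | zero => simp only [map_zero, Pi.zero_apply, sub_zero]
        | add u v hu hv =>
          simp only [map_add, Pi.add_apply, hu, hv]
          abel
        | tmul r s =>
          rw [LinearMap.lTensor_tmul, TensorProduct.piRight_apply, TensorProduct.piRightHom_tmul,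
            TensorProduct.piRight_apply, TensorProduct.piRightHom_tmul, κ_tmul, κ_tmul, κ_tmul, res_smul, res_smul,
            ← pb_comp, ← pb_comp, hl₁a, hl₂a, ← res_comp, ← res_comp, hl₁b, hl₂b, res_comp, res_comp, ← smul_sub,
            ← map_sub]
          rfl
      rw [e₂, LinearEquiv.apply_symm_apply, ht, ht, ← res_comp, ← res_comp, hl₁a, hl₂a, sub_self, Pi.zero_apply,
        map_zero]
    obtain ⟨s, hs⟩ := ((Module.Flat.lTensor_exact (gam T) hex) t₀).1 ht₀
    refine ⟨s, sect_ext' M W p hcovT fun i => ?_⟩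
    rw [← hη', hs, LinearEquiv.apply_symm_apply, ht]

end Groth.Agent.EtQCoh
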