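import Groth.Agent.EtQCoh.Main
import Mathlib.RingTheory.Finiteness.Basic
import Mathlib.RingTheory.TensorProduct.Finite

/-!
# Sections of quasi-coherent modules of finite type on affine objects are finitely generated
-/

set_option backward.isDefEq.respectTransparency false
set_option backward.isDefEq.respectTransparency.types false
set_option linter.style.haveILetI false

universe u v

open CategoryTheory CategoryTheory.Limits AlgebraicGeometry Opposite AlgSp TensorProduct

namespace Groth.Agent.EtQCoh

/-- Finite generation descends along a covering. -/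
theorem finite_of_cover {C : Type u} [CommRing C] {ι : Type*} [Finite ι] {D : ι → Type u} [∀ i, CommRing (D i)]
    [∀ i, Algebra C (D i)] (h : IsCoverAlg (C := C) D) {P : Type v} [AddCommGroup P] [Module C P]
    (hP : ∀ i, Module.Finite (D i) (D i ⊗[C] P)) : Module.Finite C P := by
  classical
  have := Fintype.ofFinite ι
  choose G hG using fun i => (hP i).fg_top
  choose T hT using fun i (z : D i ⊗[C] P) => TensorProduct.exists_finset z
  let s : Finset P := Finset.univ.biUnion fun i => (G i).biUnion fun z => (T i z).image Prod.snd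
  refine ⟨⟨s, eq_top_iff.2 fun p _ => ?_⟩⟩
  let Q : Submodule C P := Submodule.span C (s : Set P)
  have key : p ∈ LinearMap.range Q.subtype := mem_range_of_cover h Q.subtype fun i => by
    have htop : (⊤ : Submodule (D i) (D i ⊗[C] P)) ≤ LinearMap.range (Q.subtype.baseChange (D i)) := by
      rw [← hG i, Submodule.span_le]
      intro z hz
      rw [SetLike.mem_coe, hT i z]
      refine Submodule.sum_mem _ fun w hw => ?_
      have hw' : w.2 ∈ Q := Submodule.subset_span (Finset.mem_biUnion.2 ⟨i, Finset.mem_univ i,
        Finset.mem_biUnion.2 ⟨z, hz, Finset.mem_image.2 ⟨w, hw, rfl⟩⟩⟩)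
      exact ⟨w.1 ⊗ₜ ⟨w.2, hw'⟩, rfl⟩
    obtain ⟨t, ht⟩ := htop (show (1 : D i) ⊗ₜ[C] p ∈ ⊤ from trivial)
    exact ⟨t, ht⟩
  obtain ⟨q, rfl⟩ := key
  exact q.2

open Groth.Agent.AlgSpQ4.MV Groth.Agent.AlgSpDec

variable {S : Scheme.{u}} {X : Sp S}

/-- Finitely many generators over an object generate the sections on affine objects over it. -/
theorem finite_sect_of_gen (M : ModEt X) [M.IsQuasicoherent] {U F : EtOver X} [IsAffine F.obj.left.left]
    (σ : (SheafOfModules.over M U).GeneratingSections) [Finite σ.I] (a : F ⟶ U) :
    Module.Finite (gam F) (sectModEt M F) := by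
  let g : σ.I → sectModEt M F := fun k => (oapp σ.π a (obasis σ.I a k) : osect (SheafOfModules.over M U) a)
  refine Module.Finite.of_surjective (Finsupp.linearCombination (gam F) g) fun x => ?_
  obtain ⟨R, hR, hy⟩ := Free.locally_mem_range_of_epi (N := SheafOfModules.over M U) σ.π (T := Over.mk a)
    (show osect (SheafOfModules.over M U) a from x)
  obtain ⟨ι, hι, Y, hY, h, hm, hc⟩ := exists_cover_over a R hR
  letI := fun i => (pb (h i)).toAlgebra
  refine LinearMap.mem_range.1 (mem_range_of_cover (isCoverAlg_of_cover Y h hc) _ fun i => ?_)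
  obtain ⟨z, hz⟩ := hy _ (hm i)
  have := hY i
  obtain ⟨c, rfl⟩ := ocomb_surjective σ.I (h i ≫ a) z
  let w := Finsupp.linearCombination (gam (Y i)) (fun k : σ.I => (1 : gam (Y i)) ⊗ₜ[gam F] Finsupp.single k (1 : gam F))
  have hsum : ∀ c : σ.I →₀ gam (Y i), θ M (h i) ((Finsupp.linearCombination (gam F) g).lTensor (gam (Y i)) (w c)) =
      (oapp σ.π (h i ≫ a) (ocomb σ.I (h i ≫ a) c) : osect (SheafOfModules.over M U) (h i ≫ a)) := fun c => by
    induction c using Finsupp.induction_linear with
    | zero => simp only [map_zero]
    | add c d hc' hd =>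
      simp only [map_add]
      exact congrArg₂ (fun p q : sectModEt M (Y i) => p + q) hc' hd
    | single k r =>
      have e : ores (SheafOfModules.over M U) (h i) rfl (oapp σ.π a (obasis σ.I a k)) =
          oapp σ.π (h i ≫ a) (obasis σ.I (h i ≫ a) k) :=
        (oapp_ores σ.π (h i) rfl _).symm.trans (congrArg _ (Free.basis_map (R := OEtOn U) k _))
      have e1 : w (Finsupp.single k r) = r ⊗ₜ[gam F] Finsupp.single k (1 : gam F) := by
        simp only [w, Finsupp.linearCombination_single, TensorProduct.smul_tmul', smul_eq_mul, mul_one]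
      have e2 : ocomb σ.I (h i ≫ a) (Finsupp.single k r) = r • obasis σ.I (h i ≫ a) k :=
        Finsupp.linearCombination_single ..
      have e3 : oapp σ.π (h i ≫ a) (ocomb σ.I (h i ≫ a) (Finsupp.single k r)) =
          r • ores (SheafOfModules.over M U) (h i) rfl (oapp σ.π a (obasis σ.I a k)) :=
        (congrArg (oapp σ.π (h i ≫ a)) e2).trans ((LinearMap.map_smul _ r _).trans (congrArg (fun q => r • q) e.symm))
      refine Eq.trans ?_ e3.symm
      rw [e1, LinearMap.lTensor_tmul, Finsupp.linearCombination_single, one_smul, θ_tmul]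
      rfl
  refine ⟨w c, (θ_bijective M (h i)).1 ?_⟩
  exact (hsum c).trans (hz.trans ((θ_tmul M (h i) 1 x).trans (one_smul _ _)).symm)

/-- Sections of a quasi-coherent module of finite type on an affine object are finitely generated. -/
theorem finite_sect (M : ModEt X) [M.IsQuasicoherent] [M.IsFiniteType] (E : EtOver X) [IsAffine E.obj.left.left] :
    Module.Finite (gam E) (sectModEt M E) := by
  obtain ⟨σ, hσ⟩ := SheafOfModules.IsFiniteType.exists_localGeneratorsData M
  obtain ⟨ι, hι, F, hF, e, hm, hc⟩ := exists_finite_affine_cover (T := E) (Sieve.ofObjects σ.X E) (σ.coversTop E)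
  letI := fun i => (pb (e i)).toAlgebra
  refine finite_of_cover (isCoverAlg_of_cover F e hc) fun i => ?_
  obtain ⟨k, ⟨f⟩⟩ := (Sieve.mem_ofObjects_iff ..).1 (hm i)
  have := hF i
  have := (hσ.isFiniteType k).finite
  have := finite_sect_of_gen M (σ.generators k) f
  exact Module.Finite.equiv (LinearEquiv.ofBijective (θLin M (e i)) (θ_bijective M (e i))).symm

/-- Sections of a finitely presented module on an affine object are finitely presented, if the object is noetherian. -/
theorem finitePresentation_sect (M : ModEt X) [M.IsQuasicoherent] [M.IsFiniteType] (E : EtOver X)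
    [IsAffine E.obj.left.left] [IsNoetherianRing (gam E)] : Module.FinitePresentation (gam E) (sectModEt M E) :=
  have := finite_sect M E
  Module.finitePresentation_of_finite (gam E) (sectModEt M E)

end Groth.Agent.EtQCoh
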