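import Groth.Agent.EtQCoh5.Converse
import Groth.Agent.EtQCoh.PushAss
import Groth.Agent.EtQCoh.FiniteSections

/-!
# Modules with finitely presented sections on affine objects are of finite presentation
-/

set_option backward.isDefEq.respectTransparency false
set_option backward.isDefEq.respectTransparency.types false
set_option linter.style.haveILetI false

noncomputable section

universe u

open CategoryTheory CategoryTheory.Limits AlgebraicGeometry Opposite AlgSp TensorProduct

namespace Groth.Agent.EtQCoh

open Groth.Agent.AlgSpQ4.MV Groth.Agent.AlgSpDec Groth.Agent.EtQCoh5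

variable {S : Scheme.{u}} {X : Sp S} {U : EtOver X} (M : ModEt X)
  {I J : Type (u + 1)} (g : I → sectModEt M U) (k : J → (I →₀ gam U))

/-- The map given by a family of sections. -/
def famMap : ofree U I ⟶ SheafOfModules.over M U :=
  (SheafOfModules.over M U).freeHomEquiv.symm fun x => sectionsOfTop (SheafOfModules.over M U) (g x)

theorem famMap_ocomb {T : EtOver X} (a : T ⟶ U) (c : I →₀ gam T) :
    (oapp (famMap M g) a (ocomb I a c) : sectModEt M T) =
      Finsupp.linearCombination (gam T) (fun x : I => res M a (g x)) c := by
  induction c using Finsupp.induction_linear with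
  | zero => simp only [map_zero]
  | add c d hc hd => rw [map_add, map_add, map_add, ← hc, ← hd]
  | single x r =>
    rw [ocomb, Finsupp.linearCombination_single, Finsupp.linearCombination_single, map_smul]
    exact congrArg (fun y : sectModEt M T => r • y)
      ((oapp_basis (fun x => sectionsOfTop (SheafOfModules.over M U) (g x)) a x).trans rfl)

/-- The map given by a family of relations. -/
def famRels : ofree U J ⟶ ofree U I :=
  (ofree U I).freeHomEquiv.symm fun c => sectionsOfTop _ (ocomb I (𝟙 U) (k c))

theorem famRels_basis {T : EtOver X} (a : T ⟶ U) (c : J) :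
    oapp (famRels (U := U) k) a (obasis J a c) = ocomb I a ((k c).mapRange (pb a) (map_zero _)) := by
  refine (oapp_basis (fun c : J => sectionsOfTop (ofree U I) (ocomb I (𝟙 U) (k c))) a c).trans ?_
  rw [sectionsOfTop_val, ores_ocomb]

theorem famRels_comp (hk : ∀ j, Finsupp.linearCombination (gam U) g (k j) = 0) :
    famRels k ≫ famMap M g = 0 := by
  apply ((SheafOfModules.over M U)).freeHomEquiv.injective
  funext c
  refine Subtype.ext (funext fun ⟨V⟩ => ?_)
  show oapp (famMap M g) V.hom (oapp (famRels k) V.hom (obasis _ V.hom c)) = _
  rw [famRels_basis, ← ores_ocomb _ V.hom (Category.comp_id V.hom), oapp_ores]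
  have h0 : oapp (famMap M g) (𝟙 U) (ocomb I (𝟙 U) (k c)) = (0 : sectModEt M U) := by
    rw [famMap_ocomb]
    refine Eq.trans ?_ (hk c)
    congr 2
    funext x
    exact res_id M (g x)
  rw [h0, map_zero]
  rfl

variable {M} {g} {k}

theorem famMap_surjective (hU : CartAt M U) (hg : Submodule.span (gam U) (Set.range g) = ⊤) {T : EtOver X}
    [IsAffine T.obj.left.left] (a : T ⟶ U) : Function.Surjective (oapp (famMap M g) a) := by
  intro y
  let := (pb a).toAlgebra
  obtain ⟨t, ht⟩ := (hU T ‹_› a).2 y
  suffices h : ∀ t, ∃ z, oapp (famMap M g) a z = θ M a t by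
    obtain ⟨z, hz⟩ := h t
    exact ⟨z, hz.trans ht⟩
  intro t
  induction t with
  | zero => exact ⟨0, by rw [map_zero, map_zero]⟩
  | add t t' h h' =>
    obtain ⟨z, hz⟩ := h
    obtain ⟨z', hz'⟩ := h'
    exact ⟨z + z', by rw [map_add, map_add, ← hz, ← hz']⟩
  | tmul r x =>
    obtain ⟨c, rfl⟩ := (Finsupp.range_linearCombination (R := gam U) (v := g)).ge (hg.ge (show x ∈ ⊤ from trivial))
    refine ⟨r • ocomb I a (c.mapRange (pb a) (map_zero _)), ?_⟩
    rw [map_smul, θ_tmul]
    have e : (oapp (famMap M g) a (ocomb I a (c.mapRange (pb a) (map_zero _))) : sectModEt M T) =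
        res M a (Finsupp.linearCombination (gam U) g c) := by
      rw [famMap_ocomb, Finsupp.linearCombination_apply, Finsupp.linearCombination_apply,
        Finsupp.sum_mapRange_index (fun i => by simp), map_finsuppSum]
      exact Finsupp.sum_congr fun i _ => (res_smul a _ _).symm
    exact congrArg (fun z : sectModEt M T => r • z) e

theorem famRels_exact (hU : CartAt M U) (hg : Submodule.span (gam U) (Set.range g) = ⊤)
    (hk : Submodule.span (gam U) (Set.range k) = LinearMap.ker (Finsupp.linearCombination (gam U) g))
    {T : EtOver X} [IsAffine T.obj.left.left] (a : T ⟶ U)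
    (y : osect (ofree U I) a) (hy : oapp (famMap M g) a y = 0) :
    ∃ w, oapp (famRels k) a w = y := by
  classical
  let := (pb a).toAlgebra
  obtain ⟨c, rfl⟩ := ocomb_surjective _ a y
  let tot : (I →₀ gam U) →ₗ[gam U] sectModEt M U := Finsupp.linearCombination (gam U) g
  let t : gam T ⊗[gam U] (I →₀ gam U) := c.sum fun x r => r ⊗ₜ[gam U] Finsupp.single x 1
  have hθ : ∀ c : I →₀ gam T, θ M a (tot.lTensor (gam T) (c.sum fun x r => r ⊗ₜ[gam U] Finsupp.single x 1)) =
      Finsupp.linearCombination (gam T) (fun x : I => res M a (g x)) c := fun c => by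
    induction c using Finsupp.induction_linear with
    | zero => simp
    | add c d hc hd =>
      rw [Finsupp.sum_add_index' (by simp) (by simp [add_tmul]), map_add, map_add, map_add, hc, hd]
    | single x r =>
      rw [Finsupp.sum_single_index (by simp), LinearMap.lTensor_tmul, Finsupp.linearCombination_single, one_smul,
        θ_tmul, Finsupp.linearCombination_single]
  have ht : tot.lTensor (gam T) t = 0 := by
    refine (hU T ‹_› a).1 ?_
    rw [hθ, map_zero]
    exact (famMap_ocomb M g a c).symm.trans hy
  have hsurj : Function.Surjective tot := fun x =>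
    (Finsupp.range_linearCombination (R := gam U) (v := g)).ge (hg.ge (show x ∈ ⊤ from trivial))
  have hex : Function.Exact (Finsupp.linearCombination (gam U) k) tot :=
    LinearMap.exact_iff.2 (by rw [Finsupp.range_linearCombination, hk])
  obtain ⟨v, hv⟩ := (lTensor_exact (gam T) (f := Finsupp.linearCombination (gam U) k) (g := tot) hex hsurj t).1 ht
  let L : gam T ⊗[gam U] (I →₀ gam U) →ₗ[gam T] (I →₀ gam T) :=
    (TensorProduct.finsuppScalarRight (gam U) (gam T) (gam T) I).toLinearMap
  have hL : ∀ (r : gam T) (d : I →₀ gam U), L (r ⊗ₜ d) = r • d.mapRange (pb a) (map_zero _) := fun r d => by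
    ext x
    simp only [L, LinearEquiv.coe_coe, TensorProduct.finsuppScalarRight_apply_tmul_apply, Finsupp.smul_apply,
      Finsupp.mapRange_apply, smul_eq_mul]
    rw [Algebra.smul_def, mul_comm]
    rfl
  have hc : L t = c := by
    simp only [t, map_finsuppSum, hL, Finsupp.mapRange_single, map_one, Finsupp.smul_single, smul_eq_mul, mul_one]
    exact Finsupp.sum_single c
  suffices h : ∀ v, ∃ w, oapp (famRels k) a w = ocomb I a (L ((Finsupp.linearCombination (gam U) k).lTensor (gam T) v)) by
    obtain ⟨w, hw⟩ := h v
    refine ⟨w, hw.trans ?_⟩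
    rw [hv, hc]
  intro v
  induction v with
  | zero => exact ⟨0, by simp only [map_zero]⟩
  | add v v' h h' =>
    obtain ⟨w, hw⟩ := h
    obtain ⟨w', hw'⟩ := h'
    exact ⟨w + w', by simp only [map_add, hw, hw']⟩
  | tmul r d =>
    induction d using Finsupp.induction_linear with
    | zero => exact ⟨0, by simp only [TensorProduct.tmul_zero, map_zero]⟩
    | add d d' h h' =>
      obtain ⟨w, hw⟩ := h
      obtain ⟨w', hw'⟩ := h'
      exact ⟨w + w', by simp only [TensorProduct.tmul_add, map_add, hw, hw']⟩
    | single j s =>
      refine ⟨(r * pb a s) • obasis J a j, ?_⟩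
      rw [map_smul, LinearMap.lTensor_tmul, Finsupp.linearCombination_single, ← TensorProduct.smul_tmul, hL,
        map_smul, Algebra.smul_def, mul_comm r]
      exact congrArg (fun z => (pb a s * r) • z) (famRels_basis k a j)

variable (M g k)

/-- The presentation given by generators and relations of the sections over an affine object. -/
def famPresentation (hU : CartAt M U) (hg : Submodule.span (gam U) (Set.range g) = ⊤)
    (hk : Submodule.span (gam U) (Set.range k) = LinearMap.ker (Finsupp.linearCombination (gam U) g)) :
    (SheafOfModules.over M U).Presentation where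
  generators :=
    { I := I
      s := fun x => sectionsOfTop (SheafOfModules.over M U) (g x)
      epi := epi_of_surjective _ (famMap_surjective hU hg) }
  relations :=
    have hk' : ∀ j, Finsupp.linearCombination (gam U) g (k j) = 0 := fun j =>
      LinearMap.mem_ker.1 (hk.le (Submodule.subset_span ⟨j, rfl⟩))
    { I := J
      s := (kernel (famMap M g)).freeHomEquiv (kernel.lift (famMap M g) (famRels k) (famRels_comp M g k hk'))
      epi := by
        show Epi ((kernel (famMap M g)).freeHomEquiv.symm _)
        rw [Equiv.symm_apply_apply]
        refine epi_of_surjective _ fun {T} _ a y => ?_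
        have h0 : oapp (famMap M g) a (oapp (kernel.ι (famMap M g)) a y) = 0 :=
          congrArg (fun ψ : kernel (famMap M g) ⟶ SheafOfModules.over M U => oapp ψ a y) (kernel.condition (famMap M g))
        obtain ⟨w, hw⟩ := famRels_exact hU hg hk a _ h0
        refine ⟨w, oapp_injective_of_mono (kernel.ι (famMap M g)) a ?_⟩
        exact (congrArg (fun ψ : ofree U _ ⟶ ofree U _ => oapp ψ a w)
          (kernel.lift_ι (famMap M g) (famRels k) (famRels_comp M g k hk'))).trans hw }

omit M g k

theorem exists_finite_presentation (M : ModEt X) (hU : CartAt M U) [Module.FinitePresentation (gam U) (sectModEt M U)] :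
    ∃ P : (SheafOfModules.over M U).Presentation, P.IsFinite := by
  obtain ⟨n, g, hg⟩ := Module.Finite.exists_fin (R := gam U) (M := sectModEt M U)
  let g' : ULift.{u + 1} (Fin n) → sectModEt M U := fun i => g i.down
  have hg' : Submodule.span (gam U) (Set.range g') = ⊤ := by
    rw [← hg]
    exact congrArg _ (ULift.down_surjective.range_comp g)
  have hfg : (LinearMap.ker (Finsupp.linearCombination (gam U) g')).FG :=
    Module.FinitePresentation.fg_ker _ fun x =>
      (Finsupp.range_linearCombination (R := gam U) (v := g')).ge (hg'.ge (show x ∈ ⊤ from trivial))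
  obtain ⟨m, k, hk⟩ := Submodule.fg_iff_exists_fin_generating_family.1 hfg
  let k' : ULift.{u + 1} (Fin m) → (ULift.{u + 1} (Fin n) →₀ gam U) := fun i => k i.down
  have hk' : Submodule.span (gam U) (Set.range k') = LinearMap.ker (Finsupp.linearCombination (gam U) g') := by
    rw [← hk]
    exact congrArg _ (ULift.down_surjective.range_comp k)
  exact ⟨famPresentation M g' k' hU hg' hk',
    { isFiniteType_generators := ⟨inferInstanceAs (Finite (ULift (Fin n)))⟩
      isFiniteType_relations := ⟨inferInstanceAs (Finite (ULift (Fin m)))⟩ }⟩

/-- A quasi-coherent module with finitely presented sections on affine objects is of finite presentation. -/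
theorem isFinitePresentation_of_sect (M : ModEt X) [M.IsQuasicoherent]
    (h : ∀ E : EtOver X, IsAffine E.obj.left.left → Module.FinitePresentation (gam E) (sectModEt M E)) :
    M.IsFinitePresentation := by
  choose P hP using fun i : {E : EtOver X // IsAffine E.obj.left.left} =>
    haveI := i.2
    haveI := h i.1 i.2
    exists_finite_presentation M (cartAt M i.1)
  refine { exists_quasicoherentData := ?_ }
  refine ⟨
           { I := {E : EtOver X // IsAffine E.obj.left.left}
             X := fun i => i.1
             coversTop := fun T => by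
               obtain ⟨ι, Y, hY, k, -, hc⟩ := exists_affine_open_cover T
               refine (etTop X).superset_covering ?_ (AlgSp.ofArrows_mem_etTop Y k hc)
               rw [Sieve.generate_le_iff]
               intro Z f hf
               obtain ⟨i⟩ := hf
               exact ⟨⟨_, hY i⟩, ⟨𝟙 _⟩⟩
             presentation := P }, ?_⟩
  exact @SheafOfModules.QuasicoherentData.IsFinitePresentation.mk.{u + 1, u, u + 1, u + 1} _ _ _ _ _ _ _ _ hP

/-- On a locally noetherian space finitely generated sections suffice. -/
theorem isFinitePresentation_of_finite (hN : IsLocNoethSp X) (M : ModEt X) [M.IsQuasicoherent]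
    (h : ∀ E : EtOver X, IsAffine E.obj.left.left → Module.Finite (gam E) (sectModEt M E)) :
    M.IsFinitePresentation :=
  isFinitePresentation_of_sect M fun E hE => by
    have := h E hE
    have := isNoetherianRing_gam hN E
    exact Module.finitePresentation_of_finite _ _

end Groth.Agent.EtQCoh
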