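import Mathlib.Algebra.Category.ModuleCat.Sheaf.Free
import Mathlib.Algebra.Category.ModuleCat.Sheaf.Quasicoherent
import Mathlib.Algebra.Category.ModuleCat.Presheaf.Sheafification
import Mathlib.Algebra.Category.ModuleCat.Presheaf.Colimits
import Mathlib.CategoryTheory.Sites.LocallySurjective
import Mathlib.LinearAlgebra.Finsupp.LinearCombination
import Mathlib.Algebra.Homology.ShortComplex.ModuleCat
import Mathlib.Algebra.Homology.ShortComplex.ExactFunctor

/-!
# Local sections of free sheaves of modules and of presented sheaves of modules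
-/

set_option backward.isDefEq.respectTransparency false
set_option backward.isDefEq.respectTransparency.types false

universe u v₁ u₁

open CategoryTheory CategoryTheory.Limits Opposite

namespace Groth.Agent.EtQCoh.Free

variable {C : Type u₁} [Category.{v₁} C] {J : GrothendieckTopology C} {R : Sheaf J RingCat.{u}}
  [HasSheafify J AddCommGrpCat.{u}] [J.WEqualsLocallyBijective AddCommGrpCat.{u}]

/-- A map of a presheaf to a sheaf which detects equality of maps of sheaves is locally surjective. -/
theorem locally_mem_range {F : SheafOfModules.{u} R} {P : PresheafOfModules.{u} R.obj} (g : P ⟶ F.val)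
    (hg : ∀ (Z : SheafOfModules.{u} R) (a b : F ⟶ Z), g ≫ a.val = g ≫ b.val → a = b)
    {T : C} (y : F.val.obj (op T)) :
    ∃ R' ∈ J T, ∀ ⦃V : C⦄ (f : V ⟶ T), R' f → ∃ z : P.obj (op V), g.app (op V) z = F.val.map f.op y := by
  let π := cokernel.π g
  let η := (PresheafOfModules.sheafificationAdjunction (𝟙 R.obj)).unit.app (cokernel g)
  obtain ⟨a, ha⟩ := (SheafOfModules.forget R ⋙ PresheafOfModules.restrictScalars (𝟙 R.obj)).map_surjective
    (X := F) (Y := (PresheafOfModules.sheafification (𝟙 R.obj)).obj (cokernel g)) (π ≫ η)
  have ha0 : a = 0 := hg _ a 0 (by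
    have e : a.val = π ≫ η := ha
    rw [e, show g ≫ π ≫ η = (g ≫ π) ≫ η from (Category.assoc _ _ _).symm, cokernel.condition, zero_comp]
    exact comp_zero.symm)
  let x := π.app (op T) y
  have hx : (CategoryTheory.toSheafify J (cokernel g).presheaf).app (op T) x = 0 := by
    rw [← PresheafOfModules.toPresheaf_map_sheafificationAdjunction_unit_app (𝟙 R.obj)]
    have e : (π ≫ η).app (op T) y = 0 := by rw [← ha, ha0]; rfl
    exact e
  refine ⟨Presheaf.equalizerSieve (F := (cokernel g).presheaf) (X := op T) x 0,
    Presheaf.equalizerSieve_mem J (CategoryTheory.toSheafify J (cokernel g).presheaf) x 0 (by rw [hx, map_zero]),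
    fun V f hf => ?_⟩
  have e₀ : (cokernel g).map f.op x = 0 := (show (cokernel g).presheaf.map f.op x =
    (cokernel g).presheaf.map f.op 0 from hf).trans (map_zero _)
  have e₁ : π.app (op V) (F.val.map f.op y) = 0 :=
    (PresheafOfModules.naturality_apply π f.op y).trans e₀
  let E := PresheafOfModules.evaluation R.obj (op V)
  have hS : ((ShortComplex.mk g π (cokernel.condition g)).map E).Exact :=
    (ShortComplex.exact_of_g_is_cokernel _ (cokernelIsCokernel g)).map_of_epi_of_preservesCokernel E
      (inferInstanceAs (Epi (cokernel.π g))) inferInstance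
  exact (ShortComplex.moduleCat_exact_iff _).1 hS (F.val.map f.op y) e₁

/-- Epimorphisms of sheaves of modules are locally surjective. -/
theorem locally_mem_range_of_epi {M N : SheafOfModules.{u} R} (φ : M ⟶ N) [Epi φ] {T : C} (y : N.val.obj (op T)) :
    ∃ R' ∈ J T, ∀ ⦃V : C⦄ (f : V ⟶ T), R' f → ∃ z : M.val.obj (op V), φ.val.app (op V) z = N.val.map f.op y :=
  locally_mem_range φ.val (fun _ a b e => (cancel_epi φ).1 (SheafOfModules.hom_ext e)) y

/-- The basis of a free sheaf. -/
noncomputable def basis {I : Type u} (i : I) (T : C) : (SheafOfModules.free (R := R) I).val.obj (op T) :=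
  (SheafOfModules.ιFree (R := R) i).val.app (op T) (1 : R.obj.obj (op T))

theorem basis_map {I : Type u} (i : I) {T V : C} (f : V ⟶ T) :
    (SheafOfModules.free (R := R) I).val.map f.op (basis i T) = basis i V := by
  unfold basis
  rw [← PresheafOfModules.naturality_apply]
  congr 1
  exact map_one (R.obj.map f.op).hom

theorem app_basis {I : Type u} {M : SheafOfModules.{u} R} (φ : SheafOfModules.free (R := R) I ⟶ M) (i : I) (T : C) :
    φ.val.app (op T) (basis i T) = (M.freeHomEquiv φ i).val (op T) := rfl

/-- Sections of a free sheaf are locally combinations of the basis. -/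
theorem locally_mem_span {I : Type u} {T : C} (y : (SheafOfModules.free (R := R) I).val.obj (op T)) :
    ∃ R' ∈ J T, ∀ ⦃V : C⦄ (f : V ⟶ T), R' f →
      (SheafOfModules.free (R := R) I).val.map f.op y ∈
        Submodule.span (R.obj.obj (op V)) (Set.range fun i : I => basis (R := R) i V) := by
  let P : PresheafOfModules.{u} R.obj := ∐ fun _ : I => PresheafOfModules.unit R.obj
  let g : P ⟶ (SheafOfModules.free (R := R) I).val := Sigma.desc fun i => (SheafOfModules.ιFree (R := R) i).val
  have hg : ∀ (Z : SheafOfModules.{u} R) (a b : SheafOfModules.free (R := R) I ⟶ Z),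
      g ≫ a.val = g ≫ b.val → a = b := fun Z a b e => by
    refine Cofan.IsColimit.hom_ext (SheafOfModules.isColimitFreeCofan I) _ _ fun i => SheafOfModules.hom_ext ?_
    have e' := congrArg (fun k => Sigma.ι (fun _ : I => PresheafOfModules.unit R.obj) i ≫ k) e
    simp only [g, Sigma.ι_desc_assoc] at e'
    exact e'
  obtain ⟨R', hR', h⟩ := locally_mem_range g hg y
  refine ⟨R', hR', fun V f hf => ?_⟩
  obtain ⟨z, hz⟩ := h f hf
  rw [← hz]
  let K := Submodule.span (R.obj.obj (op V)) (Set.range fun i : I => basis (R := R) i V)
  let E := PresheafOfModules.evaluation R.obj (op V)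
  let q : E.obj P ⟶ ModuleCat.of (R.obj.obj (op V)) (_ ⧸ K) := g.app (op V) ≫ ModuleCat.ofHom K.mkQ
  have hq : q = 0 := by
    refine (isColimitOfPreserves E (colimit.isColimit (Discrete.functor fun _ : I => PresheafOfModules.unit R.obj))).hom_ext
      fun ⟨i⟩ => ?_
    rw [comp_zero]
    change E.map (Sigma.ι (fun _ : I => PresheafOfModules.unit R.obj) i) ≫ g.app (op V) ≫ ModuleCat.ofHom K.mkQ = 0
    rw [← Category.assoc]
    refine ModuleCat.hom_ext (LinearMap.ext_ring ?_)
    show K.mkQ ((Sigma.ι (fun _ : I => PresheafOfModules.unit R.obj) i ≫ g).app (op V) (1 : R.obj.obj (op V))) = 0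
    rw [Sigma.ι_desc, Submodule.mkQ_apply, Submodule.Quotient.mk_eq_zero]
    exact Submodule.subset_span ⟨i, rfl⟩
  exact (Submodule.Quotient.mk_eq_zero K).1 (ConcreteCategory.congr_hom hq z)

/-- The coordinates of a combination of basis sections are unique. -/
theorem linearCombination_basis_injective {I : Type u} (T : C) :
    Function.Injective (Finsupp.linearCombination (R.obj.obj (op T)) fun i : I => basis (R := R) i T) := by
  classical
  intro c d h
  ext j
  let p : SheafOfModules.free (R := R) I ⟶ SheafOfModules.unit R :=
    Cofan.IsColimit.desc (SheafOfModules.isColimitFreeCofan I) fun i => if i = j then 𝟙 _ else 0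
  have hp : ∀ c : I →₀ R.obj.obj (op T),
      (p.val.app (op T)).hom (Finsupp.linearCombination _ (fun i : I => basis (R := R) i T) c) = c j := fun c => by
    induction c using Finsupp.induction_linear with
    | zero => simp only [map_zero, Finsupp.coe_zero, Pi.zero_apply]
    | add a b ha hb => rw [map_add, map_add, ha, hb]; rfl
    | single i r =>
      have e : p.val.app (op T) (basis i T) = ((if i = j then 1 else 0 : R.obj.obj (op T))) := by
        have := congrArg (fun k => k.val.app (op T) (1 : R.obj.obj (op T)))
          (Cofan.IsColimit.fac (SheafOfModules.isColimitFreeCofan (R := R) I) (fun i => if i = j then 𝟙 _ else 0) i)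
        refine this.trans ?_
        split_ifs <;> rfl
      rw [Finsupp.linearCombination_single, map_smul, e, Finsupp.single_apply]
      show r * (if i = j then 1 else 0) = _
      split_ifs <;> simp
  rw [← hp c, ← hp d, h]

/-- The map of relations of a presentation. -/
noncomputable def relMap {M : SheafOfModules.{u} R} (P : M.Presentation) :
    SheafOfModules.free (R := R) P.relations.I ⟶ SheafOfModules.free P.generators.I :=
  P.relations.π ≫ kernel.ι P.generators.π

theorem relMap_comp {M : SheafOfModules.{u} R} (P : M.Presentation) : relMap P ≫ P.generators.π = 0 := by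
  rw [relMap, Category.assoc, kernel.condition, comp_zero]

/-- Sections killed by a presentation come locally from the relations. -/
theorem locally_mem_range_relations {M : SheafOfModules.{u} R} (P : M.Presentation) {T : C}
    (y : (SheafOfModules.free (R := R) P.generators.I).val.obj (op T)) (hy : P.generators.π.val.app (op T) y = 0) :
    ∃ R' ∈ J T, ∀ ⦃V : C⦄ (f : V ⟶ T), R' f → ∃ z,
      (relMap P).val.app (op V) z =
        (SheafOfModules.free (R := R) P.generators.I).val.map f.op y := by
  let G := SheafOfModules.forget R ⋙ PresheafOfModules.evaluation R.obj (op T)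
  have hS : ((ShortComplex.mk _ _ (kernel.condition P.generators.π)).map G).Exact :=
    (ShortComplex.exact_of_f_is_kernel _ (kernelIsKernel P.generators.π)).map_of_mono_of_preservesKernel G
      (inferInstanceAs (Mono (kernel.ι P.generators.π))) inferInstance
  obtain ⟨x, hx⟩ := (ShortComplex.moduleCat_exact_iff _).1 hS y hy
  obtain ⟨R', hR', h⟩ := locally_mem_range_of_epi P.relations.π x
  refine ⟨R', hR', fun V f hf => ?_⟩
  obtain ⟨z, hz⟩ := h f hf
  refine ⟨z, ?_⟩
  show (kernel.ι P.generators.π).val.app (op V) (P.relations.π.val.app (op V) z) = _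
  rw [hz, PresheafOfModules.naturality_apply]
  exact congrArg _ hx

end Groth.Agent.EtQCoh.Free
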