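import Groth.Agent.EtQCoh.FiniteSections
import Groth.Agent.EtQCoh.WeakAssPts
import Groth.Agent.EtQCoh.PushAss
import Groth.Agent.AlgSpDec.EtStalkAb
import Groth.Agent.AlgSpDec.EtStalkHenz
import Groth.Agent.AlgSpDec.OpenCoverSpace
import Groth.Agent.AlgSpDec.FppfDescent

/-!
# Loci where a map of coherent modules is surjective or injective
-/

set_option backward.isDefEq.respectTransparency false
set_option backward.isDefEq.respectTransparency.types false
set_option linter.style.haveILetI false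

universe u

open CategoryTheory CategoryTheory.Limits AlgebraicGeometry Opposite AlgSp TensorProduct

namespace Groth.Agent.EtQCoh

open Groth.Agent.AlgSpQ4.MV Groth.Agent.AlgSpDec Groth.Agent.AlgSpDec.EtStalkElts Groth.Agent.AlgSpDec.EtStalkAb

variable {S : Scheme.{u}} {X : Sp S}

/-- An affine neighbourhood refining two neighbourhoods. -/
theorem exists_affine_nbhd₂ {p : FieldPt X} (N N' : EtNbhd p) :
    ∃ (M : EtNbhd p) (_ : M ⟶ N) (_ : M ⟶ N'), IsAffine M.1.obj.left.left := by
  obtain ⟨W, a, b, -⟩ := exists_cone_obj p N N'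
  obtain ⟨M, g, hM, -⟩ := EtStalkHenz.exists_affine W ⊤ trivial
  exact ⟨M, g ≫ a, g ≫ b, hM⟩

/-- An affine neighbourhood refining finitely many neighbourhoods of a given one. -/
theorem exists_affine_nbhd_fin {p : FieldPt X} {ι : Type*} (s : Finset ι) (N : EtNbhd p) (M : ι → EtNbhd p)
    (g : ∀ i, M i ⟶ N) (hN : IsAffine N.1.obj.left.left) :
    ∃ (L : EtNbhd p) (f : L ⟶ N), IsAffine L.1.obj.left.left ∧
      ∀ i ∈ s, ∃ h : L ⟶ M i, h.val ≫ (g i).val = f.val := by
  classical
  induction s using Finset.induction_on with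
  | empty => exact ⟨N, 𝟙 N, hN, fun i hi => absurd hi (Finset.notMem_empty i)⟩
  | @insert a s ha ih =>
    obtain ⟨L, f, hL, hs⟩ := ih
    obtain ⟨P, q, r, -⟩ := exists_cone_obj p L (M a)
    obtain ⟨Q, c, hc⟩ := exists_cone_map p (q ≫ f) (r ≫ g a)
    obtain ⟨L', d, hL', -⟩ := EtStalkHenz.exists_affine Q ⊤ trivial
    refine ⟨L', d ≫ c ≫ q ≫ f, hL', fun i hi => ?_⟩
    rcases Finset.mem_insert.1 hi with rfl | hi
    · exact ⟨d ≫ c ≫ r, congrArg Subtype.val (show (d ≫ c ≫ r) ≫ g i = d ≫ c ≫ q ≫ f by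
        rw [Category.assoc, Category.assoc, hc])⟩
    · obtain ⟨h, hh⟩ := hs i hi
      have e : h ≫ g i = f := Subtype.ext hh
      exact ⟨d ≫ c ≫ q ≫ h, congrArg Subtype.val (show (d ≫ c ≫ q ≫ h) ≫ g i = d ≫ c ≫ q ≫ f by
        simp only [Category.assoc, e])⟩

theorem app_θ {M N : ModEt X} (φ : M ⟶ N) {E T : EtOver X} (g : T ⟶ E) :
    letI := (pb g).toAlgebra
    ∀ (f : sectModEt M E →ₗ[gam E] sectModEt N E), (∀ x, f x = φ.val.app (op E) x) →
      ∀ t, (φ.val.app (op T)) (θ M g t) = θ N g (f.lTensor (gam T) t) := by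
  letI := (pb g).toAlgebra
  intro f hf t
  induction t with
  | zero => simp only [map_zero]
  | add x y hx hy => simp only [map_add, hx, hy]
  | tmul r x =>
    rw [LinearMap.lTensor_tmul, θ_tmul, θ_tmul, app_smul, hf]
    exact congrArg (fun z => r • z) (app_res φ g x)

/-- A morphism on sections, linear over the functions. -/
noncomputable def appLin {M N : ModEt X} (φ : M ⟶ N) (E : EtOver X) : sectModEt M E →ₗ[gam E] sectModEt N E where
  toFun := φ.val.app (op E)
  map_add' := map_add _
  map_smul' r x := app_smul φ r x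

theorem appLin_apply {M N : ModEt X} (φ : M ⟶ N) (E : EtOver X) (x : sectModEt M E) :
    appLin φ E x = φ.val.app (op E) x := rfl

variable {M N : ModEt X} [M.IsQuasicoherent] [N.IsQuasicoherent] (φ : M ⟶ N)

theorem surjective_of_map {E T : EtOver X} [IsAffine E.obj.left.left] [IsAffine T.obj.left.left] (g : T ⟶ E)
    (h : Function.Surjective (φ.val.app (op E))) : Function.Surjective (φ.val.app (op T)) := by
  letI := (pb g).toAlgebra
  intro y
  obtain ⟨t, rfl⟩ := (θ_bijective N g).2 y
  obtain ⟨s, rfl⟩ := LinearMap.lTensor_surjective (gam T) (g := appLin φ E) h t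
  exact ⟨θ M g s, app_θ φ g (appLin φ E) (fun _ => rfl) s⟩

theorem injective_of_map {E T : EtOver X} [IsAffine E.obj.left.left] [IsAffine T.obj.left.left] (g : T ⟶ E)
    (h : Function.Injective (φ.val.app (op E))) : Function.Injective (φ.val.app (op T)) := by
  letI := (pb g).toAlgebra
  intro x y hxy
  obtain ⟨t, rfl⟩ := (θ_bijective M g).2 x
  obtain ⟨t', rfl⟩ := (θ_bijective M g).2 y
  rw [app_θ φ g (appLin φ E) fun _ => rfl, app_θ φ g (appLin φ E) fun _ => rfl] at hxy
  have : Module.Flat (gam E) (gam T) := flat_pb g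
  exact congrArg _ (Module.Flat.lTensor_preserves_injective_linearMap (appLin φ E) h ((θ_bijective N g).1 hxy))

/-- Kernels base change along maps of affine objects. -/
theorem injective_of_ker_res {E T : EtOver X} [IsAffine E.obj.left.left] [IsAffine T.obj.left.left] (g : T ⟶ E)
    (h : ∀ x : sectModEt M E, φ.val.app (op E) x = 0 → res M g x = 0) :
    Function.Injective (φ.val.app (op T)) := by
  letI := (pb g).toAlgebra
  have : Module.Flat (gam E) (gam T) := flat_pb g
  refine (injective_iff_map_eq_zero (φ.val.app (op T)).hom).2 fun x hx => ?_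
  change φ.val.app (op T) x = 0 at hx
  obtain ⟨t, rfl⟩ := (θ_bijective M g).2 x
  rw [app_θ φ g (appLin φ E) fun _ => rfl] at hx
  have hz : (appLin φ E).lTensor (gam T) t = 0 := (θ_bijective N g).1 (hx.trans (map_zero _).symm)
  obtain ⟨s, rfl⟩ := (Module.Flat.lTensor_exact (gam T) (LinearMap.exact_subtype_ker_map (appLin φ E)) t).1 hz
  clear hx hz
  induction s with
  | zero => simp only [map_zero]
  | add a b ha hb => simp only [map_add, ha, hb, add_zero]
  | tmul r a =>
    rw [LinearMap.lTensor_tmul, θ_tmul, Submodule.subtype_apply, h a.1 a.2, smul_zero]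

/-- Injectivity on an affine object spreads to all objects over its image. -/
theorem injective_of_range {E' : EtOver X} [IsAffine E'.obj.left.left]
    (h : Function.Injective (φ.val.app (op E'))) {E : EtOver X}
    (hE : Set.range (Points.ofPt E.obj.hom) ⊆ Set.range (Points.ofPt E'.obj.hom)) :
    Function.Injective (φ.val.app (op E)) := by
  choose v hv using fun t => hE ⟨t, rfl⟩
  choose W hW a b w ha hb using fun t => exists_common_chart (E := E) (E' := E') t (v t) (hv t).symm
  intro x y hxy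
  refine sect_ext' M W a (fun t => ⟨t, w t, ha t⟩) fun t => ?_
  have := hW t
  refine injective_of_map φ (b t) h ?_
  rw [app_res, app_res, hxy]

/-- Bijectivity on an affine object spreads to all objects over its image. -/
theorem bijective_of_range {E' : EtOver X} [IsAffine E'.obj.left.left]
    (h : Function.Bijective (φ.val.app (op E'))) {E : EtOver X}
    (hE : Set.range (Points.ofPt E.obj.hom) ⊆ Set.range (Points.ofPt E'.obj.hom)) :
    Function.Bijective (φ.val.app (op E)) := by
  refine ⟨injective_of_range φ h.1 hE, fun y => ?_⟩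
  choose v hv using fun t => hE ⟨t, rfl⟩
  choose W hW a b w ha hb using fun t => exists_common_chart (E := E) (E' := E') t (v t) (hv t).symm
  have hsurj : ∀ t, ∃ x, φ.val.app (op (W t)) x = res N (a t) y := fun t =>
    have := hW t
    surjective_of_map φ (b t) h.2 _
  choose x hx using hsurj
  have hT : ∀ (i : ↥E.obj.left.left) (T : EtOver X) (c : T ⟶ W i),
      Set.range (Points.ofPt T.obj.hom) ⊆ Set.range (Points.ofPt E'.obj.hom) := by
    rintro i T c _ ⟨z, rfl⟩
    exact ⟨(c ≫ b i).hom.left.left z, (ofPt_hom (c ≫ b i) z).symm⟩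
  obtain ⟨z, hz⟩ := exists_glue M W a (fun t => ⟨t, w t, ha t⟩) x fun i j T c d e => by
    refine injective_of_range φ h.1 (hT i T c) ?_
    rw [app_res, app_res, hx, hx, ← res_comp, ← res_comp, e]
  refine ⟨z, sect_ext' N W a (fun t => ⟨t, w t, ha t⟩) fun t => ?_⟩
  rw [← app_res, hz, hx]

omit [M.IsQuasicoherent] [N.IsQuasicoherent]

/-- The underlying morphism of abelian sheaves on sections. -/
theorem toAb_app (E : EtOver X) (x : sectModEt M E) :
    (((toAbEt X).map φ).hom.app (op E)).hom x = φ.val.app (op E) x := rfl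

/-- The germ of a section. -/
noncomputable def gm (M : ModEt X) {p : FieldPt X} (L : EtNbhd p) :
    sectModEt M L.1 →+ ↥(stalkEt p ((toAbEt X).obj M)) :=
  (stalkEtι p ((toAbEt X).obj M) L).hom

theorem gm_res {p : FieldPt X} {L L' : EtNbhd p} (g : L' ⟶ L) (x : sectModEt M L.1) :
    gm M L' (res M g.val x) = gm M L x :=
  ConcreteCategory.congr_hom (colimit.w (stalkEtDiagram p ((toAbEt X).obj M)) g.op) x

/-- The map on stalks. -/
noncomputable def stk (p : FieldPt X) :
    ↥(stalkEt p ((toAbEt X).obj M)) →+ ↥(stalkEt p ((toAbEt X).obj N)) :=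
  ((stalkEtFunctor AddCommGrpCat.{u + 1} p).map ((toAbEt X).map φ)).hom

theorem stk_gm {p : FieldPt X} (L : EtNbhd p) (x : sectModEt M L.1) :
    stk φ p (gm M L x) = gm N L (φ.val.app (op L.1) x) :=
  ConcreteCategory.congr_hom (ι_colimMap
    (Functor.whiskerLeft (EtNbhd.toEtOver p).op ((toAbEt X).map φ).hom) (op L)) x

variable {φ} (hX : IsAlgSpace X)

include hX

theorem gm_eq_zero_iff {p : FieldPt X} (hp : p.IsGeometric) (L : EtNbhd p) (x : sectModEt M L.1) :
    gm M L x = 0 ↔ ∃ (L' : EtNbhd p) (g : L' ⟶ L), res M g.val x = 0 :=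
  stalkι_eq_zero_iff ((toAbEt X).obj M) hX hp L x

theorem exists_gm {p : FieldPt X} (hp : p.IsGeometric) (z : ↥(stalkEt p ((toAbEt X).obj M))) :
    ∃ (L : EtNbhd p) (x : sectModEt M L.1), gm M L x = z :=
  exists_rep ((toAbEt X).obj M) hX hp z

/-- An affine neighbourhood of a geometric point. -/
theorem exists_affine_nbhd {p : FieldPt X} (hp : p.IsGeometric) :
    ∃ L : EtNbhd p, IsAffine L.1.obj.left.left := by
  obtain ⟨E, hE, u, hu⟩ := exists_affine_chart_pt hX (Points.mk p)
  obtain ⟨l, -⟩ := EtStalkStrict.exists_nbhd hX hp E.property hu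
  exact ⟨⟨EtOver.mk E.obj.hom E.property, l⟩, hE⟩

theorem exists_surjective_nbhd [M.IsQuasicoherent] [N.IsQuasicoherent] [N.IsFiniteType] {p : FieldPt X}
    (hp : p.IsGeometric) (h : Function.Surjective (stk φ p)) :
    ∃ L : EtNbhd p, IsAffine L.1.obj.left.left ∧ Function.Surjective (φ.val.app (op L.1)) := by
  classical
  obtain ⟨L₀, hL₀⟩ := exists_affine_nbhd hX hp
  obtain ⟨s, hs⟩ := (finite_sect N L₀.1).fg_top
  have key : ∀ y : sectModEt N L₀.1, ∃ (L : EtNbhd p) (g : L ⟶ L₀) (x : sectModEt M L.1),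
      φ.val.app (op L.1) x = res N g.val y := fun y => by
    obtain ⟨z, hz⟩ := h (gm N L₀ y)
    obtain ⟨L₁, x, rfl⟩ := exists_gm hX hp z
    obtain ⟨L₂, a, b, hL₂⟩ := exists_affine_nbhd₂ L₁ L₀
    have e : gm N L₂ (φ.val.app (op L₂.1) (res M a.val x) - res N b.val y) = 0 := by
      rw [map_sub, app_res, gm_res, gm_res, ← stk_gm, hz, sub_self]
    obtain ⟨L₃, c, hc⟩ := (gm_eq_zero_iff hX hp L₂ _).1 e
    refine ⟨L₃, c ≫ b, res M (c.val ≫ a.val) x, ?_⟩
    rw [map_sub, sub_eq_zero, ← app_res, ← res_comp, ← res_comp] at hc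
    exact hc
  choose L g x hx using key
  obtain ⟨L', f, hL', hf⟩ := exists_affine_nbhd_fin s L₀ L g hL₀
  refine ⟨L', hL', fun y => ?_⟩
  letI := (pb f.val).toAlgebra
  obtain ⟨t, rfl⟩ := (θ_bijective N f.val).2 y
  induction t with
  | zero => exact ⟨0, by simp⟩
  | add a b ha hb =>
    obtain ⟨a', ha'⟩ := ha
    obtain ⟨b', hb'⟩ := hb
    exact ⟨a' + b', by rw [map_add, map_add, ha', hb']⟩
  | tmul r m =>
    suffices H : ∀ m ∈ Submodule.span (gam L₀.1) (s : Set (sectModEt N L₀.1)),
        res N f.val m ∈ LinearMap.range (appLin φ L'.1) by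
      obtain ⟨x', hx'⟩ := H m (hs ▸ trivial)
      exact ⟨r • x', by rw [app_smul, θ_tmul, ← hx']; rfl⟩
    intro m hm
    induction hm using Submodule.span_induction with
    | mem m hm =>
      obtain ⟨k, hk⟩ := hf m hm
      refine ⟨res M k.val (x m), ?_⟩
      rw [appLin_apply, app_res, hx, ← res_comp, hk]
    | zero => simp
    | add a b _ _ ha hb => rw [map_add]; exact add_mem ha hb
    | smul a b _ hb => rw [res_smul]; exact Submodule.smul_mem _ _ hb

theorem exists_injective_nbhd [M.IsQuasicoherent] [N.IsQuasicoherent] [M.IsFiniteType] {p : FieldPt X}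
    (hp : p.IsGeometric) (h : Function.Injective (stk φ p))
    (L₀ : EtNbhd p) (hL₀ : IsAffine L₀.1.obj.left.left) (hnoeth : IsNoetherianRing (gam L₀.1)) :
    ∃ (L : EtNbhd p) (_ : L ⟶ L₀), IsAffine L.1.obj.left.left ∧ Function.Injective (φ.val.app (op L.1)) := by
  have := finite_sect M L₀.1
  obtain ⟨s, hs⟩ := (IsNoetherian.noetherian (LinearMap.ker (appLin φ L₀.1)))
  have key : ∀ y : sectModEt M L₀.1, ∃ (L : EtNbhd p) (g : L ⟶ L₀),
      φ.val.app (op L₀.1) y = 0 → res M g.val y = 0 := fun y => by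
    by_cases hy : φ.val.app (op L₀.1) y = 0
    · have e : gm M L₀ y = 0 := h (by rw [stk_gm, hy, map_zero, map_zero])
      obtain ⟨L₃, c, hc⟩ := (gm_eq_zero_iff hX hp L₀ _).1 e
      exact ⟨L₃, c, fun _ => hc⟩
    · exact ⟨L₀, 𝟙 L₀, fun h' => absurd h' hy⟩
  choose L g hg using key
  obtain ⟨L', f, hL', hf⟩ := exists_affine_nbhd_fin s L₀ L g hL₀
  refine ⟨L', f, hL', injective_of_ker_res φ f.val fun y hy => ?_⟩
  have hy' : y ∈ Submodule.span (gam L₀.1) (s : Set (sectModEt M L₀.1)) := hs.symm ▸ hy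
  clear hy
  induction hy' using Submodule.span_induction with
  | mem m hm =>
    obtain ⟨k, hk⟩ := hf m hm
    rw [← hk, res_comp, hg m (LinearMap.mem_ker.1 (hs.le (Submodule.subset_span hm))), map_zero]
  | zero => simp
  | add a b _ _ ha hb => rw [map_add, ha, hb, add_zero]
  | smul a b _ hb => rw [res_smul, hb, smul_zero]

/-- Surjectivity on an affine object gives surjective stalks over its image. -/
theorem stk_surjective [M.IsQuasicoherent] [N.IsQuasicoherent] {E' : EtOver X} [IsAffine E'.obj.left.left]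
    (h : Function.Surjective (φ.val.app (op E'))) {q : FieldPt X} (hq : q.IsGeometric)
    (hmem : Points.mk q ∈ Set.range (Points.ofPt E'.obj.hom)) : Function.Surjective (stk φ q) := by
  intro z
  obtain ⟨L, y, rfl⟩ := exists_gm hX hq z
  obtain ⟨u, hu⟩ := hmem
  obtain ⟨l, -⟩ := EtStalkStrict.exists_nbhd hX hq E'.property hu
  obtain ⟨L', a, b, hL'⟩ := exists_affine_nbhd₂ L ⟨E', l⟩
  obtain ⟨x, hx⟩ := surjective_of_map φ b.val h (res N a.val y)
  exact ⟨gm M L' x, by rw [stk_gm, hx, gm_res]⟩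

omit hX in
/-- The image of an object is an open subspace. -/
theorem exists_image_space (X : Space S) (E : EtOver X.obj) :
    ∃ (X' : Space S) (j : X' ⟶ X), RepWith @IsOpenImmersion j.hom ∧
      Set.range (Points.map j.hom) = Set.range (Points.ofPt E.obj.hom) := by
  obtain ⟨X', j, hj, hr⟩ := Fppf.exists_open_subsheaf (AlgSpLib.isOpenMap_ofPt E.property).isOpen_range
  exact ⟨⟨X', isAlgSpace_of_representable X.property j hj.rep⟩, ObjectProperty.homMk j, hj, hr⟩

end Groth.Agent.EtQCoh
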