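import Groth.Agent.EtQCoh.Base2
import Groth.Agent.EtQCoh.Descent

/-!
# Quasi-coherent modules on the small etale site are cartesian on affine objects
-/

set_option backward.isDefEq.respectTransparency false
set_option backward.isDefEq.respectTransparency.types false
set_option linter.style.haveILetI false

universe u

open CategoryTheory CategoryTheory.Limits AlgebraicGeometry Opposite AlgSp TensorProduct

namespace Groth.Agent.EtQCoh

open Groth.Agent.AlgSpQ4.MV Groth.Agent.AlgSpDec

variable {S : Scheme.{u}} {X : Sp S}

theorem cartAt (M : ModEt X) [M.IsQuasicoherent] (E : EtOver X) [IsAffine E.obj.left.left] : CartAt M E := by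
  obtain ⟨q⟩ := SheafOfModules.IsQuasicoherent.nonempty_quasicoherentData (M := M)
  obtain ⟨ι, hι, F, hF, e, hm, hc⟩ := exists_finite_affine_cover (T := E) (Sieve.ofObjects q.X E) (q.coversTop E)
  refine cartAt_of_cover F e hc fun i => ?_
  obtain ⟨k, ⟨f⟩⟩ := (Sieve.mem_ofObjects_iff ..).1 (hm i)
  exact cartAt_of_pres (Pres.ofPresentation (q.presentation k)) (hF i) f

/-- Sections over an affine object over an affine object are obtained by base change. -/
theorem θ_bijective (M : ModEt X) [M.IsQuasicoherent] {E T : EtOver X} [IsAffine E.obj.left.left]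
    [IsAffine T.obj.left.left] (g : T ⟶ E) : Function.Bijective (θ M g) :=
  cartAt M E T inferInstance g

end Groth.Agent.EtQCoh
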