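import Groth.Agent.EtQCoh.Basic
import Groth.Agent.EtQCoh.Free

/-!
# Free modules over an object of the small etale site, on affine objects
-/

set_option backward.isDefEq.respectTransparency false
set_option backward.isDefEq.respectTransparency.types false
set_option linter.style.haveILetI false

universe u

open CategoryTheory CategoryTheory.Limits AlgebraicGeometry Opposite AlgSp

namespace Groth.Agent.EtQCoh

open Groth.Agent.AlgSpQ4.MV Groth.Agent.AlgSpDec

variable {S : Scheme.{u}} {X : Sp S} {U : EtOver X}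

/-- Sections of a module over `U` on an object mapping to `U`. -/
abbrev osect (N : ModEtOn U) {T : EtOver X} (a : T ⟶ U) : Type (u + 1) := N.val.obj (op (Over.mk a))

noncomputable instance osectModule (N : ModEtOn U) {T : EtOver X} (a : T ⟶ U) : Module (gam T) (osect N a) :=
  Module.compHom (R := (OEtOn U).obj.obj (op (Over.mk a))) _ (upΓ T)

/-- Restriction of sections over `U`. -/
noncomputable def ores (N : ModEtOn U) {T V : EtOver X} {a : T ⟶ U} {b : V ⟶ U} (h : V ⟶ T) (w : h ≫ a = b) :
    osect N a →+ osect N b :=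
  (N.val.presheaf.map (Over.homMk h w : Over.mk b ⟶ Over.mk a).op).hom

theorem osmul_def {N : ModEtOn U} {T : EtOver X} {a : T ⟶ U} (r : gam T) (x : osect N a) :
    r • x = (upΓ T r : (OEtOn U).obj.obj (op (Over.mk a))) • x := rfl

theorem ores_smul (N : ModEtOn U) {T V : EtOver X} {a : T ⟶ U} {b : V ⟶ U} (h : V ⟶ T) (w : h ≫ a = b) (r : gam T)
    (x : osect N a) : ores N h w (r • x) = pb h r • ores N h w x := by
  rw [osmul_def, osmul_def]
  exact PresheafOfModules.map_smul N.val (Over.homMk h w : Over.mk b ⟶ Over.mk a).op _ x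

theorem ores_ores (N : ModEtOn U) {T V W : EtOver X} {a : T ⟶ U} {b : V ⟶ U} {c : W ⟶ U} (h : V ⟶ T) (w : h ≫ a = b)
    (g : W ⟶ V) (w' : g ≫ b = c) (k : W ⟶ T) (hk : g ≫ h = k) (x : osect N a) :
    ores N g w' (ores N h w x) = ores N k (by rw [← hk, Category.assoc, w, w'] : k ≫ a = c) x := by
  subst hk
  have e : (Over.homMk (g ≫ h) (show (g ≫ h) ≫ a = c by rw [Category.assoc, w, w']) : Over.mk c ⟶ Over.mk a) =
      (Over.homMk g w' : Over.mk c ⟶ Over.mk b) ≫ (Over.homMk h w : Over.mk b ⟶ Over.mk a) := rfl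
  unfold ores
  rw [e, op_comp, Functor.map_comp]
  rfl

/-- A morphism of modules over `U` on sections. -/
noncomputable def oapp {N N' : ModEtOn U} (φ : N ⟶ N') {T : EtOver X} (a : T ⟶ U) :
    osect N a →ₗ[gam T] osect N' a where
  toFun := φ.val.app (op (Over.mk a))
  map_add' := map_add _
  map_smul' r x := map_smul (φ.val.app (op (Over.mk a))).hom (upΓ T r : (OEtOn U).obj.obj (op (Over.mk a))) x

theorem oapp_ores {N N' : ModEtOn U} (φ : N ⟶ N') {T V : EtOver X} {a : T ⟶ U} {b : V ⟶ U} (h : V ⟶ T)
    (w : h ≫ a = b) (x : osect N a) : oapp φ b (ores N h w x) = ores N' h w (oapp φ a x) :=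
  PresheafOfModules.naturality_apply φ.val (Over.homMk h w : Over.mk b ⟶ Over.mk a).op x

/-- Coverings of the slice site give finite affine coverings. -/
theorem exists_cover_over {T : EtOver X} [IsAffine T.obj.left.left] (a : T ⟶ U) (R : Sieve (Over.mk a))
    (hR : R ∈ (etTop X).over U (Over.mk a)) :
    ∃ (ι : Type u) (_ : Finite ι) (Y : ι → EtOver X) (_ : ∀ i, IsAffine (Y i).obj.left.left) (h : ∀ i, Y i ⟶ T),
      (∀ i, R (Over.homMk (h i) rfl : Over.mk (h i ≫ a) ⟶ Over.mk a)) ∧
        ∀ x : ↥T.obj.left.left, ∃ i, x ∈ Set.range (h i).hom.left.left := by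
  obtain ⟨ι, hι, Y, hY, h, hm, hc⟩ := exists_finite_affine_cover (T := T) (Sieve.overEquiv (Over.mk a) R)
    ((GrothendieckTopology.mem_over_iff _ _).1 hR)
  exact ⟨ι, hι, Y, hY, h, fun i => (Sieve.overEquiv_iff _ _).1 (hm i), hc⟩

/-- Sections over `U` are separated. -/
theorem osect_ext (N : ModEtOn U) {T : EtOver X} (a : T ⟶ U) {ι : Type u} (Y : ι → EtOver X) (h : ∀ i, Y i ⟶ T)
    (hc : ∀ x : ↥T.obj.left.left, ∃ i, x ∈ Set.range (h i).hom.left.left) {s t : osect N a}
    (e : ∀ i, ores N (h i) rfl s = ores N (h i) rfl t) : s = t := by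
  have hsh : Presieve.IsSheaf ((etTop X).over U) (N.val.presheaf ⋙ CategoryTheory.forget AddCommGrpCat) :=
    (isSheaf_iff_isSheaf_of_type _ _).1
      ((Presheaf.isSheaf_iff_isSheaf_forget _ _ (CategoryTheory.forget AddCommGrpCat)).1 N.isSheaf)
  have hs := hsh ((Sieve.overEquiv (Over.mk a)).symm (Sieve.ofArrows Y h))
    ((etTop X).overEquiv_symm_mem_over (Over.mk a) _ (AlgSp.ofArrows_mem_etTop Y h hc))
  refine hs.isSeparatedFor.ext fun V f hf => ?_
  obtain ⟨i, k, hk⟩ := (Sieve.mem_ofArrows_iff _ _ _).1 ((Sieve.overEquiv_symm_iff _ _).1 hf)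
  obtain ⟨k', hk'⟩ : ∃ k' : V ⟶ Over.mk (h i ≫ a),
      f = k' ≫ (Over.homMk (h i) rfl : Over.mk (h i ≫ a) ⟶ Over.mk a) :=
    ⟨Over.homMk k (by
      show k ≫ h i ≫ a = V.hom
      rw [← Category.assoc, ← hk]
      exact Over.w f), Over.OverMorphism.ext hk⟩
  rw [hk', op_comp, Functor.map_comp]
  exact congrArg (fun z => N.val.presheaf.map k'.op z) (e i)

/-- The free module over `U`. -/
noncomputable abbrev ofree (U : EtOver X) (I : Type (u + 1)) : ModEtOn U := SheafOfModules.free (R := OEtOn U) I

/-- The basis sections. -/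
noncomputable def obasis (I : Type (u + 1)) {T : EtOver X} (a : T ⟶ U) (i : I) : osect (ofree U I) a :=
  Free.basis (R := OEtOn U) i (Over.mk a)

/-- Combinations of basis sections. -/
noncomputable def ocomb (I : Type (u + 1)) {T : EtOver X} (a : T ⟶ U) :
    (I →₀ gam T) →ₗ[gam T] osect (ofree U I) a :=
  Finsupp.linearCombination (gam T) (obasis I a)

theorem ores_ocomb (I : Type (u + 1)) {T V : EtOver X} {a : T ⟶ U} {b : V ⟶ U} (h : V ⟶ T) (w : h ≫ a = b)
    (c : I →₀ gam T) : ores (ofree U I) h w (ocomb I a c) = ocomb I b (c.mapRange (pb h) (map_zero _)) := by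
  induction c using Finsupp.induction_linear with
  | zero => simp
  | add c d hc hd => rw [map_add, map_add, hc, hd, Finsupp.mapRange_add (by simp), map_add]
  | single i r =>
    rw [Finsupp.mapRange_single, ocomb, ocomb, Finsupp.linearCombination_single, Finsupp.linearCombination_single,
      ores_smul]
    exact congrArg _ (Free.basis_map (R := OEtOn U) i _)

theorem ocomb_injective (I : Type (u + 1)) {T : EtOver X} (a : T ⟶ U) : Function.Injective (ocomb I a) := by
  intro c d h
  have key : ∀ c : I →₀ gam T, ocomb I a c = Finsupp.linearCombination ((OEtOn U).obj.obj (op (Over.mk a)))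
      (fun i : I => Free.basis (R := OEtOn U) i (Over.mk a)) (c.mapRange (upΓ T) (map_zero _)) := fun c => by
    rw [ocomb, Finsupp.linearCombination_apply, Finsupp.linearCombination_apply,
      Finsupp.sum_mapRange_index (h := fun i r => r • Free.basis (R := OEtOn U) i (Over.mk a)) fun i => zero_smul _ _]
    rfl
  have := Free.linearCombination_basis_injective (R := OEtOn U) (Over.mk a) ((key c).symm.trans (h.trans (key d)))
  exact Finsupp.mapRange_injective _ (map_zero _) ULift.ringEquiv.symm.injective this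

/-- On affine objects sections of a free module are combinations of the basis. -/
theorem ocomb_surjective (I : Type (u + 1)) {T : EtOver X} [IsAffine T.obj.left.left] (a : T ⟶ U) :
    Function.Surjective (ocomb I a) := by
  classical
  intro y
  obtain ⟨R, hR, hy⟩ := Free.locally_mem_span (R := OEtOn U) (T := Over.mk a) y
  obtain ⟨ι, hι, Y, hY, h, hm, hc⟩ := exists_cover_over a R hR
  have hcomb : ∀ i, ∃ c : I →₀ gam (Y i), ocomb I (h i ≫ a) c = ores (ofree U I) (h i) rfl y := fun i => by
    let K : Submodule (gam (Y i)) (osect (ofree U I) (h i ≫ a)) := LinearMap.range (ocomb I (h i ≫ a))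
    have key : ∀ z ∈ Submodule.span ((OEtOn U).obj.obj (op (Over.mk (h i ≫ a))))
        (Set.range fun k : I => Free.basis (R := OEtOn U) k (Over.mk (h i ≫ a))),
        (z : osect (ofree U I) (h i ≫ a)) ∈ K := by
      intro z hz
      induction hz using Submodule.span_induction with
      | mem z hz =>
        obtain ⟨k, rfl⟩ := hz
        exact ⟨Finsupp.single k 1, (Finsupp.linearCombination_single ..).trans (one_smul _ _)⟩
      | zero => exact K.zero_mem
      | add z z' _ _ hz hz' => exact K.add_mem hz hz'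
      | smul r z _ hz => exact K.smul_mem (ULift.down r) hz
    exact key _ (hy _ (hm i))
  choose c hc' using hcomb
  have := Fintype.ofFinite ι
  let s : Finset I := Finset.univ.biUnion fun i => (c i).support
  have hagree : ∀ (k : I) (i j : ι) (V : EtOver X) (p : V ⟶ Y i) (q : V ⟶ Y j), p ≫ h i = q ≫ h j →
      res (unitModEt X) p (upΓ (Y i) (c i k)) = res (unitModEt X) q (upΓ (Y j) (c j k)) := by
    intro k i j V p q e
    have w : q ≫ h j ≫ a = p ≫ h i ≫ a := by rw [← Category.assoc, ← Category.assoc, e]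
    have e₂ : (c i).mapRange (pb p) (map_zero _) = (c j).mapRange (pb q) (map_zero _) := by
      apply ocomb_injective I (p ≫ h i ≫ a)
      rw [← ores_ocomb I p rfl, ← ores_ocomb I q w, hc', hc',
        ores_ores (ofree U I) (h i) rfl p rfl (p ≫ h i) rfl, ores_ores (ofree U I) (h j) rfl q w (p ≫ h i) e.symm]
    exact congrArg (fun w : I →₀ gam V => upΓ V (w k)) e₂
  have hglue : ∀ k : I, ∃ r : gam T, ∀ i, pb (h i) r = c i k := fun k => by
    obtain ⟨z, hz⟩ := exists_glue (unitModEt X) Y h hc (fun i => upΓ (Y i) (c i k)) (hagree k)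
    exact ⟨ULift.down z, fun i => congrArg ULift.down (hz i)⟩
  choose r hr using hglue
  refine ⟨Finsupp.onFinset s (fun k => if k ∈ s then r k else 0) fun k hk => ?_, osect_ext _ a Y h hc fun i => ?_⟩
  · by_contra hks
    exact hk (if_neg hks)
  · rw [ores_ocomb, ← hc']
    congr 1
    ext k
    rw [Finsupp.mapRange_apply, Finsupp.onFinset_apply]
    split_ifs with hk
    · exact hr k i
    · rw [map_zero]
      exact (Finsupp.notMem_support_iff.1 fun hk' => hk (Finset.mem_biUnion.2 ⟨i, Finset.mem_univ i, hk'⟩)).symm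

end Groth.Agent.EtQCoh
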