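import Groth.Agent.AlgSpDec.EtStalkAb
import Groth.Agent.AlgSpDec.EtNbhdCofiltered
import Groth.Prelude.Def_AlgSpOX2
import Mathlib.CategoryTheory.Preadditive.Injective.Preserves

/-!
# Stalks of inverse images of abelian sheaves along representable morphisms of spaces
-/

set_option backward.isDefEq.respectTransparency false
set_option backward.isDefEq.respectTransparency.types false

set_option linter.style.haveILetI false

noncomputable section

universe u

open CategoryTheory CategoryTheory.Limits AlgebraicGeometry Opposite AlgSp Groth.Agent.AlgSpDec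

namespace Groth.Agent.EtQCoh.PullExact

variable {S : Scheme.{u}} {X Y : Sp S} {f : X ⟶ Y} (hf : Representable f) (p : FieldPt X)

theorem toHom_map : (p.map f).toHom = p.toHom ≫ f := FieldPt.toHom_map f p

section lifts

theorem toFun_prop (E : EtOver Y) (u : (FieldPt.liftsTo p).obj ((EtOver.bc hf).obj E)) :
    (yon S).map (u.1 ≫ EtOver.bcπ hf E) ≫ E.obj.hom = (p.map f).toHom := by
  have h : (yon S).map u.1 ≫ hf.fst E.obj.hom = p.toHom := u.2
  refine Eq.trans ?_ ((congrArg (· ≫ f) h).trans (toHom_map (f := f) p).symm)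
  refine Eq.trans ?_ (Category.assoc _ _ _).symm
  refine Eq.trans ?_ (congrArg ((yon S).map u.1 ≫ ·) (hf.w E.obj.hom).symm)
  exact (congrArg (· ≫ E.obj.hom) ((yon S).map_comp _ _)).trans (Category.assoc _ _ _)

/-- The lift to the base change given by a lift of the image. -/
def invLift (E : EtOver Y) (u : (FieldPt.liftsTo (p.map f)).obj E) : p.pt ⟶ (EtOver.bcObj hf E).obj.left :=
  hf.lift (g := E.obj.hom) (c := p.pt) p.toHom (u.1 : p.pt ⟶ E.obj.left)
    (show p.toHom ≫ f = (yon S).map (u.1 : p.pt ⟶ E.obj.left) ≫ E.obj.hom from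
      ((toHom_map (f := f) p).symm.trans u.2.symm :))

theorem invFun_prop (E : EtOver Y) (u : (FieldPt.liftsTo (p.map f)).obj E) :
    (yon S).map (invLift hf p E u) ≫ (EtOver.bcObj hf E).obj.hom = p.toHom :=
  Functor.relativelyRepresentable.lift_fst hf (g := E.obj.hom) (c := p.pt) p.toHom (u.1 : p.pt ⟶ E.obj.left) _

theorem invLift_snd (E : EtOver Y) (u : (FieldPt.liftsTo (p.map f)).obj E) :
    invLift hf p E u ≫ EtOver.bcπ hf E = u.1 :=
  Functor.relativelyRepresentable.lift_snd hf (g := E.obj.hom) (c := p.pt) p.toHom (u.1 : p.pt ⟶ E.obj.left) _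

theorem lifts_ext (E : EtOver Y) (u v : (FieldPt.liftsTo p).obj ((EtOver.bc hf).obj E))
    (h : u.1 ≫ EtOver.bcπ hf E = v.1 ≫ EtOver.bcπ hf E) : u = v := by
  have hu : (yon S).map u.1 ≫ hf.fst E.obj.hom = p.toHom := u.2
  have hv : (yon S).map v.1 ≫ hf.fst E.obj.hom = p.toHom := v.2
  exact Subtype.ext (hf.hom_ext (hu.trans hv.symm) h)

/-- Lifts of a point to a base change are lifts of its image. -/
def liftsEquiv (E : EtOver Y) :
    (FieldPt.liftsTo p).obj ((EtOver.bc hf).obj E) ≃ (FieldPt.liftsTo (p.map f)).obj E where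
  toFun u := ⟨u.1 ≫ EtOver.bcπ hf E, toFun_prop hf p E u⟩
  invFun u := ⟨invLift hf p E u, invFun_prop hf p E u⟩
  left_inv u := lifts_ext hf p E _ _ (invLift_snd hf p E _)
  right_inv u := Subtype.ext (invLift_snd hf p E u)

end lifts

theorem liftsEquiv_map {E E' : EtOver Y} (g : E ⟶ E') (u : (FieldPt.liftsTo p).obj ((EtOver.bc hf).obj E)) :
    liftsEquiv hf p E' ((FieldPt.liftsTo p).map ((EtOver.bc hf).map g) u) =
      (FieldPt.liftsTo (p.map f)).map g (liftsEquiv hf p E u) := by
  refine Subtype.ext ?_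
  show (u.1 ≫ (EtOver.bcMap hf g).hom.left) ≫ hf.snd E'.obj.hom = (u.1 ≫ hf.snd E.obj.hom) ≫ g.hom.left
  rw [Category.assoc, Category.assoc, EtOver.bcMap_snd]

/-- The fibre functor at a point pulled back along the base change. -/
def fiberIso : EtOver.bc hf ⋙ FieldPt.liftsTo p ≅ FieldPt.liftsTo (p.map f) :=
  NatIso.ofComponents (fun E => (liftsEquiv hf p E).toIso) fun {E E'} g => by
    ext u
    exact liftsEquiv_map hf p g u

variable (hX : IsAlgSpace X) (hY : IsAlgSpace Y) (hp : p.IsGeometric)

variable [HasColimitsOfSize.{u, u} AddCommGrpCat.{u + 1}]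

/-- Skyscrapers push forward to skyscrapers. -/
def skyscraperIso :
    (EtPoint.point hX p hp).skyscraperSheafFunctor ⋙ pushEt hf AddCommGrpCat.{u + 1} ≅
      (EtPoint.point hY (p.map f) hp).skyscraperSheafFunctor (A := AddCommGrpCat.{u + 1}) :=
  NatIso.ofComponents
    (fun M => (fullyFaithfulSheafToPresheaf _ _).preimageIso
      (Functor.isoWhiskerRight (NatIso.op (fiberIso hf p)).symm (piFunctor.{u}.obj M)))
    fun {M N} a => by
      refine Sheaf.hom_ext ?_
      ext ⟨E⟩ : 2
      refine Pi.hom_ext _ _ fun x => ?_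
      show (Limits.Pi.map (fun _ => a) ≫ Pi.map' (fun t => ((fiberIso hf p).inv.app E) t) fun _ => 𝟙 N) ≫ Pi.π (fun _ => N) x =
        ((Pi.map' (fun t => ((fiberIso hf p).inv.app E) t) fun _ => 𝟙 M) ≫ Limits.Pi.map fun _ => a) ≫ Pi.π (fun _ => N) x
      rw [Category.assoc, Category.assoc, Pi.map'_comp_π, Pi.map_π, Category.comp_id, Pi.map_π,
        ← Category.assoc, Pi.map'_comp_π, Category.comp_id]

/-- The stalk of an inverse image. -/
def pullStalkIso :
    (EtPoint.point hY (p.map f) hp).sheafFiber (A := AddCommGrpCat.{u + 1}) ≅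
      pullEt hf AddCommGrpCat.{u + 1} ⋙ (EtPoint.point hX p hp).sheafFiber :=
  (conjugateIsoEquiv ((pullPushAdjEt hf AddCommGrpCat.{u + 1}).comp (EtPoint.point hX p hp).skyscraperSheafAdjunction)
    (EtPoint.point hY (p.map f) hp).skyscraperSheafAdjunction).symm (skyscraperIso hf p hX hY hp)

omit [HasColimitsOfSize.{u, u} AddCommGrpCat.{u + 1}] hp p

include hX hY in
/-- Inverse images preserve monomorphisms. -/
theorem preservesMonomorphisms_pullEt : (pullEt hf AddCommGrpCat.{u + 1}).PreservesMonomorphisms := by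
  haveI : HasColimitsOfSize.{u, u} AddCommGrpCat.{u + 1} := hasColimitsOfSizeShrink.{u, u, u + 1, u + 1} _
  haveI : AB5OfSize.{u, u} AddCommGrpCat.{u + 1} := AB5OfSize_shrink.{u, u, u + 1, u + 1} _
  refine ⟨fun {G H} m _ => ?_⟩
  refine Preadditive.mono_of_kernel_zero (f := (pullEt hf AddCommGrpCat.{u + 1}).map m) ?_
  refine (EtStalkAb.isZero_of_stalks _ hX fun q hq => ?_).eq_of_src _ _
  haveI := EtPoint.preservesFiniteLimits_stalkEtFunctor AddCommGrpCat.{u + 1} hX hq
  haveI := EtPoint.preservesFiniteLimits_stalkEtFunctor AddCommGrpCat.{u + 1} hY (p := q.map f) hq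
  haveI hm : Mono ((stalkEtFunctor AddCommGrpCat.{u + 1} q).map ((pullEt hf AddCommGrpCat.{u + 1}).map m)) := by
    have h := NatTrans.naturality (pullStalkIso hf q hX hY hq).inv m
    have hh : (stalkEtFunctor AddCommGrpCat.{u + 1} q).map ((pullEt hf AddCommGrpCat.{u + 1}).map m) =
        (pullStalkIso hf q hX hY hq).inv.app G ≫
          (stalkEtFunctor AddCommGrpCat.{u + 1} (q.map f)).map m ≫ (pullStalkIso hf q hX hY hq).hom.app H := by
      refine Eq.symm ((Category.assoc _ _ _).symm.trans ((congrArg (· ≫ _) h.symm).trans ?_))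
      exact (Category.assoc _ _ _).trans
        ((congrArg (_ ≫ ·) ((pullStalkIso hf q hX hY hq).inv_hom_id_app H)).trans (Category.comp_id _))
    haveI : Mono ((stalkEtFunctor AddCommGrpCat.{u + 1} (q.map f)).map m) := inferInstance
    rw [hh]
    infer_instance
  haveI : (stalkEtFunctor AddCommGrpCat.{u + 1} q).Additive := Functor.additive_of_preserves_binary_products _
  exact AddCommGrpCat.subsingleton_of_isZero ((isZero_kernel_of_mono _).of_iso
    (PreservesKernel.iso (stalkEtFunctor AddCommGrpCat.{u + 1} q) ((pullEt hf AddCommGrpCat.{u + 1}).map m)))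

include hX hY in
/-- Direct images of injective abelian sheaves are injective. -/
theorem preservesInjectiveObjects_pushEt : (pushEt hf AddCommGrpCat.{u + 1}).PreservesInjectiveObjects :=
  haveI := preservesMonomorphisms_pullEt hf hX hY
  Functor.preservesInjectiveObjects_of_adjunction_of_preservesMonomorphisms (pullPushAdjEt hf AddCommGrpCat.{u + 1})

end Groth.Agent.EtQCoh.PullExact
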