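import Groth.Agent.EtQCoh.PushCoh
import Groth.Agent.EtQCoh.CechExact
import Groth.Agent.EtQCoh.PushAss
import Groth.Agent.EtQCoh5.Converse
import Groth.Agent.EtQCoh5.PushQcqs
import Groth.Agent.AlgSpDec.AffineRep
import Groth.Agent.AlgSpDec.LimDescentRep

/-!
# Direct images along affine morphisms
-/

set_option backward.isDefEq.respectTransparency false
set_option backward.isDefEq.respectTransparency.types false
set_option linter.style.haveILetI false

noncomputable section

universe u

open CategoryTheory CategoryTheory.Limits AlgebraicGeometry Opposite Abelian AlgSp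

namespace Groth.Agent.EtQCoh.PushAffine

open Groth.Agent.EtQCoh5 CartanEt Groth.Agent.AlgSpQ4.MV Groth.Agent.AlgSpDec

variable {S : Scheme.{u}} {X Y : Sp S} {f : X ⟶ Y} (hf : Representable f) (haff : IsAffineMor f)

include haff in
/-- Direct images along affine morphisms are exact on sequences with Čech acyclic first term. -/
theorem shortExact_map (Q : ShortComplex (AbEt X)) (hQ : Q.ShortExact) (h1 : IsCechAcyclic Q.X₁) :
    (Q.map (pushEt hf AddCommGrpCat.{u + 1})).ShortExact := by
  haveI := hQ.mono_f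
  haveI : LocallySmall.{u + 1} (EtOver Y) := ⟨fun _ _ => inferInstance⟩
  haveI : PreservesLimits (pushEt hf AddCommGrpCat.{u + 1}) :=
    (pullPushAdjEt hf AddCommGrpCat.{u + 1}).rightAdjoint_preservesLimits
  haveI : PreservesFiniteLimits (pushEt hf AddCommGrpCat.{u + 1}) := PreservesLimitsOfSize.preservesFiniteLimits _
  refine
    { exact := hQ.exact.map_of_mono_of_preservesKernel _ inferInstance inferInstance
      mono_f := inferInstanceAs (Mono ((pushEt hf AddCommGrpCat.{u + 1}).map Q.f))
      epi_g := ?_ }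
  refine (Sheaf.isLocallySurjective_iff_epi' AddCommGrpCat.{u + 1} ((pushEt hf AddCommGrpCat.{u + 1}).map Q.g)).1 ?_
  refine ⟨fun {E} s => ?_⟩
  obtain ⟨ι, V, hV, g, -, hc⟩ := exists_affine_open_cover E
  refine (etTop Y).superset_covering ?_ (Groth.Agent.AlgSpDec.ofArrows_mem_etTop V g hc)
  intro W k hk
  obtain ⟨i, a, rfl⟩ := (Sieve.mem_ofArrows_iff _ _ _).1 hk
  haveI := hV i
  haveI := isAffine_bc hf haff (V i)
  obtain ⟨t, ht⟩ := sections_surjective Q hQ h1 (V := (EtOver.bc hf).obj (V i))
    ((Q.X₃.obj.map ((EtOver.bc hf).map (g i)).op).hom s)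
  refine ⟨(Q.X₂.obj.map ((EtOver.bc hf).map a).op).hom t, ?_⟩
  show (Q.g.hom.app _).hom ((Q.X₂.obj.map ((EtOver.bc hf).map a).op).hom t) =
    (Q.X₃.obj.map ((EtOver.bc hf).map (a ≫ g i)).op).hom s
  rw [(EtOver.bc hf).map_comp, op_comp, Functor.map_comp]
  exact (ConcreteCategory.congr_hom (Q.g.hom.naturality ((EtOver.bc hf).map a).op) t).trans
    (congrArg (Q.X₃.obj.map ((EtOver.bc hf).map a).op).hom ht)

include haff in
/-- Cohomology of the direct image of a Čech acyclic sheaf along an affine morphism. -/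
theorem nonempty_HEt_equiv (hX : IsAlgSpace X) (hY : IsAlgSpace Y) (F : AbEt X) (hF : IsCechAcyclic F) (n : ℕ) :
    Nonempty (HEt X F n ≃+ HEt Y ((pushEt hf AddCommGrpCat.{u + 1}).obj F) n) := by
  haveI := PullExact.preservesInjectiveObjects_pushEt hf hX hY
  exact PushCoh.nonempty_ext_equiv (pushEt hf AddCommGrpCat.{u + 1}) (PushCoh.cst X) (PushCoh.cst Y)
    (PushCoh.e₀ hf hX hY) (PushCoh.e₀_naturality hf hX hY) IsCechAcyclic (fun I _ => isCechAcyclic_of_injective I)
    (fun Q hQ => isCechAcyclic_X₃ Q hQ) (shortExact_map hf haff) n F hF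

end Groth.Agent.EtQCoh.PushAffine

namespace Groth.Agent.EtQCoh.PushAffine

variable {S : Scheme.{u}} {X Y : Sp S} {f : X ⟶ Y} (hf : Representable f) (haff : IsAffineMor f)

open Groth.Agent.AlgSpDec in
include haff in
theorem isQuasicoherent_push (M : ModEt X) [M.IsQuasicoherent] : ((pushModEt hf).obj M).IsQuasicoherent :=
  have h := repWith_isAffineHom_of_isAffineMor haff
  Groth.Agent.EtQCoh5.isQuasicoherent_pushModEt hf M
    (Groth.Agent.AlgSpPts.isQuasiCompactMor_of_repWith
      (Groth.Agent.AlgSpLib.repWith_mono (fun _ _ g (_ : IsAffineHom g) => (inferInstance : QuasiCompact g)) _ h))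
    (isQuasiSeparatedMor_of_isSeparatedMor (isSeparatedMor_of_repWith_affine h))

end Groth.Agent.EtQCoh.PushAffine
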