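import Groth.Agent.EtQCoh5.Annihilated
import Groth.Agent.EtQCoh.FinitePres

/-!
# Coherent modules and direct images along closed immersions
-/

set_option backward.isDefEq.respectTransparency false
set_option backward.isDefEq.respectTransparency.types false
set_option linter.style.haveILetI false

noncomputable section

universe u

open CategoryTheory CategoryTheory.Limits AlgebraicGeometry Opposite AlgSp TensorProduct

namespace Groth.Agent.EtQCoh

open Groth.Agent.AlgSpQ4.MV Groth.Agent.AlgSpDec Groth.Agent.EtQCoh5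

variable {S : Scheme.{u}} {Z X : Sp S} {i : Z ⟶ X} (hi : RepWith @IsClosedImmersion i)

theorem cartMap_push (G : ModEt Z) {E T : EtOver X} [IsAffine E.obj.left.left] [IsAffine T.obj.left.left] (g : T ⟶ E)
    (h : CartMap G ((EtOver.bc hi.1).map g)) : CartMap ((pushModEt hi.1).obj G) g := by
  let := (pb g).toAlgebra; let := (piB hi E).toAlgebra; let := (piB hi T).toAlgebra
  let := (pb ((EtOver.bc hi.1).map g)).toAlgebra
  let := ((piB hi T).comp (pb g)).toAlgebra
  let : Module (gam E) (sectModEt G (bo hi E)) := Module.compHom _ (piB hi E)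
  haveI : IsScalarTower (gam E) (gam T) (gam (bo hi T)) := .of_algebraMap_eq fun _ => rfl
  haveI : IsScalarTower (gam E) (gam (bo hi E)) (gam (bo hi T)) :=
    .of_algebraMap_eq fun a => (piB_naturality hi g a).symm
  haveI : IsScalarTower (gam E) (gam (bo hi E)) (sectModEt G (bo hi E)) := ⟨fun a b x => by
    show (piB hi E a * b) • x = piB hi E a • b • x
    rw [mul_smul]⟩
  haveI := isPushout_bo hi g
  let c := Algebra.IsPushout.cancelBaseChange (gam E) (gam T) (gam (bo hi E)) (gam (bo hi T)) (sectModEt G (bo hi E))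
  let idE : sectModEt ((pushModEt hi.1).obj G) E ≃ₗ[gam E] sectModEt G (bo hi E) :=
    { toFun := fun x => x
      invFun := fun x => x
      map_add' := fun _ _ => rfl
      map_smul' := fun a x => smul_push hi G E a x
      left_inv := fun _ => rfl
      right_inv := fun _ => rfl }
  let d := (idE.lTensor (gam T)).toAddEquiv.trans c.symm.toAddEquiv
  have key : ∀ t, θ ((pushModEt hi.1).obj G) g t = θ G ((EtOver.bc hi.1).map g) (d t) := fun t => by
    refine tensor_addHom_ext (f := θ ((pushModEt hi.1).obj G) g)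
      (g := (θ G ((EtOver.bc hi.1).map g)).comp d.toAddMonoidHom) (fun r x => ?_) t
    show θ ((pushModEt hi.1).obj G) g (r ⊗ₜ[gam E] x) = θ G ((EtOver.bc hi.1).map g) (c.symm (r ⊗ₜ[gam E] idE x))
    rw [Algebra.IsPushout.cancelBaseChange_symm_tmul, θ_tmul, θ_tmul]
    exact smul_push hi G T r _
  show Function.Bijective (θ ((pushModEt hi.1).obj G) g)
  rw [show (θ ((pushModEt hi.1).obj G) g : _ → _) = (θ G ((EtOver.bc hi.1).map g) : _ → _) ∘ d from funext key]
  exact h.comp d.bijective

theorem isQuasicoherent_pushClosed (G : ModEt Z) [G.IsQuasicoherent] : ((pushModEt hi.1).obj G).IsQuasicoherent := by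
  refine isQuasicoherent_of_cartAt fun E hE T hT g => cartMap_push hi G g ?_
  have := (isAffine_bo hi E).1
  have := (isAffine_bo hi T).1
  exact θ_bijective G _

theorem finite_sect_push (G : ModEt Z) [G.IsQuasicoherent] [G.IsFiniteType] (E : EtOver X)
    [IsAffine E.obj.left.left] : Module.Finite (gam E) (sectModEt ((pushModEt hi.1).obj G) E) := by
  obtain ⟨hA, hs⟩ := isAffine_bo hi E
  have := hA
  obtain ⟨s, hs'⟩ := (finite_sect G (bo hi E)).fg_top
  let s₁ : Finset (sectModEt ((pushModEt hi.1).obj G) E) := s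
  refine ⟨⟨s₁, eq_top_iff.2 fun x _ => ?_⟩⟩
  have hx : (x : sectModEt G (bo hi E)) ∈ Submodule.span (gam (bo hi E)) (s : Set (sectModEt G (bo hi E))) :=
    hs'.symm ▸ trivial
  let K : Submodule (gam E) (sectModEt ((pushModEt hi.1).obj G) E) :=
    Submodule.span (gam E) (↑s₁ : Set (sectModEt ((pushModEt hi.1).obj G) E))
  suffices H : ∀ y ∈ Submodule.span (gam (bo hi E)) (s : Set (sectModEt G (bo hi E))),
      (y : sectModEt ((pushModEt hi.1).obj G) E) ∈ K from H _ hx
  intro y hy
  induction hy using Submodule.span_induction with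
  | mem y hy => exact Submodule.subset_span hy
  | zero => exact K.zero_mem
  | add a b _ _ ha hb => exact K.add_mem ha hb
  | smul r a _ ha =>
    obtain ⟨c, rfl⟩ := hs r
    exact K.smul_mem c ha

theorem isFinitePresentation_push (hN : IsLocNoethSp X) (G : ModEt Z) [G.IsFinitePresentation] :
    ((pushModEt hi.1).obj G).IsFinitePresentation := by
  have := isQuasicoherent_pushClosed hi G
  exact isFinitePresentation_of_finite hN _ fun E hE => finite_sect_push hi G E

theorem finite_sect_of_push (hX : IsAlgSpace X) (G : ModEt Z) [G.IsQuasicoherent] (M : ModEt X) [M.IsQuasicoherent]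
    [M.IsFiniteType] (e : (pushModEt hi.1).obj G ≅ M) (V : EtOver Z) [IsAffine V.obj.left.left] :
    Module.Finite (gam V) (sectModEt G V) := by
  obtain ⟨ι, E, hE, l, hc⟩ := exists_bc_affine_cover hi hX V
  obtain ⟨ι', hι', F, hF, f, hm, hcov⟩ := exists_cover_of_sieve (T := V)
    (fun W a => ∃ (j : ι) (b : W ⟶ bo hi (E j)), b ≫ l j = a)
    (fun W W' a b ⟨j, c, hc⟩ => ⟨j, b ≫ c, by rw [Category.assoc, hc]⟩) (fun x => by
      obtain ⟨j, hj⟩ := hc x
      exact ⟨_, l j, hj, j, 𝟙 _, Category.id_comp _⟩)
  letI := fun i => (pb (f i)).toAlgebra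
  refine finite_of_cover (isCoverAlg_of_cover F f hcov) fun q => ?_
  obtain ⟨j, b, -⟩ := hm q
  have := hE j
  have := hF q
  have := (isAffine_bo hi (E j)).1
  have h1 : Module.Finite (gam (bo hi (E j))) (sectModEt G (bo hi (E j))) := by
    obtain ⟨s, hs⟩ := (finite_sect M (E j)).fg_top
    classical
    let t : Finset (sectModEt G (bo hi (E j))) :=
      s.image (β := sectModEt G (bo hi (E j))) fun m => e.inv.val.app (op (E j)) m
    refine ⟨⟨t, eq_top_iff.2 fun y _ => ?_⟩⟩
    let K : Submodule (gam (bo hi (E j))) (sectModEt G (bo hi (E j))) := Submodule.span _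
      (↑t : Set (sectModEt G (bo hi (E j))))
    suffices H : ∀ m ∈ Submodule.span (gam (E j)) (s : Set (sectModEt M (E j))),
        (e.inv.val.app (op (E j)) m : sectModEt G (bo hi (E j))) ∈ K by
      have hy : e.inv.val.app (op (E j)) (e.hom.val.app (op (E j)) y) = y :=
        congrArg (fun k : (pushModEt hi.1).obj G ⟶ (pushModEt hi.1).obj G => k.val.app (op (E j)) y) e.hom_inv_id
      rw [← hy]
      exact H _ (hs.ge Submodule.mem_top)
    intro m hm
    induction hm using Submodule.span_induction with
    | mem m hm => exact Submodule.subset_span (Finset.mem_coe.2 (Finset.mem_image_of_mem _ hm))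
    | zero => rw [map_zero]; exact K.zero_mem
    | add a b _ _ ha hb => rw [map_add]; exact K.add_mem ha hb
    | smul r a _ ha =>
      rw [app_smul e.inv r a, smul_push]
      exact K.smul_mem _ ha
  letI := (pb b).toAlgebra
  have h2 : Module.Finite (gam (F q)) (sectModEt G (F q)) :=
    Module.Finite.equiv (LinearEquiv.ofBijective (θLin G b) (θ_bijective G b))
  exact Module.Finite.equiv (LinearEquiv.ofBijective (θLin G (f q)) (θ_bijective G (f q))).symm

theorem exists_push_iso_fp (hX : IsAlgSpace X) (hZN : IsLocNoethSp Z) (M : ModEt X) [M.IsFinitePresentation]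
    (hM : Kills hi M) : ∃ G : ModEt Z, G.IsFinitePresentation ∧ Nonempty ((pushModEt hi.1).obj G ≅ M) := by
  obtain ⟨G, hG, ⟨e⟩⟩ := exists_push_iso hi hX hM
  exact ⟨G, isFinitePresentation_of_finite hZN G fun V hV => finite_sect_of_push hi hX G M e V, ⟨e⟩⟩

end Groth.Agent.EtQCoh
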