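import Groth.Agent.EtQCoh.PushConst
import Mathlib.Algebra.Homology.DerivedCategory.Ext.EnoughInjectives
import Mathlib.GroupTheory.QuotientGroup.Basic
import Mathlib.CategoryTheory.Abelian.GrothendieckCategory.EnoughInjectives

/-!
# Cohomology of direct images
-/

set_option backward.isDefEq.respectTransparency false
set_option backward.isDefEq.respectTransparency.types false
set_option linter.style.haveILetI false

noncomputable section

universe u

open CategoryTheory CategoryTheory.Limits AlgebraicGeometry Opposite Abelian AlgSp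

namespace Groth.Agent.EtQCoh.PushCoh

section general

universe w v v' u₁ u₂

variable {C : Type u₁} [Category.{v} C] [Abelian C] {D : Type u₂} [Category.{v'} D] [Abelian D]
  [HasExt.{w} C] [HasExt.{w} D]

/-- The connecting map in degree one. -/
def delta {Z : C} {Q : ShortComplex C} (hQ : Q.ShortExact) : (Z ⟶ Q.X₃) →+ Ext Z Q.X₁ 1 :=
  AddMonoidHom.mk' (fun φ => (Ext.mk₀ φ).comp hQ.extClass (zero_add 1)) fun a b => by rw [Ext.mk₀_add, Ext.add_comp]

theorem delta_surjective {Z : C} {Q : ShortComplex C} (hQ : Q.ShortExact) [Injective Q.X₂] :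
    Function.Surjective (delta (Z := Z) hQ) := fun x => by
  obtain ⟨z, rfl⟩ := Ext.covariant_sequence_exact₁ _ hQ x (Ext.eq_zero_of_injective _) (rfl : 0 + 1 = 1)
  obtain ⟨φ, rfl⟩ := (Ext.mk₀_bijective _ _).2 z
  exact ⟨φ, rfl⟩

theorem delta_eq_zero_iff {Z : C} {Q : ShortComplex C} (hQ : Q.ShortExact) (φ : Z ⟶ Q.X₃) :
    delta hQ φ = 0 ↔ ∃ ψ : Z ⟶ Q.X₂, ψ ≫ Q.g = φ := by
  refine ⟨fun h => ?_, ?_⟩
  · obtain ⟨z, hz⟩ := Ext.covariant_sequence_exact₃ _ hQ (Ext.mk₀ φ) (rfl : 0 + 1 = 1) h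
    obtain ⟨ψ, rfl⟩ := (Ext.mk₀_bijective _ _).2 z
    rw [Ext.mk₀_comp_mk₀] at hz
    exact ⟨ψ, (Ext.mk₀_bijective _ _).1 hz⟩
  · rintro ⟨ψ, rfl⟩
    show (Ext.mk₀ (ψ ≫ Q.g)).comp hQ.extClass (zero_add 1) = 0
    rw [← Ext.mk₀_comp_mk₀, Ext.comp_assoc_of_second_deg_zero, hQ.comp_extClass, Ext.comp_zero]

theorem shift_bijective (Z : C) {Q : ShortComplex C} (hQ : Q.ShortExact) [Injective Q.X₂] (n : ℕ) :
    Function.Bijective (hQ.extClass.postcomp Z (rfl : (n + 1) + 1 = n + 1 + 1)) := by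
  refine ⟨fun a b hab => ?_, fun x => ?_⟩
  · refine sub_eq_zero.1 ?_
    obtain ⟨z, hz⟩ := Ext.covariant_sequence_exact₃ _ hQ (a - b) (rfl : (n + 1) + 1 = _)
      ((map_sub (hQ.extClass.postcomp Z (rfl : (n + 1) + 1 = n + 1 + 1)) a b).trans (sub_eq_zero.2 hab))
    rw [← hz, Ext.eq_zero_of_injective z, Ext.zero_comp]
  · obtain ⟨z, hz⟩ := Ext.covariant_sequence_exact₁ _ hQ x (Ext.eq_zero_of_injective _) (rfl : (n + 1) + 1 = _)
    exact ⟨z, hz⟩

variable [EnoughInjectives C] (P : C ⥤ D) [P.Additive] (Z : C) (Z' : D)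
  (e : ∀ F : C, (Z ⟶ F) ≃+ (Z' ⟶ P.obj F))
  (he : ∀ (F G : C) (g : F ⟶ G) (φ : Z ⟶ F), e G (φ ≫ g) = e F φ ≫ P.map g)
  (K : C → Prop) (hinj : ∀ (I : C) [Injective I], K I)
  (hK : ∀ Q : ShortComplex C, Q.ShortExact → K Q.X₁ → K Q.X₂ → K Q.X₃)
  (hP : ∀ Q : ShortComplex C, Q.ShortExact → K Q.X₁ → (Q.map P).ShortExact)
  [P.PreservesInjectiveObjects]

include he hinj hK hP in
/-- Ext groups against direct images of acyclic objects. -/
theorem nonempty_ext_equiv (n : ℕ) (F : C) (hF : K F) :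
    Nonempty (Ext Z F n ≃+ Ext Z' (P.obj F) n) := by
  induction n generalizing F with
  | zero => exact ⟨(Ext.addEquiv₀.trans (e F)).trans Ext.addEquiv₀.symm⟩
  | succ n ih =>
    let Q := ShortComplex.mk (Injective.ι F) (cokernel.π _) (cokernel.condition (Injective.ι F))
    have hQ : Q.ShortExact := { exact := ShortComplex.exact_of_g_is_cokernel _ (cokernelIsCokernel _) }
    haveI hI : Injective Q.X₂ := inferInstanceAs (Injective (Injective.under F))
    have hQ' : (Q.map P).ShortExact := hP Q hQ hF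
    haveI : Injective (Q.map P).X₂ := P.injective_obj Q.X₂
    cases n with
    | zero =>
      have hk : (delta (Z := Z) hQ).ker = ((delta (Z := Z') hQ').comp (e Q.X₃).toAddMonoidHom).ker := by
        ext φ
        simp only [AddMonoidHom.mem_ker, AddMonoidHom.coe_comp, Function.comp_apply, delta_eq_zero_iff]
        constructor
        · rintro ⟨ψ, rfl⟩
          exact ⟨e _ ψ, (he _ _ _ _).symm⟩
        · rintro ⟨ψ, hψ⟩
          obtain ⟨ψ, rfl⟩ := (e Q.X₂).surjective ψ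
          exact ⟨ψ, (e Q.X₃).injective ((he _ _ _ _).trans hψ)⟩
      exact ⟨((QuotientAddGroup.quotientKerEquivOfSurjective _ (delta_surjective hQ)).symm.trans
        (QuotientAddGroup.quotientAddEquivOfEq hk)).trans
          (QuotientAddGroup.quotientKerEquivOfSurjective ((delta (Z := Z') hQ').comp (e Q.X₃).toAddMonoidHom)
            ((delta_surjective hQ').comp (e Q.X₃).surjective))⟩
    | succ n =>
      obtain ⟨a⟩ := ih Q.X₃ (hK Q hQ hF (hinj Q.X₂))
      exact ⟨((AddEquiv.ofBijective _ (shift_bijective Z hQ n)).symm.trans a).trans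
        (AddEquiv.ofBijective _ (shift_bijective Z' hQ' n))⟩

end general

variable {S : Scheme.{u}} {X Y : Sp S} {f : X ⟶ Y} (hf : Representable f) (hX : IsAlgSpace X) (hY : IsAlgSpace Y)

/-- The constant sheaf computing global sections. -/
abbrev cst (X : Sp S) : AbEt X :=
  (constantSheaf (etTop X) AddCommGrpCat.{u + 1}).obj (AddCommGrpCat.of (ULift.{u + 1} ℤ))

/-- The constant presheaf. -/
abbrev cstP (X : Sp S) : (EtOver X)ᵒᵖ ⥤ AddCommGrpCat.{u + 1} :=
  (Functor.const (EtOver X)ᵒᵖ).obj (AddCommGrpCat.of (ULift.{u + 1} ℤ))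

/-- Maps out of the constant sheaf. -/
def cstHom (X : Sp S) (F : AbEt X) : (cst X ⟶ F) ≃+ (cstP X ⟶ F.obj) :=
  (sheafificationAdjunction (etTop X) AddCommGrpCat.{u + 1}).homAddEquiv (cstP X) F

theorem cstHom_naturality (X : Sp S) {F G : AbEt X} (g : F ⟶ G) (φ : cst X ⟶ F) :
    cstHom X G (φ ≫ g) = cstHom X F φ ≫ g.hom :=
  (sheafificationAdjunction (etTop X) AddCommGrpCat.{u + 1}).homEquiv_naturality_right φ g

include hX hY in
theorem restr_bij (F : AbEt X) : Function.Bijective (PushConst.restr hf (AddCommGrpCat.of (ULift.{u + 1} ℤ)) F) :=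
  PushConst.restr_bijective hf hX hY

/-- Global sections of a direct image. -/
def e₀ (F : AbEt X) : (cst X ⟶ F) ≃+ (cst Y ⟶ (pushEt hf AddCommGrpCat.{u + 1}).obj F) :=
  (cstHom X F).trans ((AddEquiv.ofBijective (AddMonoidHom.mk' (PushConst.restr hf _ F) fun _ _ => rfl)
    (restr_bij hf hX hY F)).trans (cstHom Y ((pushEt hf AddCommGrpCat.{u + 1}).obj F)).symm)

theorem cstHom_e₀ (F : AbEt X) (φ : cst X ⟶ F) :
    cstHom Y _ (e₀ hf hX hY F φ) = PushConst.restr hf _ F (cstHom X F φ) :=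
  (cstHom Y _).apply_symm_apply _

theorem e₀_naturality (F G : AbEt X) (g : F ⟶ G) (φ : cst X ⟶ F) :
    e₀ hf hX hY G (φ ≫ g) = e₀ hf hX hY F φ ≫ (pushEt hf AddCommGrpCat.{u + 1}).map g := by
  refine (cstHom Y _).injective ?_
  rw [cstHom_naturality, cstHom_e₀, cstHom_e₀, cstHom_naturality]
  rfl

end Groth.Agent.EtQCoh.PushCoh
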