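import Groth.Agent.EtQCoh.PullExact
import Groth.Agent.AlgSpDec.EtPointConservative
import Mathlib.CategoryTheory.Sites.ConstantSheaf

/-!
# Maps out of constant sheaves and direct images
-/

set_option backward.isDefEq.respectTransparency false
set_option backward.isDefEq.respectTransparency.types false

noncomputable section

universe u

open CategoryTheory CategoryTheory.Limits AlgebraicGeometry Opposite AlgSp Groth.Agent.AlgSpDec

namespace Groth.Agent.EtQCoh.PushConst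

open PullExact

variable {S : Scheme.{u}} {X Y : Sp S} {f : X ⟶ Y} (hf : Representable f) (A : AddCommGrpCat.{u + 1})

/-- Restriction of a family of sections to base changes. -/
def restr (F : AbEt X) (s : (Functor.const (EtOver X)ᵒᵖ).obj A ⟶ F.obj) :
    (Functor.const (EtOver Y)ᵒᵖ).obj A ⟶ ((pushEt hf AddCommGrpCat.{u + 1}).obj F).obj :=
  Functor.whiskerLeft (EtOver.bc hf).op s

theorem restr_app (F : AbEt X) (s : (Functor.const (EtOver X)ᵒᵖ).obj A ⟶ F.obj) (E : EtOver Y) (a : A) :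
    ((restr hf A F s).app (op E)).hom a = (s.app (op ((EtOver.bc hf).obj E))).hom a := rfl

section glue

variable (F : AbEt X)

theorem sections_ext (hX : IsAlgSpace X) {U : EtOver X} {x y : F.obj.obj (op U)}
    (h : ∀ p : FieldPt X, p.IsGeometric → ∀ l : (FieldPt.liftsTo p).obj U,
      ∃ (V : EtNbhd p) (g : V ⟶ ⟨U, l⟩), (F.obj.map g.val.op).hom x = (F.obj.map g.val.op).hom y) : x = y := by
  have hT := EtPoint.mem_etTop_of_lifts hX (Presheaf.equalizerSieve (F := F.obj) (X := op U) x y) fun p hp l => by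
    obtain ⟨V, g, hg⟩ := h p hp l
    exact ⟨V.1, g.val, hg, V.2, g.property⟩
  exact ((((isSheaf_iff_isSheaf_of_type _ _).1
    ((Presheaf.isSheaf_iff_isSheaf_forget (etTop X) F.obj (CategoryTheory.forget AddCommGrpCat.{u + 1})).1 F.2))).isSeparated
      _ hT).ext fun V g hg => hg

end glue

variable (hX : IsAlgSpace X) (hY : IsAlgSpace Y) (F : AbEt X)

include hX hY

/-- Neighbourhoods in the source are refined by base changes. -/
theorem exists_nbhd_bc {p : FieldPt X} (hp : p.IsGeometric) (N : EtNbhd p) :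
    ∃ (E : EtNbhd (p.map f)) (V : EtNbhd p) (_ : V ⟶ N),
      Nonempty (V ⟶ (⟨(EtOver.bc hf).obj E.1, (liftsEquiv hf p E.1).symm E.2⟩ : EtNbhd p)) := by
  obtain ⟨E⟩ := exists_etNbhd (p.map f) hY hp
  obtain ⟨V, a, b, -⟩ := exists_cone_obj p N (⟨(EtOver.bc hf).obj E.1, (liftsEquiv hf p E.1).symm E.2⟩ : EtNbhd p)
  exact ⟨E, V, a, ⟨b⟩⟩

theorem restr_injective : Function.Injective (restr hf A F) := fun s t h => by
  refine NatTrans.ext (funext fun U => ?_)
  obtain ⟨U⟩ := U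
  refine AddCommGrpCat.hom_ext (AddMonoidHom.ext fun a => sections_ext F hX fun p hp l => ?_)
  obtain ⟨E, V, g, ⟨b⟩⟩ := exists_nbhd_bc hf hX hY hp ⟨U, l⟩
  refine ⟨V, g, ?_⟩
  have e : ∀ r : (Functor.const (EtOver X)ᵒᵖ).obj A ⟶ F.obj,
      (F.obj.map g.val.op).hom ((r.app (op U)).hom a) =
        (F.obj.map b.val.op).hom ((r.app (op ((EtOver.bc hf).obj E.1))).hom a) := fun r =>
    (ConcreteCategory.congr_hom (r.naturality g.val.op) a).symm.trans (ConcreteCategory.congr_hom (r.naturality b.val.op) a)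
  rw [e, e, ← restr_app, ← restr_app, h]

variable {A F}

theorem value_indep (t : (Functor.const (EtOver Y)ᵒᵖ).obj A ⟶ ((pushEt hf AddCommGrpCat.{u + 1}).obj F).obj) (a : A)
    {p : FieldPt X} (hp : p.IsGeometric) {V : EtNbhd p} {E₁ E₂ : EtOver Y}
    (g₁ : V.1 ⟶ (EtOver.bc hf).obj E₁) (g₂ : V.1 ⟶ (EtOver.bc hf).obj E₂) :
    ∃ (W : EtNbhd p) (h : W ⟶ V), (F.obj.map (h.val ≫ g₁).op).hom ((t.app (op E₁)).hom a) =
      (F.obj.map (h.val ≫ g₂).op).hom ((t.app (op E₂)).hom a) := by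
  haveI := isCofiltered_etNbhd p hX hp
  let N₁ : EtNbhd (p.map f) := ⟨E₁, liftsEquiv hf p E₁ ((FieldPt.liftsTo p).map g₁ V.2)⟩
  let N₂ : EtNbhd (p.map f) := ⟨E₂, liftsEquiv hf p E₂ ((FieldPt.liftsTo p).map g₂ V.2)⟩
  obtain ⟨E, a₁, a₂, -⟩ := exists_cone_obj (p.map f) N₁ N₂
  let M : EtNbhd p := ⟨(EtOver.bc hf).obj E.1, (liftsEquiv hf p E.1).symm E.2⟩
  let M₁ : EtNbhd p := ⟨(EtOver.bc hf).obj E₁, (FieldPt.liftsTo p).map g₁ V.2⟩
  let M₂ : EtNbhd p := ⟨(EtOver.bc hf).obj E₂, (FieldPt.liftsTo p).map g₂ V.2⟩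
  let b₁ : M ⟶ M₁ := CategoryOfElements.homMk _ _ ((EtOver.bc hf).map a₁.val) ((liftsEquiv hf p E₁).injective (by
    rw [liftsEquiv_map, Equiv.apply_symm_apply]
    exact a₁.property))
  let b₂ : M ⟶ M₂ := CategoryOfElements.homMk _ _ ((EtOver.bc hf).map a₂.val) ((liftsEquiv hf p E₂).injective (by
    rw [liftsEquiv_map, Equiv.apply_symm_apply]
    exact a₂.property))
  let c₁ : V ⟶ M₁ := CategoryOfElements.homMk _ _ g₁ rfl
  let c₂ : V ⟶ M₂ := CategoryOfElements.homMk _ _ g₂ rfl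
  obtain ⟨P, q, r, -⟩ := exists_cone_obj p V M
  let e₁ := IsCofiltered.eqHom (q ≫ c₁) (r ≫ b₁)
  let e₂ := IsCofiltered.eqHom (e₁ ≫ q ≫ c₂) (e₁ ≫ r ≫ b₂)
  refine ⟨_, e₂ ≫ e₁ ≫ q, ?_⟩
  have h₁ : (e₂ ≫ e₁ ≫ q).val ≫ g₁ = (e₂ ≫ e₁ ≫ r).val ≫ (EtOver.bc hf).map a₁.val :=
    congrArg Subtype.val (show (e₂ ≫ e₁ ≫ q) ≫ c₁ = (e₂ ≫ e₁ ≫ r) ≫ b₁ by
      simp only [Category.assoc]
      rw [IsCofiltered.eq_condition (q ≫ c₁) (r ≫ b₁)])
  have h₂ : (e₂ ≫ e₁ ≫ q).val ≫ g₂ = (e₂ ≫ e₁ ≫ r).val ≫ (EtOver.bc hf).map a₂.val :=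
    congrArg Subtype.val (show (e₂ ≫ e₁ ≫ q) ≫ c₂ = (e₂ ≫ e₁ ≫ r) ≫ b₂ by
      simp only [Category.assoc]
      exact IsCofiltered.eq_condition _ _)
  rw [h₁, h₂, op_comp, op_comp, F.obj.map_comp, F.obj.map_comp]
  refine congrArg (F.obj.map (e₂ ≫ e₁ ≫ r).val.op).hom ?_
  exact (ConcreteCategory.congr_hom (t.naturality a₁.val.op) a).symm.trans
    (ConcreteCategory.congr_hom (t.naturality a₂.val.op) a)

/-- The sieve of objects mapping to base changes. -/
def bcSieve (U : EtOver X) : Sieve U where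
  arrows V _ := ∃ E : EtOver Y, Nonempty (V ⟶ (EtOver.bc hf).obj E)
  downward_closed := fun {_ _ _} ⟨E, ⟨g⟩⟩ h => ⟨E, ⟨h ≫ g⟩⟩

theorem bcSieve_mem (U : EtOver X) : bcSieve hf U ∈ etTop X U :=
  EtPoint.mem_etTop_of_lifts hX _ fun p hp l => by
    obtain ⟨E, V, a, ⟨b⟩⟩ := exists_nbhd_bc hf hX hY hp ⟨U, l⟩
    exact ⟨V.1, a.val, ⟨E.1, ⟨b.val⟩⟩, V.2, a.property⟩

theorem restr_surjective : Function.Surjective (restr hf A F) := fun t => by
  have hs := ((isSheaf_iff_isSheaf_of_type _ _).1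
    ((Presheaf.isSheaf_iff_isSheaf_forget (etTop X) F.obj (CategoryTheory.forget AddCommGrpCat.{u + 1})).1 F.2))
  have key : ∀ (U : EtOver X) (a : A), ∃ x : F.obj.obj (op U), ∀ (V : EtOver X) (g : V ⟶ U) (E : EtOver Y)
      (b : V ⟶ (EtOver.bc hf).obj E), (F.obj.map g.op).hom x = (F.obj.map b.op).hom ((t.app (op E)).hom a) := by
    intro U a
    have indep : ∀ (V : EtOver X) (E₁ E₂ : EtOver Y) (b₁ : V ⟶ (EtOver.bc hf).obj E₁)
        (b₂ : V ⟶ (EtOver.bc hf).obj E₂),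
        (F.obj.map b₁.op).hom ((t.app (op E₁)).hom a) = (F.obj.map b₂.op).hom ((t.app (op E₂)).hom a) :=
      fun V E₁ E₂ b₁ b₂ => sections_ext F hX fun p hp l => by
        obtain ⟨W, h, hh⟩ := value_indep hf hX hY t a hp (V := ⟨V, l⟩) b₁ b₂
        refine ⟨W, h, ?_⟩
        rw [op_comp, op_comp, F.obj.map_comp, F.obj.map_comp] at hh
        exact hh
    let x : Presieve.FamilyOfElements (F.obj ⋙ CategoryTheory.forget AddCommGrpCat.{u + 1}) (bcSieve hf U).arrows :=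
      fun V g hg => (F.obj.map hg.choose_spec.some.op).hom ((t.app (op hg.choose)).hom a)
    have hx : x.Compatible := by
      intro V₁ V₂ W g₁ g₂ k₁ k₂ h₁ h₂ _
      have e := indep W _ _ (g₁ ≫ h₁.choose_spec.some) (g₂ ≫ h₂.choose_spec.some)
      rw [op_comp, op_comp, F.obj.map_comp, F.obj.map_comp] at e
      exact e
    refine ⟨(hs _ (bcSieve_mem hf hX hY U)).amalgamate x hx, fun V g E b => ?_⟩
    have hg : (bcSieve hf U).arrows g := ⟨E, ⟨b⟩⟩
    exact ((hs _ (bcSieve_mem hf hX hY U)).valid_glue hx g hg).trans (indep V _ _ _ b)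
  choose x hx using key
  have uniq : ∀ (U : EtOver X) (a : A) (y : F.obj.obj (op U)), (∀ (V : EtOver X) (g : V ⟶ U) (E : EtOver Y)
      (b : V ⟶ (EtOver.bc hf).obj E), (F.obj.map g.op).hom y = (F.obj.map b.op).hom ((t.app (op E)).hom a)) →
      x U a = y := fun U a y hy =>
    ((hs _ (bcSieve_mem hf hX hY U)).isSeparatedFor.ext fun V g ⟨E, ⟨b⟩⟩ => (hx U a V g E b).trans (hy V g E b).symm)
  let s : (Functor.const (EtOver X)ᵒᵖ).obj A ⟶ F.obj :=
    { app := fun U => AddCommGrpCat.ofHom (AddMonoidHom.mk' (fun a => x U.unop a) fun a b => uniq _ _ _ fun V g E c => by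
        rw [map_add, hx _ a V g E c, hx _ b V g E c]
        exact (map_add _ _ _).symm.trans (congrArg _ (map_add _ a b).symm))
      naturality := fun U U' h => AddCommGrpCat.hom_ext (AddMonoidHom.ext fun a => uniq U'.unop a _ fun V g E b => by
        refine Eq.trans ?_ (hx U.unop a V (g ≫ h.unop) E b)
        exact (ConcreteCategory.congr_hom (F.obj.map_comp h g.op) _).symm) }
  refine ⟨s, NatTrans.ext (funext fun E => AddCommGrpCat.hom_ext (AddMonoidHom.ext fun a => ?_))⟩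
  have h := hx ((EtOver.bc hf).obj E.unop) a _ (𝟙 _) E.unop (𝟙 _)
  rw [op_id, F.obj.map_id] at h
  exact h

theorem restr_bijective : Function.Bijective (restr hf A F) :=
  ⟨restr_injective hf A hX hY F, restr_surjective hf hX hY⟩

end Groth.Agent.EtQCoh.PushConst
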