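import Groth.Agent.EtQCoh.Loci
import Groth.Agent.EtQCoh.AnnSect
import Groth.Agent.AlgSpLib.LocalBaseTop
import Mathlib.RingTheory.Noetherian.Nilpotent

/-!
# Ideals annihilating a coherent module and its support
-/

set_option backward.isDefEq.respectTransparency false
set_option backward.isDefEq.respectTransparency.types false
set_option linter.style.haveILetI false

universe u

open CategoryTheory CategoryTheory.Limits AlgebraicGeometry Opposite AlgSp

namespace Groth.Agent.EtQCoh

open Groth.Agent.AlgSpQ4.MV Groth.Agent.AlgSpDec Groth.Agent.AlgSpDec.EtStalkElts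

/-- The range of a closed immersion of affine schemes. -/
theorem mem_range_iff_ker_le {A B : Scheme.{u}} [IsAffine B] (f : A ⟶ B) [IsClosedImmersion f] (u : B) :
    u ∈ Set.range f ↔ RingHom.ker f.appTop.hom ≤ primeAtPt B u := by
  obtain ⟨hA, hs⟩ := IsClosedImmersion.isAffine_surjective_of_isAffine (f := f)
  constructor
  · rintro ⟨v, rfl⟩
    rw [← comap_primeAtPt]
    exact Ideal.comap_mono bot_le
  · intro h
    have : ((primeAtPt B u).map f.appTop.hom).IsPrime := Ideal.map_isPrime_of_surjective hs h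
    obtain ⟨v, hv⟩ := primeAtPt_surjective ((primeAtPt B u).map f.appTop.hom)
    refine ⟨v, primeAtPt_injective ?_⟩
    rw [← comap_primeAtPt, hv, Ideal.comap_map_of_surjective _ hs]
    exact sup_eq_left.2 h

variable {S : Scheme.{u}} {X : Sp S} {Z : Sp S} {i : Z ⟶ X} {I : IdealEt X}

/-- The points of a closed subspace on an affine chart. -/
theorem mem_range_iff_ideal_le (hZ : IsCutOutBy I i) (E : EtOver X) (hE : IsAffine E.obj.left.left)
    (u : ↥E.obj.left.left) :
    Points.ofPt E.obj.hom u ∈ Set.range (Points.map i) ↔ I.ideal E hE ≤ primeAtPt E.obj.left.left u := by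
  obtain ⟨hi, rfl⟩ := hZ
  have : IsClosedImmersion (EtOver.bcπ hi.1 E).left := hi.property _ _ _ (hi.1.isPullback E.obj.hom)
  refine Iff.trans ?_ (mem_range_iff_ker_le (EtOver.bcπ hi.1 E).left u)
  constructor
  · rintro ⟨x, hx⟩
    have h : Points.map i x = Points.map E.obj.hom (Points.ofScheme E.obj.left u) := by
      rw [← Points.ofPt_eq_map_ofScheme, hx]
    obtain ⟨r, -, hr₂⟩ := AlgSpLib.exists_point_of_isPullback (hi.1.isPullback E.obj.hom) h
    rw [← Points.ofScheme_toScheme _ r, Points.map_ofPt, Category.id_comp] at hr₂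
    have e := congrArg (Points.toScheme E.obj.left) hr₂
    rw [Points.toScheme_ofPt, Points.toScheme_ofScheme] at e
    exact ⟨_, e⟩
  · rintro ⟨z, rfl⟩
    exact ⟨_, ofPt_bcπ hi.1 E z⟩

variable (hX : IsAlgSpace X) (M : ModEt X) (hZ : IsCutOutBy I i)

include hX hZ

/-- A module killed by a power of the ideal has no stalks away from the closed subspace. -/
theorem subsingleton_stalk_of_pow {n : ℕ}
    (h : ∀ (E : EtOver X) (hE : IsAffine E.obj.left.left) (s : sectModEt M E), (I ^ n).ideal E hE ≤ annSect s)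
    {x : FieldPt X} (hx : x.IsGeometric) (hxZ : Points.mk x ∉ Set.range (Points.map i)) :
    Subsingleton ↥(stalkEt x ((toAbEt X).obj M)) := by
  refine subsingleton_of_forall_eq 0 fun z => ?_
  obtain ⟨L, σ, rfl⟩ := exists_gm hX hx z
  obtain ⟨L', g, hL', -⟩ := EtStalkHenz.exists_affine L ⊤ trivial
  have hu : ¬ I.ideal L'.1 hL' ≤ primeAtPt L'.1.obj.left.left (base x L') := fun hle => hxZ (by
    rw [← ofPt_base x L']
    exact (mem_range_iff_ideal_le hZ L'.1 hL' _).2 hle)
  obtain ⟨a, ha, hau⟩ := SetLike.not_le_iff_exists.1 hu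
  have hb : base x L' ∈ L'.1.obj.left.left.basicOpen a := by
    refine (Scheme.mem_basicOpen L'.1.obj.left.left a (base x L') trivial).2 ?_
    by_contra hnu
    exact hau hnu
  obtain ⟨L'', k, hL'', hr⟩ := EtStalkHenz.exists_affine L' (L'.1.obj.left.left.basicOpen a) hb
  have hunit : IsUnit (pb k.val a) := by
    have : IsAffine L''.1.obj.left.left := hL''
    refine Ideal.span_singleton_eq_top.1 ?_
    by_contra hne
    obtain ⟨m, hm, hle⟩ := Ideal.exists_le_maximal _ hne
    obtain ⟨w, hw⟩ := primeAtPt_surjective m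
    have h1 : pb k.val a ∈ primeAtPt L''.1.obj.left.left w := hw.symm ▸ hle (Ideal.mem_span_singleton_self _)
    have h2 : a ∈ primeAtPt L'.1.obj.left.left (k.val.hom.left.left w) := by
      rw [← comap_primeAtPt]
      exact h1
    exact h2 ((Scheme.mem_basicOpen L'.1.obj.left.left a _ trivial).1 (hr ⟨w, rfl⟩))
  have hzero : res M (k.val ≫ g.val) σ = 0 := by
    have h1 := (mem_annSect_iff' _ _).1 (h L'.1 hL' (res M g.val σ) (Ideal.pow_mem_pow ha n))
    have h2 := congrArg (res M k.val) h1
    rw [res_smul, map_zero, ← res_comp, map_pow] at h2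
    exact (hunit.pow n).smul_eq_zero.1 h2
  exact (gm_eq_zero_iff hX hx L σ).2 ⟨L'', k ≫ g, hzero⟩

/-- A coherent module with stalks supported on the closed subspace is killed by a power of the ideal. -/
theorem exists_pow_of_stalk (hqc : IsQuasiCompactSp X) (hN : IsLocNoethSp X) (hI : I.IsQCoh) [M.IsQuasicoherent]
    [M.IsFiniteType]
    (h : ∀ x : FieldPt X, x.IsGeometric → Points.mk x ∉ Set.range (Points.map i) →
      Subsingleton ↥(stalkEt x ((toAbEt X).obj M))) :
    ∃ n : ℕ, ∀ (E : EtOver X) (hE : IsAffine E.obj.left.left) (s : sectModEt M E),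
      (I ^ n).ideal E hE ≤ annSect s := by
  have hloc : ∀ (E : EtOver X) (hE : IsAffine E.obj.left.left) (s : sectModEt M E),
      I.ideal E hE ≤ (annSect s).radical := fun E hE s => by
    rw [Ideal.radical_eq_sInf]
    refine le_sInf fun P hP a ha => ?_
    have := hP.2
    by_contra haP
    obtain ⟨u, rfl⟩ := primeAtPt_surjective P
    obtain ⟨x, hx, hxu⟩ := EtStalkProps.exists_geometric (Points.ofPt E.obj.hom u)
    obtain ⟨l, hl⟩ := EtStalkStrict.exists_nbhd hX hx E.property hxu.symm
    have hxZ : Points.mk x ∉ Set.range (Points.map i) := by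
      rw [hxu]
      exact fun hmem => haP ((mem_range_iff_ideal_le hZ E hE u).1 hmem ha)
    have := h x hx hxZ
    let L : EtNbhd x := ⟨E, l⟩
    obtain ⟨L', g, hg⟩ := (gm_eq_zero_iff hX hx L s).1 (Subsingleton.elim _ _)
    obtain ⟨L'', k, hL'', -⟩ := EtStalkHenz.exists_affine L' ⊤ trivial
    refine res_ne_zero M (k ≫ g).val (base x L'') ?_ (show res M (k.val ≫ g.val) s = 0 by
      rw [res_comp]; exact (congrArg (res M k.val) hg).trans (map_zero _))
    have e : (k ≫ g).val.hom.left.left (base x L'') = u := (EtStalkHenz.base_map (k ≫ g)).trans hl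
    rw [e]
    exact hP.1
  choose E hE u hu using fun x : Points X => exists_affine_chart_pt hX x
  have := AlgSpLib.compactSpace_points hqc
  obtain ⟨t, ht⟩ := (isCompact_univ (X := Points X)).elim_finite_subcover
    (fun x => Set.range (Points.ofPt (E x).obj.hom))
    (fun x => (AlgSpLib.isOpenMap_ofPt (E x).property).isOpen_range) fun x _ => Set.mem_iUnion.2 ⟨x, u x, hu x⟩
  have hpt : ∀ x, ∃ n : ℕ, ∀ s : sectModEt M (E x), (I.ideal (E x) (hE x)) ^ n ≤ annSect s := fun x => by
    have := hE x
    have := isNoetherianRing_gam hN (E x)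
    obtain ⟨s, hs⟩ := (finite_sect M (E x)).fg_top
    have hex : ∀ y : sectModEt M (E x), ∃ n : ℕ, (I.ideal (E x) (hE x)) ^ n ≤ annSect y := fun y =>
      Ideal.exists_pow_le_of_le_radical_of_fg (hloc (E x) (hE x) y) (IsNoetherian.noetherian _)
    choose n hn using hex
    refine ⟨s.sup n, fun y a ha => ?_⟩
    have hy : y ∈ Submodule.span (gam (E x)) (s : Set (sectModEt M (E x))) := hs.symm ▸ trivial
    rw [mem_annSect_iff']
    induction hy using Submodule.span_induction with
    | mem y hy => exact (mem_annSect_iff' _ _).1 (hn y (Ideal.pow_le_pow_right (Finset.le_sup hy) ha))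
    | zero => exact smul_zero _
    | add p q _ _ hp hq => rw [smul_add, hp, hq, add_zero]
    | smul c p _ hp => rw [smul_comm, hp, smul_zero]
  choose n hn using hpt
  refine ⟨t.sup n, fun F hF s a ha => ?_⟩
  rw [mem_annSect_iff']
  have hcov : ∀ v : ↥F.obj.left.left, ∃ x ∈ t, ∃ w : ↥(E x).obj.left.left,
      Points.ofPt (E x).obj.hom w = Points.ofPt F.obj.hom v := fun v => by
    obtain ⟨x, hx, w, hw⟩ := Set.mem_iUnion₂.1 (ht (Set.mem_univ (Points.ofPt F.obj.hom v)))
    exact ⟨x, hx, w, hw⟩
  choose x hx w hw using hcov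
  choose W hW p q z hp hq using fun v => exists_common_chart v (w v) (hw v).symm
  refine sect_ext' M W p (fun v => ⟨v, z v, hp v⟩) fun v => ?_
  rw [res_smul, map_zero]
  have hIv : (I.ideal (W v) (hW v)) ^ t.sup n ≤ ((I.ideal (E (x v)) (hE (x v))) ^ n (x v)).map (pb (q v)) := by
    refine (Ideal.pow_le_pow_right (Finset.le_sup (hx v))).trans ?_
    rw [Ideal.map_pow]
    exact Ideal.pow_right_mono (hI (q v) (hE (x v)) (hW v)) _
  have hmem : pb (p v) a ∈ (I.ideal (W v) (hW v)) ^ t.sup n :=
    (I ^ t.sup n).map_le (p v) hF (hW v) (Ideal.mem_map_of_mem _ ha)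
  generalize res M (p v) s = y
  have hb := hIv hmem
  generalize pb (p v) a = b at hb ⊢
  letI := (pb (q v)).toAlgebra
  have := hE (x v)
  have := hW v
  obtain ⟨τ, rfl⟩ := (θ_bijective M (q v)).2 y
  induction τ with
  | zero => rw [map_zero, smul_zero]
  | add c d hc hd => rw [map_add, smul_add, hc, hd, add_zero]
  | tmul r m =>
    rw [θ_tmul, smul_comm]
    suffices H : b • res M (q v) m = 0 by rw [H, smul_zero]
    induction hb using Submodule.span_induction with
    | mem b hb =>
      obtain ⟨c, hc, rfl⟩ := hb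
      rw [← res_smul, (mem_annSect_iff' _ _).1 (hn (x v) m hc), map_zero]
    | zero => rw [zero_smul]
    | add c d _ _ hc hd => rw [add_smul, hc, hd, add_zero]
    | smul c d _ hd => rw [smul_eq_mul, mul_smul, hd, smul_zero]

end Groth.Agent.EtQCoh
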