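import Groth.Agent.EtQCoh5.Exact
import Groth.Agent.EtQCoh.FinitePres
import Groth.Agent.EtQCoh.Supp
import Mathlib.Algebra.Category.ModuleCat.Presheaf.Submodule
import Mathlib.LinearAlgebra.TensorProduct.Pi
import Mathlib.RingTheory.TensorProduct.Finite

/-!
# The submodule of sections supported on a closed subset
-/

set_option backward.isDefEq.respectTransparency false
set_option backward.isDefEq.respectTransparency.types false
set_option linter.style.haveILetI false

noncomputable section

universe u v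

open CategoryTheory CategoryTheory.Limits AlgebraicGeometry Opposite AlgSp TensorProduct

namespace Groth.Agent.EtQCoh

/-- Torsion for a finitely generated ideal commutes with flat base change. -/
theorem mem_range_lTensor_of_kill {A B : Type u} [CommRing A] [CommRing B] [Algebra A B] [Module.Flat A B]
    {P : Type v} [AddCommGroup P] [Module A P] (K : Submodule A P) {k : ℕ} (a : Fin k → A)
    (hK : ∀ x : P, (∀ j, a j • x = 0) → x ∈ K) (t : B ⊗[A] P) (ht : ∀ j, algebraMap A B (a j) • t = 0) :
    t ∈ LinearMap.range (K.subtype.lTensor B) := by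
  let f : P →ₗ[A] (Fin k → P) := LinearMap.pi fun j => LinearMap.lsmul A P (a j)
  have hf : f.lTensor B t = 0 := by
    refine (TensorProduct.piRight A A B fun _ : Fin k => P).injective (funext fun j => ?_)
    rw [map_zero, Pi.zero_apply, ← ht j]
    clear ht
    induction t with
    | zero => simp
    | tmul b x => simp [f, TensorProduct.smul_tmul', Algebra.smul_def, ← TensorProduct.smul_tmul]
    | add x y hx hy => simp only [map_add, Pi.add_apply, smul_add, hx, hy]
  obtain ⟨s, rfl⟩ := (Module.Flat.lTensor_exact B (LinearMap.exact_subtype_ker_map f) t).1 hf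
  have hle : LinearMap.ker f ≤ K := fun x hx => hK x fun j => congrFun (LinearMap.mem_ker.1 hx) j
  refine ⟨(Submodule.inclusion hle).lTensor B s, ?_⟩
  rw [← LinearMap.comp_apply, ← LinearMap.lTensor_comp, Submodule.subtype_comp_inclusion]

open Groth.Agent.AlgSpQ4.MV Groth.Agent.AlgSpDec Groth.Agent.AlgSpDec.EtStalkElts Groth.Agent.AlgSpDec.EtStalkAb
  Groth.Agent.EtQCoh5

variable {S : Scheme.{u}} {X : Sp S}

/-- The section vanishes on every object avoiding the set. -/
def Vanish (F : ModEt X) (W : Set (Points X)) {E : EtOver X} (s : sectModEt F E) : Prop :=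
  ∀ (V : EtOver X) (φ : V ⟶ E), (∀ v, Points.ofPt V.obj.hom v ∉ W) → res F φ s = 0

/-- The family of submodules of sections vanishing outside the set. -/
def vanishSub (F : ModEt X) (W : Set (Points X)) : F.val.Submodule where
  obj E :=
    { carrier := {s | Vanish F W (E := E.unop) s}
      add_mem' := fun {a b} ha hb V φ h => ((res F φ).map_add a b).trans (by rw [ha V φ h, hb V φ h, add_zero])
      zero_mem' := fun V φ _ => map_zero _
      smul_mem' := fun r s hs V φ h => (PresheafOfModules.map_smul F.val φ.op r s).trans (by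
        rw [show F.val.map φ.op s = res F φ s from rfl, hs V φ h]
        exact smul_zero _) }
  map {E E'} f := fun s hs V φ h => (res_comp F φ f.unop s).symm.trans (hs V (φ ≫ f.unop) h)

/-- Open subset outside a closed set of points. -/
def outside {W : Set (Points X)} (hW : IsClosed W) (E : EtOver X) : E.obj.left.left.Opens :=
  ⟨Points.ofPt E.obj.hom ⁻¹' Wᶜ, hW.isOpen_compl.preimage (Points.continuous_ofPt _)⟩

theorem avoid_outside {W : Set (Points X)} (hW : IsClosed W) (E : EtOver X)
    (v : ↥(etOpen E (outside hW E)).obj.left.left) : Points.ofPt (etOpen E (outside hW E)).obj.hom v ∉ W := by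
  rw [ofPt_hom (etOpenι E (outside hW E))]
  exact (range_etOpenι E (outside hW E)).le ⟨v, rfl⟩

variable (hX : IsAlgSpace X) {W : Set (Points X)} (hW : IsClosed W) (F : ModEt X)

include hX hW

/-- Vanishing outside a closed set is local. -/
theorem vanish_of_local {E : EtOver X} (s : sectModEt F E)
    (h : ∀ u : ↥E.obj.left.left, ∃ (T : EtOver X) (g : T ⟶ E),
      u ∈ Set.range g.hom.left.left ∧ Vanish F W (res F g s)) : Vanish F W s := by
  intro V φ hV
  refine (map_eq_zero_iff ((toAbEt X).obj F) hX s φ).2 ?_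
  rintro _ ⟨v, rfl⟩
  obtain ⟨T, g, ⟨y, hy⟩, hs⟩ := h (φ.hom.left.left v)
  refine (mem_zeroLocus _).2 ⟨etOpen T (outside hW T), etOpenι T (outside hW T) ≫ g, ?_, ?_⟩
  · exact (res_comp F _ g s).trans (hs _ _ (avoid_outside hW T))
  · have hy' : y ∈ outside hW T := by
      show Points.ofPt T.obj.hom y ∉ W
      rw [ofPt_hom g, hy, ← ofPt_hom φ]
      exact hV v
    obtain ⟨z, hz⟩ := (range_etOpenι T (outside hW T)).ge hy'
    exact ⟨z, (congrArg g.hom.left.left hz).trans hy⟩

theorem isSheaf_vanishSub : Presheaf.IsSheaf (etTop X) (vanishSub F W).toPresheafOfModules.presheaf := by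
  rw [Presheaf.isSheaf_iff_isSheaf_forget _ _ (CategoryTheory.forget AddCommGrpCat.{u + 1}),
    isSheaf_iff_isSheaf_of_type]
  intro E R hR x hx
  have hsh : Presieve.IsSheaf (etTop X) (F.val.presheaf ⋙ CategoryTheory.forget AddCommGrpCat) :=
    (isSheaf_iff_isSheaf_of_type _ _).1
      ((Presheaf.isSheaf_iff_isSheaf_forget _ _ (CategoryTheory.forget AddCommGrpCat)).1 F.isSheaf)
  let y : Presieve.FamilyOfElements (F.val.presheaf ⋙ CategoryTheory.forget AddCommGrpCat) R.arrows :=
    fun V f hf => (x f hf).1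
  have hy : y.Compatible := fun Y₁ Y₂ Z g₁ g₂ f₁ f₂ h₁ h₂ e => congrArg Subtype.val (hx g₁ g₂ h₁ h₂ e)
  obtain ⟨z, hz, huniq⟩ := hsh R hR y hy
  have hzv : Vanish F W (E := E) z := by
    obtain ⟨P, hP, hPR⟩ := (etPre X).mem_toGrothendieck_iff_of_isStableUnderComposition.1 hR
    obtain ⟨κ, T, f, rfl⟩ := P.exists_eq_ofArrows
    refine vanish_of_local hX hW F z fun u => ?_
    obtain ⟨k, t, ht⟩ := (ofArrows_mem_etPre_iff T f).1 hP u
    refine ⟨T k, f k, ⟨t, ht⟩, ?_⟩
    have hk : R (f k) := hPR _ _ (Presieve.ofArrows.mk k)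
    rw [show res F (f k) z = (x (f k) hk).1 from hz (f k) hk]
    exact (x (f k) hk).2
  exact ⟨⟨z, hzv⟩, fun V f hf => Subtype.ext (hz f hf),
    fun t ht => Subtype.ext (huniq t.1 fun V f hf => congrArg Subtype.val (ht f hf))⟩

/-- The subsheaf of sections vanishing outside a closed set. -/
def suppSheaf : ModEt X := ⟨(vanishSub F W).toPresheafOfModules, isSheaf_vanishSub hX hW F⟩

/-- The inclusion. -/
def suppι : suppSheaf hX hW F ⟶ F := ⟨(vanishSub F W).ι⟩

instance mono_suppι : Mono (suppι hX hW F) :=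
  have : Mono ((SheafOfModules.forget (OEtRing X)).map (suppι hX hW F)) :=
    inferInstanceAs (Mono (vanishSub F W).ι)
  (SheafOfModules.forget (OEtRing X)).mono_of_mono_map this

omit hX in
/-- The closed set is cut out by an ideal on an affine object. -/
theorem exists_ideal (E : EtOver X) [IsAffine E.obj.left.left] :
    ∃ J : Ideal (gam E), ∀ u, Points.ofPt E.obj.hom u ∈ W ↔ J ≤ primeAtPt E.obj.left.left u := by
  refine ⟨⨅ (u) (_ : Points.ofPt E.obj.hom u ∈ W), primeAtPt E.obj.left.left u, fun u => ⟨fun h => iInf₂_le u h,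
    fun h => ?_⟩⟩
  by_contra hu
  obtain ⟨a, ha, hua⟩ := (isAffineOpen_top E.obj.left.left).exists_basicOpen_le
    (V := outside hW E) ⟨u, hu⟩ trivial
  have hua' : a ∉ primeAtPt E.obj.left.left u := fun hm =>
    hm ((Scheme.mem_basicOpen E.obj.left.left a u trivial).1 hua)
  refine hua' (h ?_)
  simp only [Submodule.mem_iInf]
  intro w hw
  by_contra hwa
  exact ha ((Scheme.mem_basicOpen E.obj.left.left a w trivial).2 (not_not.1 hwa)) hw

variable [F.IsQuasicoherent]

omit hX hW in
/-- Sections killed by a power of the ideal vanish outside. -/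
theorem vanish_of_pow {E : EtOver X} [IsAffine E.obj.left.left] (J : Ideal (gam E))
    (hJ : ∀ u, Points.ofPt E.obj.hom u ∈ W ↔ J ≤ primeAtPt E.obj.left.left u) {n : ℕ} (s : sectModEt F E)
    (hs : J ^ n ≤ annSect s) : Vanish F W s := by
  intro V φ hV
  obtain ⟨ι, T, hT, k, -, hc⟩ := exists_affine_open_cover V
  refine sect_ext' F T k hc fun i => ?_
  rw [map_zero, ← res_comp]
  have := hT i
  have htop : J.map (pb (k i ≫ φ)) = ⊤ := by
    by_contra hne
    obtain ⟨m, hm, hle⟩ := Ideal.exists_le_maximal _ hne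
    obtain ⟨w, hw⟩ := primeAtPt_surjective m
    refine hV ((k i).hom.left.left w) ?_
    rw [ofPt_hom φ]
    refine (hJ _).2 ?_
    rw [show φ.hom.left.left ((k i).hom.left.left w) = (k i ≫ φ).hom.left.left w from rfl, ← comap_primeAtPt, hw,
      ← Ideal.map_le_iff_le_comap]
    exact hle
  have h1 : annSect (res F (k i ≫ φ) s) = ⊤ := by
    rw [eq_top_iff, annSect_res, ← Ideal.top_pow (gam (T i)) n, ← htop, ← Ideal.map_pow]
    exact Ideal.map_mono hs
  have h2 := (mem_annSect_iff' _ _).1 (h1.ge (show (1 : gam (T i)) ∈ (⊤ : Ideal _) from trivial))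
  rwa [one_smul] at h2

omit hX in
/-- On a noetherian affine object sections vanishing outside are killed by a power of the ideal. -/
theorem exists_pow_of_vanish {E : EtOver X} [IsAffine E.obj.left.left] [IsNoetherianRing (gam E)] (J : Ideal (gam E))
    (hJ : ∀ u, Points.ofPt E.obj.hom u ∈ W ↔ J ≤ primeAtPt E.obj.left.left u) (s : sectModEt F E)
    (hs : Vanish F W s) : ∃ n : ℕ, J ^ n ≤ annSect s := by
  refine Ideal.exists_pow_le_of_le_radical_of_fg ?_ (IsNoetherian.noetherian J)
  rw [Ideal.radical_eq_sInf]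
  refine le_sInf fun P hP => ?_
  have := hP.2
  obtain ⟨u, rfl⟩ := primeAtPt_surjective P
  refine (hJ u).1 ?_
  by_contra hu
  obtain ⟨O, hO, huO, hOW⟩ := exists_isAffineOpen_mem_and_subset (U := outside hW E) (x := u) hu
  obtain ⟨z, hz⟩ := (range_etOpenι E O).ge huO
  have : IsAffine (etOpen E O).obj.left.left := hO
  refine res_ne_zero F (etOpenι E O) z ?_ (hs _ _ fun v => ?_)
  · rw [hz]
    exact hP.1
  · rw [ofPt_hom (etOpenι E O)]
    exact hOW ((range_etOpenι E O).le ⟨v, rfl⟩)

variable (hN : IsLocNoethSp X) [F.IsFiniteType]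

include hN

omit hX in
/-- The sections of the subsheaf on affine objects: torsion for the ideal. -/
theorem exists_uniform_pow {E : EtOver X} [IsAffine E.obj.left.left] (J : Ideal (gam E))
    (hJ : ∀ u, Points.ofPt E.obj.hom u ∈ W ↔ J ≤ primeAtPt E.obj.left.left u) :
    ∃ n : ℕ, ∀ s : sectModEt F E, Vanish F W s → J ^ n ≤ annSect s := by
  have := isNoetherianRing_gam hN E
  have := finite_sect F E
  let K : Submodule (gam E) (sectModEt F E) :=
    { carrier := {s | Vanish F W s}
      add_mem' := fun {a b} ha hb V φ h => ((res F φ).map_add a b).trans (by rw [ha V φ h, hb V φ h, add_zero])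
      zero_mem' := fun V φ _ => map_zero _
      smul_mem' := fun r s hs V φ h => by rw [res_smul, hs V φ h, smul_zero] }
  obtain ⟨t, ht⟩ := IsNoetherian.noetherian K
  have hex : ∀ y : sectModEt F E, ∃ n : ℕ, y ∈ K → J ^ n ≤ annSect y := fun y => by
    by_cases hy : y ∈ K
    · obtain ⟨n, hn⟩ := exists_pow_of_vanish hW F J hJ y hy
      exact ⟨n, fun _ => hn⟩
    · exact ⟨0, fun h => absurd h hy⟩
  choose n hn using hex
  refine ⟨t.sup n, fun s hs a ha => ?_⟩
  have hs' : s ∈ Submodule.span (gam E) (t : Set (sectModEt F E)) := ht.symm ▸ (hs : s ∈ K)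
  rw [mem_annSect_iff']
  clear hs
  induction hs' using Submodule.span_induction with
  | mem y hy =>
    exact (mem_annSect_iff' _ _).1 (hn y (ht.le (Submodule.subset_span hy)) (Ideal.pow_le_pow_right (Finset.le_sup hy) ha))
  | zero => exact smul_zero _
  | add p q _ _ hp hq => rw [smul_add, hp, hq, add_zero]
  | smul c p _ hp => rw [smul_comm, hp, smul_zero]

theorem cartMap_suppSheaf {E T : EtOver X} [IsAffine E.obj.left.left] [IsAffine T.obj.left.left] (g : T ⟶ E) :
    CartMap (suppSheaf hX hW F) g := by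
  letI := (pb g).toAlgebra
  have : Module.Flat (gam E) (gam T) := flat_pb g
  have := isNoetherianRing_gam hN E
  have := isNoetherianRing_gam hN T
  let iE := sapp (suppι hX hW F) E
  have hsq : ∀ t, θ F g (iE.lTensor (gam T) t) = sapp (suppι hX hW F) T (θ (suppSheaf hX hW F) g t) :=
    θ_naturality (suppι hX hW F) g
  refine ⟨fun t t' h => Module.Flat.lTensor_preserves_injective_linearMap iE (sapp_injective _ E)
    ((θ_bijective F g).1 (by rw [hsq, hsq, h])), fun x => ?_⟩
  obtain ⟨J, hJ⟩ := exists_ideal hW E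
  have hJ' : ∀ v, Points.ofPt T.obj.hom v ∈ W ↔ J.map (pb g) ≤ primeAtPt T.obj.left.left v := fun v => by
    rw [ofPt_hom g, hJ, Ideal.map_le_iff_le_comap, comap_primeAtPt]
  obtain ⟨m, hm⟩ := exists_pow_of_vanish hW F (J.map (pb g)) hJ' x.1 x.2
  obtain ⟨k, a, ha⟩ := Submodule.fg_iff_exists_fin_generating_family.1 (IsNoetherian.noetherian (J ^ m))
  obtain ⟨t, ht⟩ := (θ_bijective F g).2 x.1
  have key : t ∈ LinearMap.range ((LinearMap.range iE).subtype.lTensor (gam T)) := by
    refine mem_range_lTensor_of_kill _ a (fun y hy => ?_) t fun j => (θ_bijective F g).1 ?_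
    · refine ⟨⟨y, vanish_of_pow F J hJ (n := m) y ?_⟩, rfl⟩
      refine ha.ge.trans (Submodule.span_le.2 ?_)
      rintro _ ⟨j, rfl⟩
      exact (mem_annSect_iff' _ _).2 (hy j)
    · rw [map_zero, θ_smul, ht]
      refine (mem_annSect_iff' _ _).1 (hm ?_)
      rw [← Ideal.map_pow]
      exact Ideal.mem_map_of_mem _ (ha.le (Submodule.subset_span ⟨j, rfl⟩))
  obtain ⟨s, hs⟩ := key
  obtain ⟨s', rfl⟩ := LinearMap.lTensor_surjective (gam T) iE.surjective_rangeRestrict s
  rw [← LinearMap.comp_apply, ← LinearMap.lTensor_comp, LinearMap.subtype_comp_codRestrict] at hs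
  refine ⟨s', sapp_injective (suppι hX hW F) T ?_⟩
  rw [← hsq, hs, ht]
  rfl

theorem isQuasicoherent_suppSheaf : (suppSheaf hX hW F).IsQuasicoherent :=
  isQuasicoherent_of_cartAt fun _ _ _ _ g => cartMap_suppSheaf hX hW F hN g

theorem isFinitePresentation_suppSheaf : (suppSheaf hX hW F).IsFinitePresentation := by
  have := isQuasicoherent_suppSheaf hX hW F hN
  refine isFinitePresentation_of_finite hN _ fun E hE => ?_
  have := hE
  have := isNoetherianRing_gam hN E
  have := finite_sect F E
  exact Module.Finite.of_injective (sapp (suppι hX hW F) E) (sapp_injective _ E)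

theorem cokernel_suppι_isFinitePresentation : (cokernel (suppι hX hW F)).IsFinitePresentation := by
  have hq := isQuasicoherent_suppSheaf hX hW F hN
  have := isQuasicoherent_cokernel (suppι hX hW F) hq inferInstance
  refine isFinitePresentation_of_finite hN _ fun E hE => ?_
  have := hE
  have := finite_sect F E
  exact Module.Finite.of_surjective (sapp (cokernel.π (suppι hX hW F)) E)
    (sapp_surjective (ShortComplex.mk (suppι hX hW F) (cokernel.π _) (cokernel.condition _))
      { exact := ShortComplex.exact_cokernel _ } (fun T hT => cartAt _ T) E)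

omit hN [F.IsFiniteType] [F.IsQuasicoherent] in
/-- The subsheaf has no stalks outside the closed set. -/
theorem subsingleton_stalk_suppSheaf {x : FieldPt X} (hx : x.IsGeometric) (hxW : Points.mk x ∉ W) :
    Subsingleton ↥(stalkEt x ((toAbEt X).obj (suppSheaf hX hW F))) := by
  refine subsingleton_of_forall_eq 0 fun z => ?_
  obtain ⟨L, σ, rfl⟩ := exists_gm hX hx z
  have hb : base x L ∈ outside hW L.1 := by
    show Points.ofPt L.1.obj.hom (base x L) ∉ W
    rwa [ofPt_base]
  obtain ⟨L', g, -, hr⟩ := EtStalkHenz.exists_affine L (outside hW L.1) hb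
  refine (gm_eq_zero_iff hX hx L σ).2 ⟨L', g, Subtype.ext ?_⟩
  exact σ.2 L'.1 g.val fun v => by rw [ofPt_hom g.val]; exact hr ⟨v, rfl⟩

/-- The quotient has no stalks where all nearby support is in the closed set. -/
theorem subsingleton_stalk_cokernel {Z : Set (Points X)} (hZ : IsClosed Z)
    (hsupp : ∀ y : FieldPt X, y.IsGeometric → Points.mk y ∉ Z → Points.mk y ∉ W →
      Subsingleton ↥(stalkEt y ((toAbEt X).obj F)))
    {x : FieldPt X} (hx : x.IsGeometric) (hxZ : Points.mk x ∉ Z) :
    Subsingleton ↥(stalkEt x ((toAbEt X).obj (cokernel (suppι hX hW F)))) := by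
  refine subsingleton_of_forall_eq 0 fun z => ?_
  obtain ⟨L, σ, rfl⟩ := exists_gm hX hx z
  have hb : base x L ∈ outside hZ L.1 := by
    show Points.ofPt L.1.obj.hom (base x L) ∉ Z
    rwa [ofPt_base]
  obtain ⟨L', g, hL', hr⟩ := EtStalkHenz.exists_affine L (outside hZ L.1) hb
  have := hL'
  obtain ⟨y, hy⟩ := sapp_surjective (ShortComplex.mk (suppι hX hW F) (cokernel.π _) (cokernel.condition _))
      { exact := ShortComplex.exact_cokernel _ }
      (fun T hT => @cartAt _ _ _ (isQuasicoherent_suppSheaf hX hW F hN) T hT) L'.1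
      (res (cokernel (suppι hX hW F)) g.val σ)
  have hyv : Vanish F W y := fun V φ hV => by
    refine (map_eq_zero_iff ((toAbEt X).obj F) hX y φ).2 ?_
    rintro _ ⟨v, rfl⟩
    obtain ⟨p, hp, hpv⟩ := EtStalkProps.exists_geometric (Points.ofPt V.obj.hom v)
    obtain ⟨l, hl⟩ := EtStalkStrict.exists_nbhd hX hp L'.1.property
      (u := φ.hom.left.left v) ((ofPt_hom φ v).symm.trans hpv.symm)
    rw [← hl]
    refine (stalkι_eq_zero_iff_mem ((toAbEt X).obj F) hX hp ⟨L'.1, l⟩ y).1 ?_
    have := hsupp p hp ?_ (by rw [hpv]; exact hV v)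
    · exact Subsingleton.elim _ _
    · rw [hpv, ofPt_hom φ, ofPt_hom g.val]
      exact hr ⟨_, rfl⟩
  refine (gm_eq_zero_iff hX hx L σ).2 ⟨L', g, ?_⟩
  rw [← hy]
  exact congrArg (fun ψ : suppSheaf hX hW F ⟶ cokernel (suppι hX hW F) => sapp ψ L'.1 ⟨y, hyv⟩)
    (cokernel.condition (suppι hX hW F))

end Groth.Agent.EtQCoh
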